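import Cfsg.Agent.GW.Def
import Cfsg.Agent.PF.OddOrder
import Cfsg.Agent.BS.Invol

/-! Gorenstein-Walter: basic facts. -/

set_option autoImplicit false
set_option linter.unusedSectionVars false
set_option linter.unusedVariables false

namespace Cfsg.Agent.GW

open Cfsg Subgroup Cfsg.Agent.GT Cfsg.Agent.Cls
open scoped commutatorElement

universe u

variable {G : Type u} [Group G] [Finite G] {S A B E H I K L M P R W X Y : Subgroup G}
  {t s u v w x y g σ : G} {p : ℕ}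

theorem sq1 (ht : orderOf t = 2) : t * t = 1 := BS.mul_self_of_orderOf ht
theorem ne1 (ht : orderOf t = 2) : t ≠ 1 := BS.ne_one_of_orderOf_two ht
theorem ord2 (h : t * t = 1) (h1 : t ≠ 1) : orderOf t = 2 := BS.orderOf_eq_two_of h h1
theorem inv2 (ht : orderOf t = 2) : t⁻¹ = t := inv_eq_of_mul_eq_one_right (sq1 ht)
theorem ord2_conj (ht : orderOf t = 2) (g : G) : orderOf (g * t * g⁻¹) = 2 := by
  rw [orderOf_conj, ht]
theorem ord2_mul (ht : orderOf t = 2) (hv : orderOf v = 2) (hvt : v ≠ t) (c : v * t = t * v) :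
    orderOf (t * v) = 2 :=
  ord2 (by rw [mul_assoc, ← mul_assoc v, c, mul_assoc, sq1 hv, mul_one, sq1 ht]) fun e =>
    hvt (by rw [← inv2 ht]; exact eq_inv_of_mul_eq_one_right e)
theorem pg2 (ht : orderOf t = 2) : IsPGroup 2 (zpowers t) :=
  PG.isPGroup_zpowers_of_pow_eq_one (k := 1) (by rw [pow_one, pow_two, sq1 ht])

theorem odd_iff_pi : IsPiSubgroup ({2} : Set ℕ)ᶜ H ↔ Odd (Nat.card H) := by
  rw [isPiSubgroup_single_compl_iff Nat.prime_two, ← Nat.not_even_iff_odd, even_iff_two_dvd]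
theorem odd_iff_piNat {n : ℕ} : PiNat ({2} : Set ℕ)ᶜ n ↔ Odd n := by
  rw [piNat_single_compl_iff Nat.prime_two, ← Nat.not_even_iff_odd, even_iff_two_dvd]
theorem O_odd (L : Subgroup G) : Odd (Nat.card O[L]) := odd_iff_pi.1 (piCoreOf_isPi _ _)
theorem solv_odd (h : Odd (Nat.card H)) : Group.IsSolvable H := PF.odd_order_solvable h
theorem O_solv (L : Subgroup G) : Group.IsSolvable O[L] := solv_odd (O_odd L)
theorem O_le (L : Subgroup G) : O[L] ≤ L := piCoreOf_le _ _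
theorem O_norm (L : Subgroup G) : L ≤ N[O[L]] := self_le_norm_piCoreOf _ _
theorem le_O (h1 : X ≤ L) (h2 : L ≤ N[X]) (h3 : Odd (Nat.card X)) : X ≤ O[L] :=
  le_piCoreOf h1 h2 (odd_iff_pi.2 h3)
theorem odd_ord (h : Odd (Nat.card H)) (hx : x ∈ H) : Odd (orderOf x) :=
  h.of_dvd_nat (orderOf_dvd_card_of_mem hx)
theorem odd_p (hp : p.Prime) (hp2 : p ≠ 2) (h : IsPGroup p H) : Odd (Nat.card H) :=
  haveI := Fact.mk hp; PG.odd_card_of_isPGroup hp2 h
theorem Op_le_O (hp2 : p ≠ 2) (L : Subgroup G) : piCoreOf {p} L ≤ O[L] :=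
  piCoreOf_single_le (by simpa using hp2)
theorem eq1_of_odd (h : Odd (orderOf x)) (e : x * x = 1) : x = 1 := by
  by_contra h1
  rw [ord2 e h1] at h
  exact absurd h (by decide)
theorem eq1_of_inv (h : Odd (orderOf x)) (e : x⁻¹ = x) : x = 1 :=
  eq1_of_odd h (by nth_rewrite 1 [← e]; exact inv_mul_cancel x)
theorem cop2 (h : Odd (Nat.card H)) (ht : orderOf t = 2) :
    (Nat.card H).Coprime (Nat.card (zpowers t)) := by
  rw [Nat.card_zpowers, ht]; exact Nat.coprime_two_right.2 h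
theorem cop2' (h : Odd (Nat.card H)) (hP : IsPGroup 2 P) : (Nat.card H).Coprime (Nat.card P) :=
  (odd_iff_pi.2 h).coprime' (isPi_of_isPGroup Nat.prime_two hP)
theorem zp_norm (h : x ∈ N[H]) : zpowers x ≤ N[H] := zpowers_le.2 h
theorem exists_inv (h : Even (Nat.card H)) : ∃ x ∈ H, orderOf x = 2 :=
  exists_mem_orderOf_eq Nat.prime_two h.two_dvd

theorem tt (ht : t * t = 1) (x : G) : t * (t * x) = x := by rw [← mul_assoc, ht, one_mul]

/-- decomposition under an involution. -/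
theorem dec2 (ht : t * t = 1) (hn : t ∈ N[H]) (ho : Odd (Nat.card H)) (hy : y ∈ H) :
    ∃ c ∈ H ⊓ C1[t], ∃ a ∈ ⁅H, zpowers t⁆, t * a * t⁻¹ = a⁻¹ ∧ y = c * a := by
  have hd : ⁅y⁻¹, t⁆ ∈ ⁅H, zpowers t⁆ := commutator_mem_commutator (inv_mem hy) (mem_zpowers t)
  have hle : ⁅H, zpowers t⁆ ≤ H := commutator_le_of_le_norm_left (zp_norm hn)
  set d := ⁅y⁻¹, t⁆ with hd'
  have ti : t⁻¹ = t := inv_eq_of_mul_eq_one_right ht
  have h1 : t * d * t⁻¹ = d⁻¹ := by
    simp only [hd', commutatorElement_def, ti, inv_inv, mul_inv_rev, mul_assoc, ht, mul_one]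
  obtain ⟨k, hk⟩ := odd_ord ho (hle hd)
  have h2 : d ^ (k + 1) * d ^ (k + 1) = d := by
    rw [← pow_add, show k + 1 + (k + 1) = (2 * k + 1) + 1 by ring, ← hk, pow_succ,
      pow_orderOf_eq_one, one_mul]
  have h3 : t * d ^ (k + 1) * t⁻¹ = (d ^ (k + 1))⁻¹ := by rw [← conj_pow, h1, inv_pow]
  refine ⟨y * d ^ (k + 1), ⟨mul_mem hy (pow_mem (hle hd) _), mem_cent1.2 ?_⟩, (d ^ (k + 1))⁻¹,
    inv_mem (pow_mem hd _), by rw [← conj_inv, h3], by group⟩
  have h4 : t * y * t⁻¹ = y * d := by rw [hd', commutatorElement_def]; group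
  have : t * (y * d ^ (k + 1)) * t⁻¹ = y * d ^ (k + 1) := by
    rw [show t * (y * d ^ (k + 1)) * t⁻¹ = t * y * t⁻¹ * (t * d ^ (k + 1) * t⁻¹) by group, h4, h3]
    nth_rewrite 1 [← h2]; group
  nth_rewrite 1 [← this]; group

theorem inv_of_fpf (ht : t * t = 1) (hn : t ∈ N[H]) (ho : Odd (Nat.card H)) (h : H ⊓ C1[t] = ⊥)
    (hy : y ∈ H) : t * y * t⁻¹ = y⁻¹ := by
  obtain ⟨c, hc, a, -, ha, rfl⟩ := dec2 ht hn ho hy
  rw [h, mem_bot] at hc
  rwa [hc, one_mul]

theorem comm_of_inv (h : ∀ y ∈ H, t * y * t⁻¹ = y⁻¹) : IsMulCommutative H := by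
  refine isMulCommutative_iff_forall.2 fun x hx y hy => ?_
  have := h _ (mul_mem hx hy)
  rw [show t * (x * y) * t⁻¹ = (t * x * t⁻¹) * (t * y * t⁻¹) by group, h x hx,
    h y hy, ← mul_inv_rev, inv_inj] at this
  exact this.symm

theorem fpf_of_inv (ho : Odd (Nat.card H)) (h : ∀ y ∈ H, t * y * t⁻¹ = y⁻¹) : H ⊓ C1[t] = ⊥ :=
  eq_bot_iff.2 fun y hy => mem_bot.2 (eq1_of_inv (odd_ord ho hy.1) (by
    rw [← h y hy.1, ← mem_cent1.1 hy.2, mul_inv_cancel_right]))

theorem eq1_of_inv_fix (ho : Odd (orderOf y)) (h : t * y * t⁻¹ = y⁻¹) (c : y ∈ C1[t]) : y = 1 :=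
  eq1_of_inv ho (by rw [← h, ← mem_cent1.1 c, mul_inv_cancel_right])

/-- an element inverted by `t` of odd order lies in the commutator subgroup. -/
theorem mem_comm_of_inv (hy : y ∈ H) (ho : Odd (orderOf y)) (h : t * y * t⁻¹ = y⁻¹) :
    y ∈ ⁅H, zpowers t⁆ := by
  refine PG.mem_of_sq_mem_of_odd ho ?_
  have := commutator_mem_commutator hy (mem_zpowers t)
  rwa [commutatorElement_def, show y * t * y⁻¹ * t⁻¹ = y * (t * y * t⁻¹)⁻¹ by group, h,
    inv_inv] at this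

theorem comm_eq_of_inv (hn : t ∈ N[H]) (ho : Odd (Nat.card H)) (h : ∀ y ∈ H, t * y * t⁻¹ = y⁻¹) :
    ⁅H, zpowers t⁆ = H :=
  le_antisymm (commutator_le_of_le_norm_left (zp_norm hn)) fun y hy =>
    mem_comm_of_inv hy (odd_ord ho hy) (h y hy)

theorem comm_comm2 (ht : orderOf t = 2) (hn : t ∈ N[H]) (ho : Odd (Nat.card H)) :
    ⁅⁅H, zpowers t⁆, zpowers t⁆ = ⁅H, zpowers t⁆ :=
  coprime_commutator_commutator (Or.inl (solv_odd ho)) (zp_norm hn) (cop2 ho ht)

theorem comm_eq_bot_iff : ⁅H, zpowers t⁆ = ⊥ ↔ H ≤ C1[t] := by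
  rw [← cent_zpowers, le_cent_iff_commutator_eq_bot]

theorem mem_cent_iff : t ∈ C[H] ↔ H ≤ C1[t] := mem_cent_iff_le_cent1

/-- the four-group generated by two commuting involutions. -/
theorem mem_V (ht : orderOf t = 2) (hv : orderOf v = 2) (c : v * t = t * v) :
    x ∈ zpowers t ⊔ zpowers v ↔ x = 1 ∨ x = t ∨ x = v ∨ x = t * v := by
  classical
  have z2 : ∀ {a b : G}, orderOf a = 2 → b ∈ zpowers a → b = 1 ∨ b = a := fun {a b} ha hb => by
    rw [mem_zpowers_iff_mem_range_orderOf, ha] at hb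
    obtain ⟨k, hk, rfl⟩ := Finset.mem_image.1 hb
    have : k = 0 ∨ k = 1 := by simp at hk; omega
    rcases this with rfl | rfl <;> simp
  constructor
  · intro h
    obtain ⟨a, ha, b, hb, rfl⟩ := (mem_sup_of_le_norm (le_norm_of_cent (by
      rw [cent_zpowers, zpowers_le]; exact mem_cent1.2 c.symm))).1 h
    rcases z2 ht ha with rfl | rfl <;> rcases z2 hv hb with rfl | rfl <;> simp
  · rintro (rfl | rfl | rfl | rfl)
    · exact one_mem _
    · exact mem_sup_left (mem_zpowers _)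
    · exact mem_sup_right (mem_zpowers _)
    · exact mul_mem (mem_sup_left (mem_zpowers _)) (mem_sup_right (mem_zpowers _))

theorem V_comm (c : v * t = t * v) : IsMulCommutative ↥(zpowers t ⊔ zpowers v) :=
  isMulCommutative_sup (PG.isMulCommutative_zpowers t) (PG.isMulCommutative_zpowers v) (by
    rw [cent_zpowers, zpowers_le]; exact mem_cent1.2 c.symm)

theorem V_pg (ht : orderOf t = 2) (hv : orderOf v = 2) (c : v * t = t * v) :
    IsPGroup 2 ↥(zpowers t ⊔ zpowers v) :=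
  PG.isPGroup_of_forall_pow fun x hx => by
    rcases (mem_V ht hv c).1 hx with rfl | rfl | rfl | rfl
    · simp
    · rw [pow_two, sq1 ht]
    · rw [pow_two, sq1 hv]
    · rw [pow_two, mul_assoc, ← mul_assoc v, c, mul_assoc, sq1 hv, mul_one, sq1 ht]

theorem V_nc (ht : orderOf t = 2) (hv : orderOf v = 2) (hvt : v ≠ t) :
    ¬ IsCyclic ↥(zpowers t ⊔ zpowers v) := fun h =>
  hvt (eq_of_sq_of_isCyclic h (mem_sup_right (mem_zpowers _)) (mem_sup_left (mem_zpowers _))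
    (sq1 hv) (sq1 ht) (ne1 hv) (ne1 ht))

theorem V_le (h1 : t ∈ H) (h2 : v ∈ H) : zpowers t ⊔ zpowers v ≤ H :=
  sup_le (zpowers_le.2 h1) (zpowers_le.2 h2)

theorem cent_V : C[zpowers t ⊔ zpowers v] = C1[t] ⊓ C1[v] := by
  rw [cent_sup, cent_zpowers, cent_zpowers]

theorem gen3 (ht : orderOf t = 2) (hv : orderOf v = 2) (hvt : v ≠ t) (c : v * t = t * v)
    (ho : Odd (Nat.card H)) (n1 : t ∈ N[H]) (n2 : v ∈ N[H]) (h1 : H ⊓ C1[t] ≤ X)
    (h2 : H ⊓ C1[v] ≤ X) (h3 : H ⊓ C1[t * v] ≤ X) : H ≤ X :=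
  coprime_abelian_gen_cent1 (V_comm c) (V_nc ht hv hvt) (V_le n1 n2) (cop2' ho (V_pg ht hv c))
    fun a ha ha1 => by
      rcases (mem_V ht hv c).1 ha with rfl | rfl | rfl | rfl
      exacts [absurd rfl ha1, h1, h2, h3]

theorem c1_mul (h1 : x ∈ C1[t]) (h2 : x ∈ C1[v]) : x ∈ C1[t * v] :=
  mem_cent1_comm.1 (mul_mem (mem_cent1_comm.1 h1) (mem_cent1_comm.1 h2))

/-- `x` inverts `y`, `C_R(x) ≤ C_R(y)` forces `y` to centralize the nilpotent group `R`. -/
theorem lem_inv (hR : Group.IsNilpotent R) (hRo : Odd (Nat.card R)) (x2 : x * x = 1)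
    (hx : x ∈ N[R]) (hy : y ∈ N[R]) (cy : (Nat.card R).Coprime (orderOf y))
    (hi : x * y * x⁻¹ = y⁻¹) (ho : Odd (orderOf y)) (h : R ⊓ C1[x] ≤ C1[y]) : y ∈ C[R] := by
  rw [mem_cent_iff]
  by_contra hn
  have hlt : R ⊓ C1[y] < R := lt_of_le_of_ne inf_le_left fun e => hn (e ▸ inf_le_right)
  have h1 := lt_inf_norm_of_nilpotent hR hlt
  set C := R ⊓ C1[y] with hC
  set N := R ⊓ N[C] with hN
  have xy : x ∈ N[zpowers y] := mem_normalizer_of_conj_le (by
    rw [conj_zpowers, hi, zpowers_inv])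
  have xC : zpowers x ≤ N[C] := le_norm_inf (zp_norm hx) (by
    rw [← cent_zpowers]; exact le_norm_cent (zp_norm xy))
  have yC : zpowers y ≤ N[C] := le_norm_inf (zp_norm hy) (le_norm_cent1 (zpowers_le.2
    (self_mem_cent1 y)))
  have xN : zpowers x ≤ N[N] := le_norm_inf (zp_norm hx) (le_norm_norm xC)
  have yN : zpowers y ≤ N[N] := le_norm_inf (zp_norm hy) (le_norm_norm yC)
  have NC : N ≤ N[C] := inf_le_right
  have a1 : ∀ n ∈ N, x * n * x⁻¹ * n ∈ C := fun n hn => by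
    obtain ⟨c, hc, a, ha, e, rfl⟩ := dec2 x2 (xN (mem_zpowers x))
      (odd_card_of_le hRo inf_le_left) hn
    have hcC : c ∈ C := ⟨hc.1.1, h ⟨hc.1.1, hc.2⟩⟩
    rw [show x * (c * a) * x⁻¹ = (x * c) * x⁻¹ * (x * a * x⁻¹) by group, e, ← mem_cent1.1 hc.2,
      show c * x * x⁻¹ * a⁻¹ * (c * a) = c * (a⁻¹ * c * a) by group]
    exact mul_mem hcC (conj_mem_of_le_norm' NC (commutator_le_of_le_norm_left xN ha) hcC)
  obtain ⟨j, hj⟩ := ho
  have hk : y ^ (j + 1) * y ^ (j + 1) = y := by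
    rw [← pow_add, show j + 1 + (j + 1) = (2 * j + 1) + 1 by ring, ← hj, pow_succ,
      pow_orderOf_eq_one, one_mul]
  set k := y ^ (j + 1) with hk'
  have hkz : k ∈ zpowers y := pow_mem (mem_zpowers y) _
  have e1 : x * k * x⁻¹ = k⁻¹ := by rw [hk', ← conj_pow, hi, inv_pow]
  have e2 : y * x = k * x * k⁻¹ := by
    rw [← e1, ← hk, show k * x * (x * k * x⁻¹) = k * (x * x) * k * x⁻¹ by group, x2,
      inv_eq_of_mul_eq_one_right x2, mul_one]
  have a2 : ⁅N, zpowers y⁆ ≤ C := by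
    rw [commutator_comm]
    refine PG.commutator_zpowers_le (yC (mem_zpowers y)) fun n hn => ?_
    have n1 := conj_mem_of_le_norm xN (mem_zpowers x) hn
    have b1 := conj_mem_of_le_norm yC hkz (a1 _ (conj_mem_of_le_norm' yN hkz n1))
    have b2 := conj_mem_of_le_norm NC hn (a1 n hn)
    have := mul_mem b1 (inv_mem b2)
    rw [show k * (x * (k⁻¹ * (x * n * x⁻¹) * k) * x⁻¹ * (k⁻¹ * (x * n * x⁻¹) * k)) * k⁻¹ *
      (n * (x * n * x⁻¹ * n) * n⁻¹)⁻¹ = (k * x * k⁻¹) * x * n * ((k * x * k⁻¹) * x)⁻¹ * n⁻¹ by group,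
      ← e2, mul_assoc y x x, x2, mul_one] at this
    exact this
  have a3 := le_cent_of_commutator_le_of_coprime a2 (by rw [cent_zpowers]; exact inf_le_right)
    (by rw [Nat.card_zpowers]; exact cy.coprime_dvd_left (card_dvd_of_le inf_le_left))
  rw [cent_zpowers] at a3
  exact h1.not_ge (le_inf inf_le_left a3)

/-! ### dihedral groups -/

theorem _root_.Cfsg.Agent.Cls.Dih.inv (h : Dih S A) (hs : s ∈ S) (hsA : s ∉ A) (hx : x ∈ A) :
    s * x * s⁻¹ = x⁻¹ := by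
  have h1 := h.sq s hs hsA
  have h2 := h.sq (s * x) (mul_mem hs (h.le hx)) fun e => hsA (by simpa using mul_mem e (inv_mem hx))
  rw [pow_two] at h1 h2
  rw [inv_eq_of_mul_eq_one_right h1]
  exact eq_inv_of_mul_eq_one_left (by rw [← h2]; group)

theorem _root_.Cfsg.Agent.Cls.Dih.mul_mem (h : Dih S A) (hx : x ∈ S) (hy : y ∈ S) (hx' : x ∉ A)
    (hy' : y ∉ A) : x * y ∈ A := mul_mem_of_card_le_two_mul h.le h.card.le hx hy hx' hy'

theorem _root_.Cfsg.Agent.Cls.Dih.ord (h : Dih S A) (hs : s ∈ S) (hsA : s ∉ A) : orderOf s = 2 :=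
  ord2 (by rw [← pow_two]; exact h.sq s hs hsA) fun e => hsA (e ▸ one_mem A)

theorem _root_.Cfsg.Agent.Cls.Dih.ex (h : Dih S A) : ∃ s ∈ S, s ∉ A :=
  SetLike.exists_of_lt (lt_of_le_of_ne h.le fun e => by
    have := h.card
    have := card_pos' A
    rw [e] at *; omega)

theorem _root_.Cfsg.Agent.Cls.Dih.norm (h : Dih S A) (hB : B ≤ A) : S ≤ N[B] :=
  le_norm_iff.2 fun a ha x hx => by
    by_cases h1 : a ∈ A
    · rw [← isMulCommutative_iff_forall.1 (isMulCommutative_of_isCyclic h.cyc) x (hB hx) a h1,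
        mul_inv_cancel_right]; exact hx
    · rw [h.inv ha h1 (hB hx)]; exact inv_mem hx

theorem _root_.Cfsg.Agent.Cls.Dih.comm (h : Dih S A) (hx : x ∈ A) (hy : y ∈ A) : x * y = y * x :=
  isMulCommutative_iff_forall.1 (isMulCommutative_of_isCyclic h.cyc) x hx y hy

theorem _root_.Cfsg.Agent.Cls.Dih.dih' (h : Dih S A) : Dih' S := ⟨A, h.cyc, h.le, h.card.le, h.sq⟩

theorem relIndex_le_two (hA : A ≤ P) (h : Nat.card P ≤ 2 * Nat.card A) : A.relIndex P ≤ 2 := by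
  rw [← card_mul_relIndex hA, mul_comm] at h
  exact Nat.le_of_mul_le_mul_right h (card_pos' A)

theorem Dih'.of_le (h : Dih' P) (hR : R ≤ P) : Dih' R := by
  obtain ⟨A, h1, h2, h3, h4⟩ := h
  refine ⟨A ⊓ R, cyc_of_le h1 inf_le_left, inf_le_right, ?_, fun s hs hs' =>
    h4 s (hR hs) fun e => hs' ⟨e, hs⟩⟩
  rw [← card_inf_mul_relIndex A R, mul_comm]
  exact Nat.mul_le_mul_right _ ((relIndex_le_of_le_right hR (relIndex_pos A P).ne').trans
    (relIndex_le_two h2 h3))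

theorem Dih'.im {Q : Type u} [Group Q] [Finite Q] {f : L →* Q} (h : Dih' P) (hP : P ≤ L) :
    Dih' (im f P) := by
  obtain ⟨A, h1, h2, h3, h4⟩ := h
  refine ⟨GT.im f A, cyclic_im h1, im_mono h2, ?_, fun s hs hs' => ?_⟩
  · rw [← card_mul_relIndex (im_mono (f := f) h2), mul_comm]
    exact Nat.mul_le_mul_right _ ((Nat.le_of_dvd (relIndex_pos A P) (relIndex_im_dvd h2 hP)).trans
      (relIndex_le_two h2 h3))
  · obtain ⟨x, hx, hxP, rfl⟩ := mem_im.1 hs
    rw [← map_pow]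
    have := h4 x hxP fun e => hs' (mem_im_of_mem hx e)
    rw [show (⟨x, hx⟩ : L) ^ 2 = 1 from Subtype.ext this, map_one]

theorem Dih'.cases (h : Dih' P) : IsCyclic P ∨ ∃ A, Dih P A ∧ 4 ≤ Nat.card P := by
  obtain ⟨A, h1, h2, h3, h4⟩ := h
  by_cases hc : IsCyclic P
  · exact Or.inl hc
  have h5 := relIndex_le_two h2 h3
  have h6 := relIndex_pos A P
  have h7 := card_mul_relIndex h2
  have h8 : A.relIndex P ≠ 1 := fun e => hc (by
    rw [← le_antisymm h2 (relIndex_eq_one.1 e)]; exact h1)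
  have h9 : A.relIndex P = 2 := by omega
  rw [h9] at h7
  refine Or.inr ⟨A, ⟨h1, h2, by omega, h4⟩, ?_⟩
  have := card_pos' A
  by_contra h0
  exact hc (isCyclic_of_card_prime (by rw [show Nat.card P = 2 by omega]; exact Nat.prime_two))

theorem dg_of_dih (h : Dih S A) (hS : IsPiHallOf {2} S ⊤) : DG G := fun P hP => by
  obtain ⟨g, -, hg⟩ := syl_exists_le_conj Nat.prime_two hS hP le_top
  exact (h.conj g).dih'.of_le hg

theorem DG.of_surj (h : DG G) {Q : Type u} [Group Q] [Finite Q] {f : L →* Q}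
    (hf : Function.Surjective f) : DG Q := fun P hP => by
  obtain ⟨T, hT⟩ := exists_syl Nat.prime_two (pre f P)
  have h1 := hT.im (f := f) pre_le
  rw [im_pre_of_surj hf] at h1
  rw [← h1.eq_self (isPi_of_isPGroup Nat.prime_two hP)]
  exact (h T (syl_isPGroup Nat.prime_two hT)).im (hT.le.trans pre_le)

theorem DG.sub (h : DG G) (L : Subgroup G) : DG L :=
  h.of_surj (f := MonoidHom.id L) Function.surjective_id

/-- an element of a dihedral or cyclic 2-group centralizing a four-group lies in it. -/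
theorem Dih'.cent_V (h : Dih' P) (ht : orderOf t = 2) (hv : orderOf v = 2) (hvt : v ≠ t)
    (c : v * t = t * v) (h1 : t ∈ P) (h2 : v ∈ P) (h3 : x ∈ P) (c1 : x ∈ C1[t]) (c2 : x ∈ C1[v]) :
    x = 1 ∨ x = t ∨ x = v ∨ x = t * v := by
  rcases h.cases with hc | ⟨A, h, -⟩
  · exact absurd (eq_of_sq_of_isCyclic hc h2 h1 (sq1 hv) (sq1 ht) (ne1 hv) (ne1 ht)) hvt
  have hw := ord2_mul ht hv hvt c
  have key : ∀ {a b y : G}, orderOf a = 2 → a ∈ A → b ∈ P → b ∉ A → y ∈ P → y ∈ C1[b] →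
      y = 1 ∨ y = a ∨ y = b ∨ y = a * b := fun {a b y} ha haA hb hbA hy cy => by
    have k : ∀ z ∈ A, z ∈ C1[b] → z = 1 ∨ z = a := fun z hz cz => by
      have e := h.inv hb hbA hz
      rw [← mem_cent1.1 cz, mul_inv_cancel_right] at e
      exact or_iff_not_imp_left.2 (eq_of_sq_of_isCyclic h.cyc hz haA
        (by nth_rewrite 1 [e]; exact inv_mul_cancel z) (sq1 ha) · (ne1 ha))
    by_cases hyA : y ∈ A
    · rcases k y hyA cy with e | e <;> simp [e]
    · have hb2 := sq1 (h.ord hb hbA)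
      rcases k _ (h.mul_mem hy hb hyA hbA) (mul_mem cy (self_mem_cent1 b)) with e | e
      · exact Or.inr (Or.inr (Or.inl (by rw [← mul_one y, ← hb2, ← mul_assoc, e, one_mul])))
      · exact Or.inr (Or.inr (Or.inr (by rw [← e, mul_assoc, hb2, mul_one])))
  by_cases htA : t ∈ A
  · exact key ht htA h2 (fun e => hvt (eq_of_sq_of_isCyclic h.cyc e htA (sq1 hv) (sq1 ht) (ne1 hv)
      (ne1 ht))) h3 c2
  by_cases hvA : v ∈ A
  · rcases key hv hvA h1 htA h3 c1 with e | e | e | e <;> simp [e, c]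
  · rcases key hw (h.mul_mem h1 h2 htA hvA) h1 htA h3 c1 with e | e | e | e
    · simp [e]
    · simp [e]
    · simp [e]
    · exact Or.inr (Or.inr (Or.inl (by rw [e, mul_assoc, c, tt (sq1 ht)])))

/-- a 2-element centralizing a four-group lies in it. -/
theorem DG.cent_V (h : DG G) (ht : orderOf t = 2) (hv : orderOf v = 2) (hvt : v ≠ t)
    (c : v * t = t * v) (hx : IsPGroup 2 (zpowers x)) (c1 : x ∈ C1[t]) (c2 : x ∈ C1[v]) :
    x = 1 ∨ x = t ∨ x = v ∨ x = t * v :=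
  (h _ ((V_pg ht hv c).to_sup_of_normal_right' hx (le_norm_of_cent (le_cent_symm (by
    rw [GW.cent_V, zpowers_le]; exact ⟨c1, c2⟩))))).cent_V ht hv hvt c
    (mem_sup_left (mem_sup_left (mem_zpowers _))) (mem_sup_left (mem_sup_right (mem_zpowers _)))
    (mem_sup_right (mem_zpowers _)) c1 c2

/-- an odd order group normalizing a 2-group and fixing an involution of it centralizes it. -/
theorem DG.le_cent (h : DG G) (hP : IsPGroup 2 P) (hn : B ≤ N[P]) (ho : Odd (Nat.card B))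
    (ht : orderOf t = 2) (htP : t ∈ P) (hB : B ≤ C1[t]) : B ≤ C[P] := by
  rcases (h P hP).cases with hc | ⟨A, hA, -⟩
  · have : Fact (Nat.Prime 2) := ⟨Nat.prime_two⟩
    exact PG.le_cent_of_isCyclic_of_coprime hc hP hn (Nat.coprime_two_right.2 ho) (by simp)
  · exact le_cent_of_dihedral hP hA.cyc hA.le hA.card hA.sq le_rfl hn (Nat.coprime_two_right.2 ho)
      htP ht hB

theorem DG.hall_cent (h : DG G) (ht : orderOf t = 2) :
    IsPiHallOf ({2} : Set ℕ)ᶜ O[C1[t]] C1[t] := by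
  refine frobenius_normal_compl Nat.prime_two fun q Q B hq hq2 hQ hQp hB hBp hn => ?_
  have hQt : IsPGroup 2 ↥(Q ⊔ zpowers t) :=
    hQp.to_sup_of_normal_right' (pg2 ht) (le_norm_of_cent (by rwa [cent_zpowers]))
  exact (h.le_cent hQt (le_norm_sup hn (le_norm_of_cent (by rwa [cent_zpowers])))
    (odd_p hq hq2 hBp) ht (mem_sup_right (mem_zpowers t)) hB).trans (cent_anti le_sup_left)

theorem DG.mem_O (h : DG G) (ht : orderOf t = 2) (hx : x ∈ C1[t]) (ho : Odd (orderOf x)) :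
    x ∈ O[C1[t]] := (h.hall_cent ht).mem_of_normal (O_norm _) hx (odd_iff_piNat.2 ho)

theorem DG.le_O (h : DG G) (ht : orderOf t = 2) (hX : X ≤ C1[t]) (ho : Odd (Nat.card X)) :
    X ≤ O[C1[t]] := (h.hall_cent ht).le_of_normal (O_norm _) hX (odd_iff_pi.2 ho)

theorem DG.solv_cent (h : DG G) (ht : orderOf t = 2) : Group.IsSolvable C1[t] := by
  obtain ⟨Q, _, _, f, -, hk⟩ := exists_quo' C1[t] O[C1[t]] (O_le _) (O_norm _)
  refine solvable_of_im (f := f) le_rfl (by rw [hk]; exact solv_of_le (O_solv _) inf_le_right)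
    (solvable_of_isPGroup Nat.prime_two ?_)
  rw [← isPiSubgroup_single_iff Nat.prime_two, isPiSubgroup_im_iff le_rfl, hk]
  exact piNat_compl_compl.1 (h.hall_cent ht).idx

/-! ### standing data -/

namespace St
variable (h : St S A t)
include h

theorem dg : DG G := dg_of_dih h.dih h.syl
theorem pg : IsPGroup 2 S := syl_isPGroup Nat.prime_two h.syl
theorem memS : t ∈ S := h.dih.le h.mem
theorem sylH : IsPiHallOf {2} S C1[t] := syl_of_le h.syl h.cen le_top
theorem sd : Sdprod O[C1[t]] S C1[t] := sdprod_piCoreOf_of_hall (h.dg.hall_cent h.ord) h.sylH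
theorem uniq (hx : x ∈ A) (e : x * x = 1) (h1 : x ≠ 1) : x = t :=
  eq_of_sq_of_isCyclic h.dih.cyc hx h.mem e (sq1 h.ord) h1 (ne1 h.ord)
theorem refl_ord (hv : v ∈ S) (hvA : v ∉ A) : orderOf v = 2 := h.dih.ord hv hvA
theorem refl_ne (hvA : v ∉ A) : v ≠ t := fun e => hvA (e ▸ h.mem)
theorem comm (hv : v ∈ S) : v * t = t * v := mem_cent1.1 (h.cen hv)
theorem not_mem (hv : orderOf v = 2) (hvt : v ≠ t) : v ∉ A := fun e => hvt (h.uniq e (sq1 hv) (ne1 hv))
theorem cardA : 2 ≤ Nat.card A := by have := h.four; have := h.dih.card; omega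

theorem conj (g : G) : St (cj[g] S) (cj[g] A) (g * t * g⁻¹) :=
  ⟨h.dih.conj g, by simpa using h.syl.conj g, by rw [card_conj]; exact h.four, ord2_conj h.ord g,
    conj_mem_conj.2 h.mem, by rw [← conj_cent1]; exact conj_mono g h.cen, fun u hu => by
      obtain ⟨k, rfl⟩ := h.one u hu
      exact ⟨k * g⁻¹, by group⟩⟩

/-- any 2-subgroup of an involution centralizer lies in a standing Sylow subgroup. -/
theorem exists_ge (hu : orderOf u = 2) (hP : IsPGroup 2 P) (hPu : P ≤ C1[u]) :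
    ∃ S' A' : Subgroup G, St S' A' u ∧ P ≤ S' ∧ Nat.card S' = Nat.card S ∧
      Nat.card A' = Nat.card A := by
  obtain ⟨g, rfl⟩ := h.one u hu
  obtain ⟨k, hk, hle⟩ := syl_exists_le_conj Nat.prime_two (h.conj g).sylH hP hPu
  have := (h.conj g).conj k
  rw [mem_cent1.1 hk, mul_inv_cancel_right] at this
  exact ⟨_, _, this, hle, by simp, by simp⟩

theorem index_eq (hu : orderOf u = 2) : C1[u].index = C1[t].index := by
  obtain ⟨g, rfl⟩ := h.one u hu
  rw [← conj_cent1, index_conj]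

theorem card_eq (hu : orderOf u = 2) : Nat.card C1[u] = Nat.card C1[t] := by
  obtain ⟨g, rfl⟩ := h.one u hu
  rw [← conj_cent1, card_conj]

theorem exists_four (h8 : 8 ≤ Nat.card S) : ∃ a ∈ A, a * a = t := by
  have : Fact (Nat.Prime 2) := ⟨Nat.prime_two⟩
  obtain ⟨k, hk⟩ := PG.exists_card_eq_pow (h.pg.to_le h.dih.le)
  obtain ⟨g, rfl⟩ := PG.isCyclic_iff_exists.1 h.dih.cyc
  rw [h.dih.card, hk] at h8
  obtain ⟨j, rfl⟩ : ∃ j, k = j + 2 := ⟨k - 2, by
    rcases k with _ | _ | k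
    · omega
    · omega
    · omega⟩
  rw [Nat.card_zpowers] at hk
  refine ⟨g ^ 2 ^ j, pow_mem (mem_zpowers g) _, ?_⟩
  have e := orderOf_pow_two_pow (n := j + 1) hk
  rw [← pow_add, ← two_mul, ← pow_succ']
  exact h.uniq (pow_mem (mem_zpowers g) _) (sq1 e) (ne1 e)

/-- if `|S| ≥ 8` the involutions `v`, `u v` are conjugate in `C(u)`. -/
theorem swap (h8 : 8 ≤ Nat.card S) (hu : orderOf u = 2) (hv : orderOf v = 2) (hvu : v ≠ u)
    (c : v * u = u * v) : ∃ a ∈ C1[u], a * v * a⁻¹ = u * v ∧ a * a = u := by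
  obtain ⟨S', A', h', hle, e, -⟩ := h.exists_ge hu (pg2 hv) (zpowers_le.2 (mem_cent1.2 c))
  obtain ⟨a, ha, e2⟩ := h'.exists_four (e ▸ h8)
  refine ⟨a, h'.cen (h'.dih.le ha), ?_, e2⟩
  have := h'.dih.inv (hle (mem_zpowers v)) (h'.not_mem hv hvu) (inv_mem ha)
  rw [inv_inv] at this
  rw [← e2, show a * v * a⁻¹ = a * (v * a⁻¹ * v⁻¹) * v by group, this]

theorem card_cases : Nat.card S = 4 ∨ 8 ≤ Nat.card S := by
  have : Fact (Nat.Prime 2) := ⟨Nat.prime_two⟩
  obtain ⟨k, hk⟩ := PG.exists_card_eq_pow h.pg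
  have := h.four
  rw [hk] at this ⊢
  rcases k with _ | _ | _ | k
  · omega
  · omega
  · omega
  · right; rw [pow_add, pow_add, pow_add]; have := Nat.one_le_two_pow (n := k); omega

theorem eq_V (h4 : Nat.card S = 4) (hv : v ∈ S) (hvA : v ∉ A) : S = zpowers t ⊔ zpowers v := by
  have e : zpowers t = A := eq_of_le_of_card_ge (zpowers_le.2 h.mem) (by
    rw [Nat.card_zpowers, h.ord]; have := h.dih.card; omega)
  rw [e]
  exact PG.eq_sup_zpowers_of_card_eq_mul Nat.prime_two h.dih.le h.dih.card hv hvA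

/-- a 3-cycle on a four-group. -/
theorem cyc3 (hv : orderOf v = 2) (hvt : v ≠ t) (c : v * t = t * v) :
    ∃ g : G, g * t * g⁻¹ = v ∧ g * v * g⁻¹ = t * v := by
  have ht := h.ord
  rcases h.card_cases with h4 | h8
  · obtain ⟨S', A', h', hle, e, -⟩ := h.exists_ge ht (pg2 hv) (zpowers_le.2 (mem_cent1.2 c))
    have hS := h'.eq_V (e ▸ h4) (hle (mem_zpowers v)) (h'.not_mem hv hvt)
    obtain ⟨g, hg⟩ := h.one v hv
    have cV : ∀ y ∈ S', y ∈ C[S'] := fun y hy =>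
      comm_iff_le_cent.1 (by rw [hS]; exact V_comm c) hy
    obtain ⟨n, hn, k, hk, rfl⟩ := syl_fusion_cent Nat.prime_two h'.syl (g := g) (mem_top _)
      (Y := {t}) (by simpa using cV t h'.memS) (by
        simpa [hg] using cV v (hle (mem_zpowers v)))
    have e1 : n * t * n⁻¹ = v := by
      rw [← hg, show n * k * t * (n * k)⁻¹ = n * (k * t) * k⁻¹ * n⁻¹ by group, mem_cent1.1 hk.2]
      group
    refine ⟨n, e1, ?_⟩
    have h1 := conj_mem_of_mem_norm hn.2 (hle (mem_zpowers v))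
    rw [hS, mem_V ht hv c] at h1
    rcases h1 with e2 | e2 | e2 | e2
    · exact absurd (conj_eq_one_iff.1 e2) (ne1 hv)
    · exfalso
      have h2 : n * n ∈ C[S'] := by
        rw [hS, cent_V]
        refine ⟨mem_cent1.2 ?_, mem_cent1.2 ?_⟩
        · rw [show n * n * t = n * (n * t * n⁻¹) * n⁻¹ * (n * n) by group, e1, e2]
        · rw [show n * n * v = n * (n * v * n⁻¹) * n⁻¹ * (n * n) by group, e2, e1]
      have h3 : n ^ (C[S']).relIndex N[S'] ∈ C[S'] :=
        PG.pow_relIndex_mem' (norm_le_norm_cent _) hn.2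
      have h5 : ¬ 2 ∣ (C[S']).relIndex N[S'] := fun e => syl_not_dvd Nat.prime_two
        (syl_of_le h'.syl le_normalizer le_top) (e.trans (relIndex_dvd_of_le_left _ cV))
      have h6 := PG.mem_of_pow_mem_of_coprime (by rwa [pow_two]) h3
        ((Nat.Prime.coprime_iff_not_dvd Nat.prime_two).2 h5)
      rw [mem_cent1.1 (cent_le_cent1 h'.memS h6), mul_inv_cancel_right] at e1
      exact hvt e1.symm
    · rw [← e1] at e2
      exact absurd (by simpa using e2) (by rw [e1]; exact hvt)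
    · exact e2
  · obtain ⟨a, ha, e1, -⟩ := h.swap h8 ht hv hvt c
    obtain ⟨b, hb, e2, -⟩ := h.swap h8 hv ht hvt.symm c.symm
    have e3 : a * t * a⁻¹ = t := by rw [mem_cent1.1 ha, mul_inv_cancel_right]
    have e4 : b * v * b⁻¹ = v := by rw [mem_cent1.1 hb, mul_inv_cancel_right]
    refine ⟨a * b, ?_, ?_⟩
    · rw [show a * b * t * (a * b)⁻¹ = a * (b * t * b⁻¹) * a⁻¹ by group, e2,
        show a * (v * t) * a⁻¹ = (a * v * a⁻¹) * (a * t * a⁻¹) by group, e1, e3, mul_assoc, c,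
        tt (sq1 ht)]
    · rw [show a * b * v * (a * b)⁻¹ = a * (b * v * b⁻¹) * a⁻¹ by group, e4, e1]

/-- the same for any involution in place of `t`. -/
theorem cyc3' (hu : orderOf u = 2) (hv : orderOf v = 2) (hvu : v ≠ u) (c : v * u = u * v) :
    ∃ g : G, g * u * g⁻¹ = v ∧ g * v * g⁻¹ = u * v := by
  obtain ⟨S', A', h', -⟩ := h.exists_ge hu (pg2 hu) (zpowers_le.2 (self_mem_cent1 u))
  exact h'.cyc3 hv hvu c

end St

theorem exists_st [IsSimpleGroup G] (hG : ¬ IsMulCommutative G) (h : DG G) :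
    ∃ (S A : Subgroup G) (t : G), St S A t := by
  obtain ⟨S, hS⟩ := exists_syl Nat.prime_two (⊤ : Subgroup G)
  have hp := syl_isPGroup Nat.prime_two hS
  have hns : ¬ Group.IsSolvable G := fun hs => hG (IsSimpleGroup.comm_iff_isSolvable.2 hs |> fun h => ⟨⟨h⟩⟩)
  rcases (h S hp).cases with hc | ⟨A, hA, h4⟩
  · exfalso
    have h1 := cyclic_pdiv_normal_complement Nat.prime_two hS hc fun q hq _ => hq.two_le
    rcases (normal_iff_top_le_norm.2 h1.norm).eq_bot_or_eq_top with e | e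
    · rw [e] at h1
      exact hns (isSolvable_top_iff.1 (h1.eq_right_iff.2 rfl ▸ solvable_of_isPGroup Nat.prime_two hp))
    · exact hns (isSolvable_top_iff.1 (e ▸ O_solv ⊤))
  have : Fact (Nat.Prime 2) := ⟨Nat.prime_two⟩
  obtain ⟨t, ht, htc, h1, h2⟩ := PG.exists_mem_cent_orderOf_p hp hp le_normalizer (fun e => by
    rw [e, card_bot] at h4; omega)
  have ho : orderOf t = 2 := orderOf_eq_prime h2 h1
  obtain ⟨B, hB, htB⟩ := hA.exists_mem h4 ho ht (mem_cent_iff.1 htc)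
  refine ⟨S, B, t, hB, hS, h4, ho, htB, mem_cent_iff.1 htc, fun u hu => ?_⟩
  obtain ⟨g, hg⟩ := exists_conj_mem_of_index_two hG hS hB.le hB.card (sq1 hu)
  have h3 := ord2_conj hu g⁻¹
  rw [inv_inv] at h3
  exact ⟨g, by rw [← eq_of_sq_of_isCyclic hB.cyc hg htB (sq1 h3) (sq1 ho) (ne1 h3) h1]; group⟩

end Cfsg.Agent.GW
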