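import Cfsg.Agent.B84C.A
import Cfsg.Agent.BS.Big

/-! Gorenstein-Walter, characters: generic tools. -/

set_option autoImplicit false
set_option linter.unusedSectionVars false
set_option linter.unusedVariables false
set_option linter.style.haveILetI false

namespace Cfsg.Agent.GW.Ch

open Cfsg Cfsg.Agent.GT Cfsg.Agent.Char Cfsg.Agent.Cls Cfsg.Agent.B84C Subgroup Function
open scoped ComplexConjugate Classical

universe u

/-- twice an algebraic integer -/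
def Ev (x : ℂ) : Prop := ∃ r, IsIntegral ℤ r ∧ x = 2 * r

theorem Ev.zero : Ev 0 := ⟨0, isIntegral_zero, by simp⟩

theorem Ev.add {x y : ℂ} (hx : Ev x) (hy : Ev y) : Ev (x + y) := by
  obtain ⟨r, hr, rfl⟩ := hx
  obtain ⟨s, hs, rfl⟩ := hy
  exact ⟨r + s, hr.add hs, by ring⟩

theorem Ev.sub {x y : ℂ} (hx : Ev x) (hy : Ev y) : Ev (x - y) := by
  obtain ⟨r, hr, rfl⟩ := hx
  obtain ⟨s, hs, rfl⟩ := hy
  exact ⟨r - s, hr.sub hs, by ring⟩

theorem Ev.congr {x y : ℂ} (hx : Ev x) (e : y = x) : Ev y := e ▸ hx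

theorem Ev.even {n : ℤ} (h : Ev n) : Even n := by
  obtain ⟨r, hr, e⟩ := h
  obtain ⟨k, hk⟩ := exists_int_of_forall_ringEquiv hr fun σ => by
    have := congrArg σ e
    rw [map_intCast, map_mul, map_ofNat, e] at this
    exact (mul_left_cancel₀ two_ne_zero this).symm
  rw [hk] at e
  exact ⟨k, by exact_mod_cast e.trans (two_mul _)⟩

theorem ev_of_even {n : ℤ} (h : Even n) : Ev n := by
  obtain ⟨k, rfl⟩ := h
  exact ⟨k, _root_.isIntegral_intCast k, by push_cast; ring⟩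

theorem isInt_of_mul {x : ℂ} (hx : IsIntegral ℤ x) {a b : ℤ} (ha : a ≠ 0) (e : x * a = b) : ∃ n : ℤ, x = n :=
  exists_int_of_forall_ringEquiv hx fun σ => by
    have := congrArg σ e
    rw [map_intCast, map_mul, map_intCast, ← e] at this
    exact mul_right_cancel₀ (Int.cast_ne_zero.2 ha) this

theorem two_action {P X : Type*} [Group P] [Finite P] [Fintype X] [MulAction P X] (hP : IsPGroup 2 P)
    {f : X → ℂ} (hi : ∀ x, IsIntegral ℤ (f x)) (hf : ∀ (p : P) x, f (p • x) = f x) {F : X → Prop}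
    [DecidablePred F] (hF : ∀ x, F x ↔ ∀ p : P, p • x = x) :
    Ev (∑ x, f x - ∑ x, if F x then f x else 0) := by
  simp only [hF]
  haveI : Fact (Nat.Prime 2) := ⟨Nat.prime_two⟩
  rw [← Finset.sum_sub_distrib, ← (MulAction.selfEquivSigmaOrbits P X).symm.sum_comp, Fintype.sum_sigma]
  refine Finset.sum_induction _ Ev (fun _ _ => Ev.add) Ev.zero fun ω _ => ?_
  have e : ∀ y : MulAction.orbit P ω.out, ((MulAction.selfEquivSigmaOrbits P X).symm ⟨ω, y⟩) = y.1 := fun y => rfl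
  simp only [e]
  by_cases h : ∀ p : P, p • ω.out = ω.out
  · refine Ev.zero.congr (Finset.sum_eq_zero fun y _ => ?_)
    obtain ⟨_, p, rfl⟩ := y
    simp [h]
  · obtain ⟨k, hk⟩ := hP.card_orbit ω.out
    have k0 : k ≠ 0 := by
      rintro rfl
      apply h
      intro p
      haveI := (Nat.card_eq_one_iff_unique.1 hk).1
      exact congrArg Subtype.val (Subsingleton.elim (α := MulAction.orbit P ω.out)
        ⟨_, MulAction.mem_orbit _ p⟩ ⟨_, MulAction.mem_orbit_self _⟩)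
    obtain ⟨j, rfl⟩ := Nat.exists_eq_succ_of_ne_zero k0
    refine ⟨2 ^ j * f ω.out, ((_root_.isIntegral_intCast (2 : ℤ)).pow j).mul (hi _), ?_⟩
    rw [Finset.sum_congr rfl (g := fun _ => f ω.out), Finset.sum_const, Finset.card_univ,
      ← Nat.card_eq_fintype_card, hk, nsmul_eq_mul]
    · push_cast; rw [pow_succ]; ring
    · rintro ⟨_, p, rfl⟩ -
      rw [if_neg, sub_zero, hf]
      intro n
      apply h
      intro q
      have := n (p * q * p⁻¹)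
      simp only [smul_smul, inv_mul_cancel_right] at this
      rw [mul_smul] at this
      exact MulAction.injective p this

variable {G : Type u} [Group G] [Fintype G] {t : G} {α β γ Θ χ X Y : G → ℂ}

theorem conj_fix {S : Subgroup G} {a : G} :
    a ∈ C[S] ↔ ∀ p : (S.map (ConjAct.toConjAct (G := G)).toMonoidHom : Subgroup (ConjAct G)), (p : ConjAct G) • a = a := by
  simp only [mem_centralizer_iff, SetLike.mem_coe, Subtype.forall, mem_map, forall_exists_index, and_imp]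
  refine ⟨?_, fun h s hs => ?_⟩
  · rintro h _ s hs rfl
    exact mul_inv_eq_iff_eq_mul.2 (h s hs)
  · exact mul_inv_eq_iff_eq_mul.1 (h _ s hs rfl)

theorem two_conj {S : Subgroup G} (hS : IsPGroup 2 S) {f : G → ℂ} (hi : ∀ x, IsIntegral ℤ (f x))
    (hf : ∀ s ∈ S, ∀ x, f (s * x * s⁻¹) = f x) : Ev (∑ x, f x - ∑ x, if x ∈ C[S] then f x else 0) := by
  refine two_action (hS.map ConjAct.toConjAct.toMonoidHom) hi ?_ fun x => conj_fix
  rintro ⟨_, s, hs, rfl⟩ x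
  exact hf s hs x

theorem two_conj3 {S : Subgroup G} (hS : IsPGroup 2 S) {f : G → G → G → ℂ} (hi : ∀ x y z, IsIntegral ℤ (f x y z))
    (hf : ∀ s ∈ S, ∀ x y z, f (s * x * s⁻¹) (s * y * s⁻¹) (s * z * s⁻¹) = f x y z) :
    Ev (∑ x, ∑ y, ∑ z, f x y z - ∑ x, if x ∈ C[S] then ∑ y, ∑ z,
      if y ∈ C[S] ∧ z ∈ C[S] then f x y z else 0 else 0) := by
  refine (two_action (hS.map ConjAct.toConjAct.toMonoidHom) (f := fun w : G × G × G => f w.1 w.2.1 w.2.2)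
    (fun w => hi _ _ _) ?_ (F := fun w => w.1 ∈ C[S] ∧ w.2.1 ∈ C[S] ∧ w.2.2 ∈ C[S]) fun w => ?_).congr ?_
  · rintro ⟨_, s, hs, rfl⟩ w
    exact hf s hs _ _ _
  · simp only [conj_fix, ← forall_and]
    exact forall_congr' fun p => by rw [Prod.ext_iff, Prod.ext_iff]; rfl
  simp only [Fintype.sum_prod_type]
  congr 1
  refine Finset.sum_congr rfl fun x _ => ?_
  split_ifs with h <;> simp [h]

/-- odd degree -/
def Od (χ : G → ℂ) : Prop := ∃ n : ℤ, Odd n ∧ χ 1 = n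

theorem Od.neg (h : Od χ) : Od (-χ) := by
  obtain ⟨n, h, e⟩ := h
  exact ⟨-n, h.neg, by simp [e]⟩

theorem par_t (tt : t * t = 1) (h : IsGeneralizedCharacter G χ) {a b : ℤ} (ha : χ 1 = a) (hb : χ t = b) :
    Even (a - b) := by
  obtain ⟨w, hw, e⟩ := h.exists_sub_eq_one_sub_mul (x := t) (y := 1) (by simp)
    (IsPrimitiveRoot.neg_one 0 (by norm_num) : IsPrimitiveRoot (-1 : ℂ) 2) two_pos (by rw [sq, tt])
  rw [mul_one, ha, hb] at e
  exact Ev.even ⟨-w, hw.neg, by push_cast; linear_combination -e⟩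

theorem perp_of_even (hχ : IsSIrr G χ) (ho : Od χ) (hY : IsSIrr G Y) {n : ℤ} (hn : Even n) (e : Y 1 = n) :
    ⟪χ, Y⟫ = 0 := by
  by_contra h
  obtain ⟨k, hk, e'⟩ := ho
  rcases hχ.eq_or_eq_neg_of_ci_ne_zero hY h with rfl | rfl
  · exact Int.not_odd_iff_even.2 hn (by rwa [Int.cast_injective (e.symm.trans e')])
  · rw [Pi.neg_apply, e, ← Int.cast_neg] at e'
    exact Int.not_odd_iff_even.2 hn.neg (by rwa [Int.cast_injective e'])

theorem even2 (tt : t * t = 1) (h : IsGeneralizedCharacter G Θ) (h2 : ⟪Θ, Θ⟫ = 2) (h1 : Θ 1 = 0)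
    (hz : cZ t Θ = 0) {n : ℤ} (hn : n ≠ 0) (ht : Θ t = 4 * n) (hχ : IsSIrr G χ) (ho : Od χ) : ⟪χ, Θ⟫ = 0 := by
  obtain ⟨α, β, N, a, b, ha, hb, -, rfl, e1, e2, e3, e4, -, e5, -⟩ := two_term tt h h2 h1
  have i0 : (C1[t].index : ℂ) ≠ 0 := Nat.cast_ne_zero.2 index_ne_zero_of_finite
  rw [hz, mul_zero, eq_comm, mul_eq_zero, or_iff_right (pow_ne_zero 2 i0)] at e5
  rw [Pi.sub_apply, e3, e4] at ht
  have k1 : a - b = 4 * n := by exact_mod_cast ht
  have k2 : (a - b) * (a + b) = 0 := by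
    have : a ^ 2 - b ^ 2 = 0 := by exact_mod_cast e5
    linear_combination this
  have k3 : a = 2 * n := by
    rcases mul_eq_zero.1 k2 with k | k <;> omega
  have k4 : Even N := by
    have := par_t tt ha.virt e1 e3
    rw [k3] at this
    simpa [parity_simps] using this
  rw [ci_sub_right, perp_of_even hχ ho ha.isSIrr k4 e1, perp_of_even hχ ho hb.isSIrr k4 e2, sub_zero]

theorem four_le (h : IsGeneralizedCharacter G γ) (h4 : ⟪γ, γ⟫ = 4) (h1 : γ 1 = 0) (hχ : IsSIrr G χ) :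
    ⟪γ, χ⟫ = 0 ∨ ⟪γ, χ⟫ = 1 ∨ ⟪γ, χ⟫ = -1 := by
  obtain ⟨n, hn⟩ := h.ci_int hχ.virt
  have n4 : nsq γ = 4 := nsq_eq_of_ci (by simpa using h4)
  have k := sq_le_nsq_of_ci hχ.ci_self hn
  have k2 := nsq_sub_ci_smul (α := γ) hχ.ci_self
  rw [n4] at k k2
  rw [hn] at k2 ⊢
  have k3 : n ^ 2 ≤ 4 := by exact_mod_cast k
  have k4 : n ^ 2 ≠ 4 := fun e => by
    rw [Complex.norm_intCast, sq_abs, show ((n : ℝ)) ^ 2 = 4 by exact_mod_cast e, sub_self, nsq_eq_zero] at k2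
    have := congrFun k2 1
    simp only [Pi.sub_apply, h1, Pi.smul_apply, smul_eq_mul, zero_sub, Pi.zero_apply, neg_eq_zero, mul_eq_zero,
      hχ.apply_one_ne_zero, or_false, Int.cast_eq_zero] at this
    simp [this] at e
  have : n = 0 ∨ n = 1 ∨ n = -1 := by
    have h1 : -2 ≤ n := by nlinarith
    have h2 : n ≤ 2 := by nlinarith
    interval_cases n <;> simp at k4 ⊢
  rcases this with rfl | rfl | rfl <;> simp

theorem exists_three (h : IsGeneralizedCharacter G α) (h3 : ⟪α, α⟫ = 3) : ∃ X Y Z : G → ℂ, IsSIrr G X ∧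
    IsSIrr G Y ∧ IsSIrr G Z ∧ ⟪X, Y⟫ = 0 ∧ ⟪X, Z⟫ = 0 ∧ ⟪Y, Z⟫ = 0 ∧ α = X + Y + Z := by
  have n3 : nsq α = 3 := nsq_eq_of_ci (by simpa using h3)
  obtain ⟨X, hX, -, e1, e2⟩ := h.exists_sirr_one (fun e => by simp [e, ci_zero_left] at h3) (by rw [n3]; norm_num)
  obtain ⟨Y, Z, hY, hZ, e3, e4⟩ := (h.sub hX.virt).exists_of_nsq_two (by rw [e2, n3]; norm_num)
  rw [e4, ci_add_left] at e1
  have k : ⟪Y, X⟫ = 0 := by
    by_contra n
    rcases hY.eq_or_eq_neg_of_ci_ne_zero hX n with rfl | rfl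
    · rw [ci_eq_zero_symm e3, hY.ci_self] at e1; norm_num at e1
    · rw [ci_neg_left, neg_eq_zero] at e3
      rw [ci_eq_zero_symm e3, ci_neg_left, hX.ci_self] at e1; norm_num at e1
  rw [k, zero_add] at e1
  exact ⟨X, Y, Z, hX, hY, hZ, ci_eq_zero_symm k, ci_eq_zero_symm e1, e3, by rw [add_assoc, ← e4]; abel⟩

theorem three_four (hα : IsGeneralizedCharacter G α) (h3 : ⟪α, α⟫ = 3) (h : IsGeneralizedCharacter G γ)
    (h4 : ⟪γ, γ⟫ = 4) (h1 : γ 1 = 0) (h2 : ⟪γ, α⟫ = 2) : ∃ X X' Y : G → ℂ, IsSIrr G X ∧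
    IsSIrr G X' ∧ IsSIrr G Y ∧ ⟪X, X'⟫ = 0 ∧ ⟪X, Y⟫ = 0 ∧ ⟪X', Y⟫ = 0 ∧ α = X + X' + Y ∧
      ⟪γ, X⟫ = 1 ∧ ⟪γ, X'⟫ = 1 ∧ ⟪γ, Y⟫ = 0 := by
  obtain ⟨X, Y, Z, hX, hY, hZ, e1, e2, e3, rfl⟩ := exists_three hα h3
  rw [ci_add_right, ci_add_right] at h2
  rcases four_le h h4 h1 hX with a | a | a <;> rcases four_le h h4 h1 hY with b | b | b <;>
    rcases four_le h h4 h1 hZ with c | c | c <;> rw [a, b, c] at h2 <;> try norm_num at h2
  · exact ⟨Y, Z, X, hY, hZ, hX, e3, ci_eq_zero_symm e1, ci_eq_zero_symm e2, by abel, b, c, a⟩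
  · exact ⟨X, Z, Y, hX, hZ, hY, e2, e1, ci_eq_zero_symm e3, by abel, a, c, b⟩
  · exact ⟨X, Y, Z, hX, hY, hZ, e1, e2, e3, rfl, a, b, c⟩

theorem ci_of_one (h : IsGeneralizedCharacter G γ) (hX : IsSIrr G X) (e : ⟪γ, X⟫ = 1) :
    ⟪γ - X, X⟫ = 0 ∧ ⟪γ - X, γ - X⟫ = ⟪γ, γ⟫ - 1 := by
  rw [ci_sub_left, ci_sub_left, ci_sub_right, ci_sub_right, hX.virt.ci_comm h, e, hX.ci_self]
  constructor <;> ring

/-- constituents of `γ - X`, where `X` is a constituent of `γ`. -/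
theorem rest_three (h : IsGeneralizedCharacter G γ) (h4 : ⟪γ, γ⟫ = 4) (hX : IsSIrr G X) (e : ⟪γ, X⟫ = 1) :
    ∃ X2 X3 X4 : G → ℂ, IsSIrr G X2 ∧ IsSIrr G X3 ∧ IsSIrr G X4 ∧ γ = X + X2 + X3 + X4 ∧
      ⟪X2, X⟫ = 0 ∧ ⟪X3, X⟫ = 0 ∧ ⟪X4, X⟫ = 0 ∧ ⟪X2, X3⟫ = 0 ∧ ⟪X2, X4⟫ = 0 ∧ ⟪X3, X4⟫ = 0 := by
  obtain ⟨k1, k2⟩ := ci_of_one h hX e
  obtain ⟨A, B, C, hA, hB, hC, e1, e2, e3, e4⟩ := exists_three (h.sub hX.virt) (by rw [k2, h4]; norm_num)
  rw [e4] at k1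
  have k : ∀ {A B C : G → ℂ}, IsSIrr G A → ⟪A, B⟫ = 0 → ⟪A, C⟫ = 0 → ⟪A + B + C, X⟫ = 0 → ⟪A, X⟫ = 0 := by
    intro A B C hA e1 e2 k1
    by_contra n
    rw [ci_add_left, ci_add_left] at k1
    rcases hA.eq_or_eq_neg_of_ci_ne_zero hX n with rfl | rfl
    · rw [ci_eq_zero_symm e1, ci_eq_zero_symm e2, hA.ci_self] at k1; norm_num at k1
    · rw [ci_neg_left, neg_eq_zero] at e1 e2
      rw [ci_eq_zero_symm e1, ci_eq_zero_symm e2, ci_neg_left, hX.ci_self] at k1; norm_num at k1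
  refine ⟨A, B, C, hA, hB, hC, by rw [add_assoc, add_assoc, ← add_assoc A, ← e4]; abel, k hA e1 e2 k1,
    k hB (ci_eq_zero_symm e1) e3 (by rwa [add_comm B]),
    k hC (ci_eq_zero_symm e2) (ci_eq_zero_symm e3) (by rw [← k1]; congr 1; abel), e1, e2, e3⟩

theorem sirr_one [IsSimpleGroup G] (hG : ¬ IsMulCommutative G) (hX : IsSIrr G X) (h0 : ⟪X, fun _ => 1⟫ = 0)
    {z : ℤ} (e : X 1 = z) : z ≠ 1 ∧ z ≠ -1 := by
  have k : ∀ {X : G → ℂ}, IsIrrCharacter G X → ⟪X, fun _ => 1⟫ = 0 → X 1 ≠ 1 := fun {X} hX h0 e => by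
    obtain ⟨f, rfl⟩ := hX.isCharacter.exists_hom_of_degree_one e
    rcases f.normal_ker.eq_bot_or_eq_top with n | n
    · exact hG ⟨⟨fun a b => (MonoidHom.ker_eq_bot_iff f).1 n (by rw [map_mul, map_mul, mul_comm])⟩⟩
    · have : (fun g => (f g : ℂ)) = fun _ => 1 := funext fun g => by
        rw [(MonoidHom.mem_ker).1 (n ▸ mem_top g)]; rfl
      rw [this, ci_one_one] at h0
      exact one_ne_zero h0
  rcases hX with hX | hX
  · have := hX.re_one_pos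
    refine ⟨fun n => k hX h0 (by simp [e, n]), fun n => ?_⟩
    rw [e, n] at this; norm_num at this
  · have := hX.re_one_pos
    refine ⟨fun n => ?_, fun n => k hX (by rw [ci_neg_left, h0, neg_zero]) (by simp [e, n])⟩
    rw [Pi.neg_apply, e, n] at this; norm_num at this

end Cfsg.Agent.GW.Ch
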