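import Cfsg.Agent.GW.C0
import Cfsg.Agent.GW.Base

/-! Gorenstein-Walter, characters: the subgroup `K = U A` of index 2 in `C(t)`. -/

set_option autoImplicit false
set_option linter.unusedSectionVars false
set_option linter.unusedVariables false
set_option linter.style.haveILetI false

namespace Cfsg.Agent.GW.Ch

open Cfsg Cfsg.Agent.GT Cfsg.Agent.Char Cfsg.Agent.Cls Cfsg.Agent.B84C Subgroup Function
open scoped ComplexConjugate Classical

universe u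

/-- standing data with a reflection and a generator -/
structure Su (G : Type u) [Group G] where
  S : Subgroup G
  A : Subgroup G
  t : G
  v : G
  σ : G
  st : St S A t
  hv : v ∈ S
  hvA : v ∉ A
  hσ : zpowers σ = A

namespace Su

variable {G : Type u} [Group G] [Fintype G] (c : Su G) {x y g s w : G}

abbrev H : Subgroup G := C1[c.t]
def U : Subgroup G := O[C1[c.t]]
def K : Subgroup G := c.U ⊔ c.A

theorem tt : c.t * c.t = 1 := sq1 c.st.ord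
theorem vo : orderOf c.v = 2 := c.st.refl_ord c.hv c.hvA
theorem vv : c.v * c.v = 1 := sq1 c.vo
theorem vi : c.v⁻¹ = c.v := inv2 c.vo
theorem UH : c.U ≤ c.H := O_le _
theorem nU : c.H ≤ N[c.U] := O_norm _
theorem oU : Odd (Nat.card c.U) := O_odd _
theorem memU (hx : x ∈ c.H) (ho : Odd (orderOf x)) : x ∈ c.U := c.st.dg.mem_O c.st.ord hx ho
theorem AS : c.A ≤ c.S := c.st.dih.le
theorem SH : c.S ≤ c.H := c.st.cen
theorem AH : c.A ≤ c.H := c.AS.trans c.SH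
theorem vH : c.v ∈ c.H := c.SH c.hv
theorem KH : c.K ≤ c.H := sup_le c.UH c.AH
theorem UK : c.U ≤ c.K := le_sup_left
theorem AK : c.A ≤ c.K := le_sup_right
theorem σA : c.σ ∈ c.A := c.hσ ▸ mem_zpowers _
theorem memK : x ∈ c.K ↔ ∃ u ∈ c.U, ∃ s ∈ c.A, x = u * s := mem_sup_of_le_norm' (c.AH.trans c.nU)
theorem US (h : x ∈ c.U) (h' : x ∈ c.S) : x = 1 := mem_bot.1 (c.st.sd.inf_eq ▸ mem_inf.2 ⟨h, h'⟩)
theorem cU (hg : g ∈ c.H) (h : x ∈ c.U) : g * x * g⁻¹ ∈ c.U := conj_mem_of_le_norm c.nU hg h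
theorem cU' (hg : g ∈ c.H) (h : x ∈ c.U) : g⁻¹ * x * g ∈ c.U := conj_mem_of_le_norm' c.nU hg h
theorem vA (h : s ∈ c.A) : c.v * s * c.v⁻¹ = s⁻¹ := c.st.dih.inv c.hv c.hvA h
theorem tU : c.t ∉ c.U := fun h => ne1 c.st.ord (c.US h c.st.memS)

theorem vK : c.v ∉ c.K := fun h => by
  obtain ⟨u, hu, s, hs, e⟩ := c.memK.1 h
  have : u = 1 := c.US hu (by rw [← mul_inv_eq_iff_eq_mul.2 e]; exact mul_mem c.hv (inv_mem (c.AS hs)))
  exact c.hvA (by rwa [e, this, one_mul])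

theorem two (h : x ∈ c.H) : x ∈ c.K ∨ c.v * x ∈ c.K := by
  obtain ⟨u, hu, s, hs, rfl⟩ := c.st.sd.exists_mul h
  by_cases e : s ∈ c.A
  · exact .inl (c.memK.2 ⟨u, hu, s, e, rfl⟩)
  · exact .inr (c.memK.2 ⟨_, c.cU c.vH hu, _, c.st.dih.mul_mem c.hv hs c.hvA e, by group⟩)

theorem cv (h : x ∈ c.K) : c.v * x * c.v⁻¹ ∈ c.K := by
  obtain ⟨u, hu, s, hs, rfl⟩ := c.memK.1 h
  exact c.memK.2 ⟨_, c.cU c.vH hu, _, inv_mem hs, by rw [← c.vA hs]; group⟩

theorem cK (hg : g ∈ c.H) (h : x ∈ c.K) : g * x * g⁻¹ ∈ c.K := by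
  rcases c.two hg with e | e
  · exact mul_mem (mul_mem e h) (inv_mem e)
  · have := c.cv (mul_mem (mul_mem e h) (inv_mem e))
    rwa [mul_inv_rev, ← mul_assoc, ← mul_assoc, ← mul_assoc, ← mul_assoc, c.vv, one_mul, mul_assoc _ c.v⁻¹, c.vi,
      c.vv, mul_one] at this

theorem invK (h : x ∈ c.K) (e : x * x = 1) : x = 1 ∨ x = c.t := by
  obtain ⟨u, hu, s, hs, rfl⟩ := c.memK.1 h
  have k : s * s = 1 := c.US (by
    rw [show s * s = (u * (s * u * s⁻¹))⁻¹ * (u * s * (u * s)) by group, e, mul_one]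
    exact inv_mem (mul_mem hu (c.cU (c.AH hs) hu))) (c.AS (mul_mem hs hs))
  have o := odd_ord c.oU hu
  by_cases n : s = 1
  · subst n
    exact .inl (by simpa using eq1_of_odd o (by simpa using e))
  · obtain rfl := c.st.uniq hs k n
    rw [mul_assoc, ← mul_assoc c.t, ← mem_cent1.1 (c.UH hu), mul_assoc, c.tt, mul_one] at e
    exact .inr (by rw [eq1_of_odd o e, one_mul])

theorem TI (h : x ∈ c.K) (h' : x ∉ c.U) (e : g * x * g⁻¹ ∈ c.K) : g ∈ c.H := by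
  obtain ⟨z, hz, z2⟩ := exists_inv (H := zpowers x) (by
    rw [Nat.card_zpowers]
    exact Nat.not_odd_iff_even.1 fun o => h' (c.memU (c.KH h) o))
  obtain rfl := (c.invK (zpowers_le.2 h hz) (sq1 z2)).resolve_left (ne1 z2)
  have k : g * c.t * g⁻¹ ∈ c.K := zpowers_le.2 e (conj_zpowers g x ▸ conj_mem_conj.2 hz)
  exact mem_cent1.2 (mul_inv_eq_iff_eq_mul.1
    ((c.invK k (sq1 (ord2_conj z2 g))).resolve_left (ne1 (ord2_conj z2 g))))

theorem modU (h : x ∈ c.K) : c.v * x * c.v⁻¹ * x ∈ c.U := by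
  obtain ⟨u, hu, s, hs, rfl⟩ := c.memK.1 h
  rw [show c.v * (u * s) * c.v⁻¹ * (u * s) = c.v * u * c.v⁻¹ * (c.v * s * c.v⁻¹ * u * s) by group, c.vA hs]
  exact mul_mem (c.cU c.vH hu) (c.cU' (c.AH hs) hu)

theorem sdK : Sdprod c.U c.A c.K := c.st.sd.subr c.AS

theorem commU (hx : x ∈ c.K) (hy : y ∈ c.K) : x * y * x⁻¹ * y⁻¹ ∈ c.U :=
  c.sdK.commutator_le (isMulCommutative_of_isCyclic c.st.dih.cyc) (commutator_mem_commutator hx hy)

theorem cardK : Nat.card c.K = Nat.card c.U * Nat.card c.A := c.sdK.card_mul.symm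

theorem cardG : Nat.card G = 2 * c.H.index * Nat.card c.K := by
  rw [← c.H.index_mul_card, ← c.st.sd.card_mul, c.st.dih.card, c.cardK, U]; ring

theorem oddi : Odd c.H.index := by
  have := c.st.syl.idx_of_le c.SH
  rwa [relIndex_top_right, odd_iff_piNat] at this

theorem conjA (hs : s ∈ c.A) (hx : x ∈ c.U) : ∃ g, ∃ y ∈ c.U, y * s = s * y ∧ g * (s * x) * g⁻¹ = s * y := by
  have hA : IsPGroup 2 c.A := c.st.pg.to_le c.AS
  have k : IsPiHallOf {2} c.A c.K := isPiHallOf_sup_right (.inr (c.AH.trans c.nU)) (odd_iff_pi.2 c.oU)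
    (c.st.syl.isPi.of_le c.AS)
  have hK : s * x ∈ c.K := mul_mem (c.AK hs) (c.UK hx)
  obtain ⟨g, hg, e⟩ := syl_exists_conj_le Nat.prime_two k
    ((isPGroup_zpowers_iff Nat.prime_two).2 (piNat_constt {2} (s * x))) (zpowers_le.2 (constt_mem _ hK))
  have e1 := e (conj_mem_conj.2 (mem_zpowers _))
  have z := c.memU (constt_mem {2}ᶜ (c.KH hK)) (odd_iff_piNat.1 (piNat_constt _ _))
  have e2 := constt_mul_constt_compl {2} (s * x)
  have e3 := (commute_constt_constt {2} {2}ᶜ (s * x)).eq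
  generalize constt {2} (s * x) = a at *
  generalize constt {2}ᶜ (s * x) = b at *
  have e4 : s⁻¹ * (g * a * g⁻¹) = 1 := c.US (by
    rw [show s⁻¹ * (g * a * g⁻¹) = s⁻¹ * (g * (a * b) * g⁻¹ * (a * b)⁻¹) * s * (s⁻¹ * (a * b)) *
      (g * b * g⁻¹)⁻¹ by group, e2, inv_mul_cancel_left]
    exact mul_mem (mul_mem (c.cU' (c.AH hs) (c.commU hg hK)) hx) (inv_mem (c.cU (c.KH hg) z)))
    (c.AS (mul_mem (inv_mem hs) e1))
  obtain rfl := inv_mul_eq_one.1 e4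
  refine ⟨g, _, c.cU (c.KH hg) z, ?_, by rw [← e2]; group⟩
  rw [conj_mul, conj_mul, e3]

theorem refl (hx : x ∈ c.K) (e : c.v * x * c.v⁻¹ = x⁻¹) :
    ∃ g ∈ c.H, g * (x * c.v) * g⁻¹ = c.v ∨ g * (x * c.v) * g⁻¹ = c.v * c.σ := by
  have n : x * c.v ∉ c.K := fun h => c.vK ((mul_mem_cancel_left hx).1 h)
  have o : orderOf (x * c.v) = 2 := ord2 (by rw [mul_assoc, ← mul_assoc c.v, ← c.vi, c.vi.symm.trans c.vi, ← c.vi.symm]; nth_rewrite 2 [← c.vi]; rw [e, mul_inv_cancel]) fun h => n (h ▸ one_mem _)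
  obtain ⟨g, hg, k⟩ := syl_exists_conj_le Nat.prime_two c.st.sylH (pg2 o) (zpowers_le.2 (mul_mem (c.KH hx) c.vH))
  have k1 := k (conj_mem_conj.2 (mem_zpowers _))
  have k2 := c.st.dih.mul_mem c.hv k1 c.hvA fun h => n (by simpa [mul_assoc] using c.cK (inv_mem hg) (c.AK h))
  rw [← c.hσ] at k2
  obtain ⟨k, k3⟩ := k2
  have k4 : g * (x * c.v) * g⁻¹ = c.v * c.σ ^ k := by rw [show c.σ ^ k = _ from k3, GW.tt c.vv]
  have k5 : ∀ j : ℤ, c.σ ^ j * g * (x * c.v) * (c.σ ^ j * g)⁻¹ = c.v * c.σ ^ (k - 2 * j) := fun j => by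
    have := c.vA (zpow_mem c.σA (-j))
    rw [show c.σ ^ j * g * (x * c.v) * (c.σ ^ j * g)⁻¹ = c.σ ^ j * (g * (x * c.v) * g⁻¹) * c.σ ^ (-j) by group, k4,
      show c.σ ^ j = (c.σ ^ (-j))⁻¹ by group, ← this]
    group
  refine ⟨c.σ ^ (k / 2) * g, mul_mem (zpow_mem (c.AH c.σA) _) hg, ?_⟩
  rw [k5]
  rcases Int.emod_two_eq_zero_or_one k with h | h
  · left; rw [show k - 2 * (k / 2) = 0 by omega, zpow_zero, mul_one]
  · right; rw [show k - 2 * (k / 2) = 1 by omega, zpow_one]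

theorem sum_cls (hw : w ∈ c.H) (n : w ∉ c.K) :
    ∑ x : c.K, (if ∃ g ∈ c.H, g * (x * c.v) * g⁻¹ = w then (1 : ℂ) else 0) = C1[w].relIndex c.H := by
  have e : C1[(⟨w, hw⟩ : c.H)] = C1[w].subgroupOf c.H := by
    ext a; rw [mem_subgroupOf, mem_cent1, mem_cent1, Subtype.ext_iff]; rfl
  rw [relIndex, ← e, ← sum_ite_isConj]
  refine Finset.sum_of_injOn (fun x : c.K => (⟨x * c.v, mul_mem (c.KH x.2) c.vH⟩ : c.H))
    (fun a _ b _ h => Subtype.ext (mul_right_cancel (congrArg Subtype.val h))) (fun _ _ => by simp)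
    (fun a _ h => if_neg fun k => h ?_) fun a _ => if_congr ⟨?_, fun k => ?_⟩ rfl rfl
  · obtain ⟨g, rfl⟩ := isConj_iff.1 k
    have k1 := (c.two (g * ⟨w, hw⟩ * g⁻¹).2).resolve_left fun h => n (by
      simpa [mul_assoc] using c.cK (inv_mem g.2) h)
    refine ⟨⟨_, c.cv k1⟩, by simp, Subtype.ext ?_⟩
    simp only [inv_mul_cancel_right, GW.tt c.vv]
  · rintro ⟨g, hg, rfl⟩
    exact IsConj.symm (isConj_iff.2 ⟨⟨g, hg⟩, rfl⟩)
  · obtain ⟨g, k⟩ := isConj_iff.1 k.symm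
    exact ⟨g, g.2, congrArg Subtype.val k⟩

/-- conjugation by `v` on `K` -/
def τ : c.K ≃* c.K where
  toFun x := ⟨_, c.cv x.2⟩
  invFun x := ⟨_, c.cv x.2⟩
  left_inv x := Subtype.ext (by simp [c.vi, mul_assoc, c.vv, GW.tt c.vv])
  right_inv x := Subtype.ext (by simp [c.vi, mul_assoc, c.vv, GW.tt c.vv])
  map_mul' x y := Subtype.ext (by simp [mul_assoc])

theorem τ_coe (x : c.K) : (c.τ x : G) = c.v * x * c.v⁻¹ := rfl
theorem ττ (x : c.K) : c.τ (c.τ x) = x := c.τ.left_inv x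

end Su

end Cfsg.Agent.GW.Ch
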