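import Cfsg.Agent.GW.C1

/-! Gorenstein-Walter, characters: induction from `K`. -/

set_option autoImplicit false
set_option linter.unusedSectionVars false
set_option linter.unusedVariables false
set_option linter.style.haveILetI false

namespace Cfsg.Agent.GW.Ch

open Cfsg Cfsg.Agent.GT Cfsg.Agent.Char Cfsg.Agent.Cls Cfsg.Agent.B84C Subgroup Function
open scoped ComplexConjugate Classical

universe u

/-- multiplicative functions -/
structure Lin {X : Type u} [Group X] (μ : X → ℂ) : Prop where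
  mul : ∀ x y, μ (x * y) = μ x * μ y
  one : μ 1 = 1

section
variable {X : Type u} [Group X] [Finite X] {μ ν β : X → ℂ}

theorem Lin.irr (h : Lin μ) : IsIrrCharacter X μ := isIrrCharacter_hom ⟨⟨μ, h.one⟩, h.mul⟩
theorem lin_of (h : IsIrrCharacter X μ) (e : μ 1 = 1) : Lin μ := by
  obtain ⟨f, rfl⟩ := h.isCharacter.exists_hom_of_degree_one e
  exact ⟨fun x y => by simp, e⟩
theorem Lin.inv (h : Lin μ) (x : X) : μ x⁻¹ = conj (μ x) := h.irr.isCharacter.apply_inv x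
theorem Lin.mul_inv (h : Lin μ) (x : X) : μ x * μ x⁻¹ = 1 := by rw [← h.mul, mul_inv_cancel, h.one]
theorem Lin.ne (h : Lin μ) (x : X) : μ x ≠ 0 := left_ne_zero_of_mul_eq_one (h.mul_inv x)
theorem Lin.pow (h : Lin μ) (x : X) (n : ℕ) : μ (x ^ n) = μ x ^ n := by
  induction n with
  | zero => simpa using h.one
  | succ n ih => rw [pow_succ, h.mul, ih, pow_succ]
theorem Lin.mul_irr (h : Lin μ) (hβ : IsIrrCharacter X β) : IsIrrCharacter X (β * μ) := by
  obtain ⟨f, rfl⟩ := h.irr.isCharacter.exists_hom_of_degree_one h.one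
  rw [mul_comm]
  exact hβ.unitsHom_mul f
end

namespace Su

variable {G : Type u} [Group G] [Fintype G] (c : Su G) {θ θ' μ ν μ' ν' β β' : c.K → ℂ} {χ : G → ℂ}

noncomputable def In (θ : c.K → ℂ) : G → ℂ := indFun c.K θ

/-- support in a trivial intersection set -/
def Ok (θ : c.K → ℂ) : Prop :=
  IsClassFunction c.K θ ∧ θ 1 = 0 ∧ ∀ x : c.K, θ x ≠ 0 → ∀ g : G, g * x * g⁻¹ ∈ c.K → g ∈ c.H

noncomputable def sR (f : c.K → ℂ) : ℂ := ∑ x, if c.τ x = x⁻¹ then f x else 0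

variable {c}

theorem In_res (h : c.Ok θ) (a : c.K) : c.In θ a = θ a + θ (c.τ a) := by
  have ha : c.v⁻¹ * a * c.v ∈ c.K := by simpa [c.vi] using c.cv a.2
  rw [In, BS.indFun_apply_two c.K h.1 c.vK a ha fun g hg n => ?_]
  · congr 2
    exact Subtype.ext (by simp [τ_coe, c.vi])
  · rw [c.vi]
    exact c.two (h.2.2 _ n g (by simp [mul_assoc]))

theorem In_one (h : c.Ok θ) : c.In θ 1 = 0 := by
  have := In_res h 1
  rwa [map_one, h.2.1, add_zero] at this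

theorem ci_In (hχ : IsClassFunction G χ) : ⟪χ, c.In θ⟫ = ⟪fun x : c.K => χ x, θ⟫ := ci_indFun_right _ hχ _

theorem ci_In_In (h : c.Ok θ) : ⟪c.In θ, c.In θ'⟫ = ⟪θ, θ'⟫ + ⟪θ ∘ c.τ, θ'⟫ := by
  rw [ci_In (χ := c.In θ) (isClassFunction_indFun _ _), ← ci_add_left]
  congr 1
  exact funext fun a => In_res h a

theorem cI_eq (a : G) : cI c.t a = if orderOf a = 2 then 1 else 0 := by
  have : IsConj c.t a ↔ orderOf a = 2 := ⟨fun h => by obtain ⟨g, rfl⟩ := isConj_iff.1 h; exact ord2_conj c.st.ord g,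
    fun h => isConj_iff.2 (c.st.one a h)⟩
  simp only [cI, this]

theorem ord_v (x : c.K) : orderOf (x * c.v) = 2 ↔ c.τ x = x⁻¹ := by
  have k : (x * c.v) * (x * c.v) = x * c.τ x := by rw [τ_coe, c.vi]; group
  refine ⟨fun h => Subtype.ext (eq_inv_of_mul_eq_one_right (k ▸ sq1 h)), fun h => ord2 (by simp [k, h]) fun e => ?_⟩
  exact c.vK ((mul_mem_cancel_left x.2).1 (e ▸ one_mem _))

theorem cZ_In (h : c.Ok θ) : cZ c.t (c.In θ) = 2 * c.H.index * c.sR fun x => c.sR fun y => θ (x * y) := by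
  rw [In, indFun_eq_ind, cZ_ind, c.cardG, Nat.cast_mul, mul_div_cancel_right₀ _ (card_ne_zero_complex c.K)]
  push_cast
  congr 1
  have k : ∀ y : c.K, θ y * cN c.t (c.K.subtype y) =
      ∑ x : c.K, if c.τ x = x⁻¹ ∧ c.τ (x⁻¹ * y) = (x⁻¹ * y)⁻¹ then θ y else 0 := fun y => by
    by_cases n : θ y = 0
    · simp [n]
    rw [cN, Finset.mul_sum]
    refine (Finset.sum_of_injOn (fun x : c.K => x * c.v) (fun a _ b _ e => Subtype.ext (mul_right_cancel e))
      (fun _ _ => by simp) (fun a _ e => ?_) fun a _ => ?_).symm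
    · rw [cI_eq, cI_eq]
      split_ifs with h1 h2
      rotate_left
      · simp
      · simp
      · simp
      refine (e ?_).elim
      have k1 : a * y * a⁻¹ = (y : G)⁻¹ := by
        have := inv2 h2
        rw [mul_inv_rev, inv_inv, coe_subtype, inv2 h1] at this
        rw [← this, inv2 h1, mul_assoc, sq1 h1, mul_one]
      rcases c.two (h.2.2 y n a (k1 ▸ inv_mem y.2)) with k | k
      · have e1 := (c.invK k (sq1 h1)).resolve_left (ne1 h1)
        have e2 := (c.invK (mul_mem (inv_mem k) y.2) (sq1 h2)).resolve_left (ne1 h2)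
        rw [e1, inv_mul_eq_iff_eq_mul, c.tt] at e2
        exact (n (by rw [show y = 1 from Subtype.ext e2, h.2.1])).elim
      · exact ⟨⟨_, c.cv k⟩, by simp, by simp only [inv_mul_cancel_right, GW.tt c.vv]⟩
    · rw [cI_eq, cI_eq, ← orderOf_conj c.v⁻¹ ((a * c.v)⁻¹ * _), show c.v⁻¹ * ((a * c.v)⁻¹ * c.K.subtype y) * c.v⁻¹⁻¹ =
        (a⁻¹ * y : c.K) * c.v by simp [c.vi, mul_assoc, GW.tt c.vv]]
      simp only [ord_v]
      split_ifs with h1 h2 h3 <;> simp_all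
  simp only [k, sR]
  rw [Finset.sum_comm]
  refine Finset.sum_congr rfl fun x _ => ?_
  split_ifs with e
  · exact (Fintype.sum_equiv (Equiv.mulLeft x) _ _ fun y => by simp [e]).symm
  · simp [e]

theorem sR_tw (f : c.K → ℂ) (h : c.K) : (c.sR fun x => f (h * x * (c.τ h)⁻¹)) = c.sR f :=
  Fintype.sum_equiv ((Equiv.mulLeft h).trans (Equiv.mulRight (c.τ h)⁻¹)) _ _ fun x =>
    if_congr (by simp [c.ττ, mul_assoc]) rfl rfl

theorem sR_mul (f : c.K → ℂ) (a : ℂ) : (c.sR fun x => a * f x) = a * c.sR f := by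
  simp [sR, Finset.mul_sum]

theorem sR_sub (f g : c.K → ℂ) : (c.sR fun x => f x - g x) = c.sR f - c.sR g := by
  simp only [sR, ← Finset.sum_sub_distrib]
  exact Finset.sum_congr rfl fun x _ => by split_ifs <;> simp

theorem sR_congr {f g : c.K → ℂ} (h : ∀ x, c.τ x = x⁻¹ → f x = g x) : c.sR f = c.sR g :=
  Finset.sum_congr rfl fun x _ => if_ctx_congr Iff.rfl (h x) fun _ => rfl

theorem sR_zero (h : Lin ν) {a : c.K} (e : ν (c.τ a) = ν a⁻¹) (n : ν a * ν a ≠ 1) : c.sR ν = 0 := by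
  have := sR_tw ν a
  have k : ν (c.τ a)⁻¹ = ν a := by rw [h.inv, e, ← h.inv, inv_inv]
  simp only [h.mul, k, mul_right_comm (ν a), sR_mul] at this
  exact (mul_left_eq_self₀.1 this).resolve_left n

theorem sR_lin (h : Lin ν) : (c.sR fun x => c.sR fun y => ν (x * y)) = c.sR ν ^ 2 := by
  simp only [h.mul, sR_mul, mul_comm _ (c.sR ν), sq]

variable (c) in
/-- linear characters of `K / U` -/
noncomputable def M : Finset (c.K → ℂ) := IrrKer (c.U.subgroupOf c.K)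

theorem mem_M : μ ∈ c.M ↔ Lin μ ∧ ∀ u : c.K, (u : G) ∈ c.U → μ u = 1 := by
  rw [M, mem_IrrKer]
  refine ⟨fun ⟨h, k⟩ => ?_, fun ⟨h, k⟩ => ⟨h.irr, fun u hu => by rw [k u hu, h.one]⟩⟩
  have e := h.degree_one_of_commutators fun x y => k _ (c.commU x.2 y.2)
  exact ⟨lin_of h e, fun u hu => e ▸ k u hu⟩

theorem linM (h : μ ∈ c.M) : Lin μ := (mem_M.1 h).1
theorem M_U (h : μ ∈ c.M) {u : c.K} (hu : (u : G) ∈ c.U) : μ u = 1 := (mem_M.1 h).2 u hu
theorem one_M : 1 ∈ c.M := mem_M.2 ⟨⟨by simp, rfl⟩, fun _ _ => rfl⟩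
theorem mul_M (h : μ ∈ c.M) (h' : ν ∈ c.M) : μ * ν ∈ c.M :=
  mem_M.2 ⟨⟨fun x y => by simp only [Pi.mul_apply, (linM h).mul, (linM h').mul]; ring,
    by simp [(linM h).one, (linM h').one]⟩, fun u hu => by simp [M_U h hu, M_U h' hu]⟩
theorem pow_M (h : μ ∈ c.M) (n : ℕ) : μ ^ n ∈ c.M := by
  induction n with
  | zero => exact one_M
  | succ n ih => exact pow_succ μ n ▸ mul_M ih h
theorem conj_M (h : μ ∈ c.M) : conjFun μ ∈ c.M :=
  mem_M.2 ⟨⟨fun x y => by simp [conjFun, (linM h).mul], by simp [conjFun, (linM h).one]⟩,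
    fun u hu => by simp [conjFun, M_U h hu]⟩
theorem mul_conj_M (h : μ ∈ c.M) : μ * conjFun μ = 1 :=
  funext fun x => by rw [Pi.mul_apply, conjFun_apply, ← (linM h).inv, (linM h).mul_inv, Pi.one_apply]

theorem sumM (x : c.K) : ∑ μ ∈ c.M, μ x = if (x : G) ∈ c.U then (Nat.card c.A : ℂ) else 0 := by
  haveI := normal_subgroupOf (c.KH.trans c.nU)
  have := sum_irr_ker_degree_mul (c.U.subgroupOf c.K) x
  rw [← Finset.sum_congr (s₁ := c.M) rfl fun μ h => show μ 1 * μ x = μ x by rw [(linM h).one, one_mul]]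
  exact this.trans (if_congr Iff.rfl (congrArg _ c.sdK.relIndex) rfl)

theorem M_τ (h : μ ∈ c.M) (x : c.K) : μ (c.τ x) = μ x⁻¹ := by
  have := M_U h (u := c.τ x * x) (c.modU x.2)
  rw [(linM h).mul, ← (linM h).mul_inv x, mul_comm] at this
  exact mul_left_cancel₀ ((linM h).ne x) this

theorem M_τ' (h : μ ∈ c.M) : μ ∘ c.τ = conjFun μ := funext fun x => (M_τ h x).trans ((linM h).inv x)

variable (c) in
def σ' : c.K := ⟨c.σ, c.AK c.σA⟩
variable (c) in
def t' : c.K := ⟨c.t, c.AK c.st.mem⟩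

theorem powA {s : c.K} (hs : (s : G) ∈ c.A) : ∃ n : ℕ, s = c.σ' ^ n := by
  rw [← c.hσ, ← mem_powers_iff_mem_zpowers] at hs
  obtain ⟨n, e⟩ := hs
  exact ⟨n, Subtype.ext e.symm⟩

theorem decK (x : c.K) : ∃ u s : c.K, (u : G) ∈ c.U ∧ (s : G) ∈ c.A ∧ x = u * s := by
  obtain ⟨u, hu, s, hs, e⟩ := c.memK.1 x.2
  exact ⟨⟨u, c.UK hu⟩, ⟨s, c.AK hs⟩, hu, hs, Subtype.ext e⟩

theorem M_ext (h : μ ∈ c.M) (h' : ν ∈ c.M) (e : μ c.σ' = ν c.σ') : μ = ν := funext fun x => by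
  obtain ⟨u, s, hu, hs, rfl⟩ := decK x
  obtain ⟨n, rfl⟩ := powA hs
  rw [(linM h).mul, (linM h').mul, M_U h hu, M_U h' hu, (linM h).pow, (linM h').pow, e]

theorem M_t (h : μ ∈ c.M) : μ c.t' = 1 ∨ μ c.t' = -1 :=
  mul_self_eq_one_iff.1 (by rw [← (linM h).mul, show c.t' * c.t' = 1 from Subtype.ext c.tt, (linM h).one])

variable (c) in
theorem ex_μ1 : ∃ μ ∈ c.M, μ c.t' = -1 := by
  by_contra n
  have := sumM c.t'
  rw [if_neg (show (c.t' : G) ∉ c.U from c.tU), Finset.sum_congr rfl fun μ h => (M_t h).resolve_right fun e => n ⟨μ, h, e⟩] at this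
  simp only [Finset.sum_const, nsmul_eq_mul, mul_one, Nat.cast_eq_zero, Finset.card_eq_zero] at this
  exact Finset.ne_empty_of_mem one_M this

variable (c) in
theorem ex_μ0 : ∃ μ ∈ c.M, μ c.σ' = -1 := by
  obtain ⟨μ, h, e⟩ := c.ex_μ1
  obtain ⟨n, k⟩ := powA (s := c.t') c.st.mem
  exact ⟨μ ^ n, pow_M h n, by rw [Pi.pow_apply, ← (linM h).pow, ← k, e]⟩

variable (c) in
noncomputable def μ0 : c.K → ℂ := c.ex_μ0.choose
theorem μ0_M : c.μ0 ∈ c.M := c.ex_μ0.choose_spec.1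
theorem μ0_σ : c.μ0 c.σ' = -1 := c.ex_μ0.choose_spec.2
theorem μ0_ne : c.μ0 ≠ 1 := fun e => by have := μ0_σ (c := c); rw [e, Pi.one_apply] at this; norm_num at this
theorem conj_μ0 : conjFun c.μ0 = c.μ0 := M_ext (conj_M μ0_M) μ0_M (by simp [conjFun, μ0_σ])
theorem conj_one' : conjFun (1 : c.K → ℂ) = 1 := conjFun_one
theorem μ0_sq (x : c.K) : c.μ0 x * c.μ0 x = 1 := by
  have := congrFun (mul_conj_M (c := c) μ0_M) x
  rwa [conj_μ0] at this

theorem real_M (h : μ ∈ c.M) (e : conjFun μ = μ) : μ = 1 ∨ μ = c.μ0 := by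
  have := congrFun (mul_conj_M h) c.σ'
  rw [e] at this
  exact (mul_self_eq_one_iff.1 this).imp (M_ext h one_M) fun k => M_ext h μ0_M (k.trans μ0_σ.symm)

theorem sR_nr (h : μ ∈ c.M) (e : conjFun μ ≠ μ) : c.sR μ = 0 :=
  sR_zero (linM h) (M_τ h c.σ') fun k => e (by
    rcases mul_self_eq_one_iff.1 k with k | k
    · rw [M_ext h one_M k, conj_one']
    · rw [M_ext h μ0_M (k.trans μ0_σ.symm), conj_μ0])

variable (c) in
noncomputable def N1 : ℕ := C1[c.v].relIndex c.H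
variable (c) in
noncomputable def N2 : ℕ := C1[c.v * c.σ].relIndex c.H

theorem μ0_cls {x y : c.K} {g : G} (hg : g ∈ c.H) (e : g * (x * c.v) * g⁻¹ = y * c.v) : c.μ0 x = c.μ0 y := by
  have l := linM (c := c) μ0_M
  have k : ∀ (g x y : c.K), g * (x * c.v) * (g : G)⁻¹ = y * c.v → c.μ0 x = c.μ0 y := fun g x y e => by
    have : y = g * x * c.τ g⁻¹ := Subtype.ext (mul_right_cancel (b := c.v) (by rw [← e]; simp [τ_coe, mul_assoc]))
    rw [this, l.mul, l.mul, M_τ μ0_M, inv_inv, mul_right_comm, μ0_sq, one_mul]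
  rcases c.two hg with h | h
  · exact k ⟨g, h⟩ x y e
  · rw [k ⟨_, h⟩ x (c.τ y) (by
      rw [show c.v * g * (x * c.v) * (c.v * g)⁻¹ = c.v * (g * (x * c.v) * g⁻¹) * c.v⁻¹ by group, e, τ_coe]; group),
      M_τ μ0_M, l.inv, ← conjFun_apply, conj_μ0]

theorem sR_cls (f : ℂ → ℂ) : (c.sR fun x => f (c.μ0 x)) = c.N1 * f 1 + c.N2 * f (-1) := by
  have n : c.v * c.σ ∉ c.K := fun h => c.vK ((mul_mem_cancel_right (c.AK c.σA)).1 h)
  rw [N1, N2, ← c.sum_cls c.vH c.vK, ← c.sum_cls (mul_mem c.vH (c.AH c.σA)) n, Finset.sum_mul, Finset.sum_mul,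
    ← Finset.sum_add_distrib]
  refine Finset.sum_congr rfl fun x _ => ?_
  have k1 : (∃ g ∈ c.H, g * (x * c.v) * g⁻¹ = c.v) → c.μ0 x = 1 := fun ⟨g, hg, e⟩ => by
    rw [μ0_cls hg (y := 1) (by simpa using e), (linM μ0_M).one]
  have k2 : (∃ g ∈ c.H, g * (x * c.v) * g⁻¹ = c.v * c.σ) → c.μ0 x = -1 := fun ⟨g, hg, e⟩ => by
    rw [μ0_cls hg (y := c.τ c.σ') (by rw [e, τ_coe]; simp [σ']), M_τ μ0_M, (linM μ0_M).inv, μ0_σ]; simp
  have k3 : ∀ w, orderOf w = 2 → (∃ g ∈ c.H, g * (x * c.v) * g⁻¹ = w) → c.τ x = x⁻¹ := fun w o ⟨g, _, e⟩ => by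
    rw [← ord_v, ← orderOf_conj g, e, o]
  have o2 : orderOf (c.v * c.σ) = 2 := c.st.refl_ord (mul_mem c.hv (c.AS c.σA))
    fun h => c.hvA ((mul_mem_cancel_right c.σA).1 h)
  by_cases e : c.τ x = x⁻¹
  · obtain ⟨g, hg, k | k⟩ := c.refl x.2 (congrArg Subtype.val e)
    · have := k1 ⟨g, hg, k⟩
      rw [if_pos e, if_pos ⟨g, hg, k⟩, if_neg fun h => by rw [k2 h] at this; norm_num at this]; simp [this]
    · have := k2 ⟨g, hg, k⟩
      rw [if_pos e, if_neg fun h => by rw [k1 h] at this; norm_num at this, if_pos ⟨g, hg, k⟩]; simp [this]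
  · rw [if_neg e, if_neg fun h => e (k3 _ c.vo h), if_neg fun h => e (k3 _ o2 h)]; ring

theorem sR_one : c.sR 1 = c.N1 + c.N2 := (sR_cls (c := c) fun _ => 1).trans (by simp)
theorem sR_μ0 : c.sR c.μ0 = c.N1 - c.N2 := by simpa [sub_eq_add_neg] using sR_cls (c := c) fun x => x

end Su

end Cfsg.Agent.GW.Ch
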