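import Cfsg.Agent.GW.C2

/-! Gorenstein-Walter, characters: the exceptional characters. -/

set_option autoImplicit false
set_option linter.unusedSectionVars false
set_option linter.unusedVariables false
set_option linter.style.haveILetI false

namespace Cfsg.Agent.GW.Ch

open Cfsg Cfsg.Agent.GT Cfsg.Agent.Char Cfsg.Agent.Cls Cfsg.Agent.B84C Subgroup Function
open scoped ComplexConjugate Classical

universe u

namespace Su

variable {G : Type u} [Group G] [Fintype G] (c : Su G) {θ θ' μ ν μ' ν' β β' : c.K → ℂ} {χ : G → ℂ}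

def Ak (β : c.K → ℂ) : Prop := IsIrrCharacter c.K β ∧ ∀ s : c.K, (s : G) ∈ c.A → β s = β 1
def Bt (β : c.K → ℂ) : Prop := IsIrrCharacter c.K β ∧ ∀ x : c.K, c.τ x = x⁻¹ → β x = β 1
noncomputable def dl (β μ ν : c.K → ℂ) : G → ℂ := c.In (β * μ - β * ν)
noncomputable def d (χ : G → ℂ) (β μ : c.K → ℂ) : ℂ := ⟪fun x : c.K => χ x, β * μ⟫
noncomputable def cc (χ : G → ℂ) (β : c.K → ℂ) (x : c.K) : ℂ := ∑ μ ∈ c.M, c.d χ β μ * μ x
noncomputable def Fb (β : c.K → ℂ) (g : G) : ℂ := if h : g ∈ c.U then conj (β ⟨g, c.UK h⟩) else 0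
noncomputable def Lf (β : c.K → ℂ) (a g : G) : ℂ :=
  if h : orderOf a = 2 then c.Fb β ((c.st.one a h).choose⁻¹ * g * (c.st.one a h).choose) else 0
noncomputable def gam (β : c.K → ℂ) : G → ℂ := c.dl β 1 c.μ0

variable {c}

theorem τA {s : c.K} (h : (s : G) ∈ c.A) : c.τ s = s⁻¹ := Subtype.ext (c.vA h)
theorem τt : c.τ c.t' = c.t' := (τA (s := c.t') c.st.mem).trans (Subtype.ext (inv2 c.st.ord))
theorem Bt.ak (h : c.Bt β) : c.Ak β := ⟨h.1, fun s hs => h.2 s (τA hs)⟩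
theorem Bt.mul (h : c.Bt β) {x : c.K} (hx : c.τ x = x⁻¹) (y : c.K) : β (x * y) = β y :=
  h.1.isCharacter.mul_of_apply_eq (h.2 x hx) y
theorem Bt.τ (h : c.Bt β) : β ∘ c.τ = β := funext fun x => by
  rw [comp_apply, ← h.mul (x := x * (c.τ x)⁻¹) (by simp [c.ττ]), inv_mul_cancel_right]
theorem Ak.τ (h : c.Ak β) : c.Ak (β ∘ c.τ) :=
  ⟨h.1.comp_equiv c.τ, fun s hs => by rw [comp_apply, comp_apply, map_one, τA hs, h.2 _ (inv_mem hs)]⟩
theorem bt_one : c.Bt 1 := ⟨isIrrCharacter_one, fun _ _ => rfl⟩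

theorem ok_dl (h : c.Ak β) (hμ : μ ∈ c.M) (hν : ν ∈ c.M) : c.Ok (β * μ - β * ν) :=
  ⟨((linM hμ).mul_irr h.1).isClassFunction.sub ((linM hν).mul_irr h.1).isClassFunction,
    by simp [(linM hμ).one, (linM hν).one],
    fun x n g => c.TI x.2 fun hx => n (by simp [M_U hμ hx, M_U hν hx])⟩

theorem dl_virt (h : c.Ak β) (hμ : μ ∈ c.M) (hν : ν ∈ c.M) : IsGeneralizedCharacter G (c.dl β μ ν) :=
  (((linM hμ).mul_irr h.1).virt.sub ((linM hν).mul_irr h.1).virt).indFun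

theorem dl_one (h : c.Ak β) (hμ : μ ∈ c.M) (hν : ν ∈ c.M) : c.dl β μ ν 1 = 0 := In_one (ok_dl h hμ hν)

theorem dl_t (h : c.Ak β) (hμ : μ ∈ c.M) (hν : ν ∈ c.M) : c.dl β μ ν c.t = 2 * β 1 * (μ c.t' - ν c.t') := by
  have := In_res (ok_dl h hμ hν) c.t'
  rw [τt] at this
  refine this.trans ?_
  simp only [Pi.sub_apply, Pi.mul_apply, h.2 c.t' c.st.mem]; ring

theorem ci_mul (h : c.Ak β) (h' : c.Ak β') (hμ : μ ∈ c.M) (hν : ν ∈ c.M) :
    ⟪β * μ, β' * ν⟫ = if β = β' ∧ μ = ν then 1 else 0 := by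
  rw [((linM hμ).mul_irr h.1).ci_eq_ite ((linM hν).mul_irr h'.1)]
  refine if_congr ⟨fun e => ?_, fun e => by rw [e.1, e.2]⟩ rfl rfl
  have e1 := congrFun e 1
  have e2 := congrFun e c.σ'
  simp only [Pi.mul_apply, (linM hμ).one, (linM hν).one, mul_one, h.2 c.σ' c.σA, h'.2 c.σ' c.σA] at e1 e2
  rw [e1] at e2
  obtain rfl := M_ext hμ hν (mul_left_cancel₀ h'.1.apply_one_ne_zero e2)
  exact ⟨funext fun x => mul_right_cancel₀ ((linM hμ).ne x) (congrFun e x), rfl⟩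

theorem ci_dl (h : c.Ak β) (h' : c.Ak β') (hμ : μ ∈ c.M) (hν : ν ∈ c.M) (hμ' : μ' ∈ c.M) (hν' : ν' ∈ c.M) :
    ⟪c.dl β μ ν, c.dl β' μ' ν'⟫ =
      (if β = β' ∧ μ = μ' then 1 else 0) - (if β = β' ∧ μ = ν' then 1 else 0) -
      ((if β = β' ∧ ν = μ' then 1 else 0) - (if β = β' ∧ ν = ν' then 1 else 0)) +
      ((if β ∘ c.τ = β' ∧ conjFun μ = μ' then 1 else 0) - (if β ∘ c.τ = β' ∧ conjFun μ = ν' then 1 else 0) -
      ((if β ∘ c.τ = β' ∧ conjFun ν = μ' then 1 else 0) - (if β ∘ c.τ = β' ∧ conjFun ν = ν' then 1 else 0))) := by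
  rw [dl, dl, ci_In_In (ok_dl h hμ hν), show (β * μ - β * ν) ∘ c.τ = β ∘ c.τ * conjFun μ - β ∘ c.τ * conjFun ν by
    rw [← M_τ' hμ, ← M_τ' hν]; rfl]
  simp only [ci_sub_left, ci_sub_right, ci_mul h h', ci_mul h.τ h', hμ, hν, hμ', hν', conj_M]
  ring

theorem cZ_dl (h : c.Bt β) (hμ : μ ∈ c.M) (hν : ν ∈ c.M) :
    cZ c.t (c.dl β μ ν) = 2 * c.H.index * (β 1 * (c.sR μ ^ 2 - c.sR ν ^ 2)) := by
  rw [dl, cZ_In (ok_dl h.ak hμ hν), ← sR_lin (linM hμ), ← sR_lin (linM hν),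
    ← sR_sub (fun x => c.sR fun y => μ (x * y)), ← sR_mul _ (β 1)]
  refine congrArg _ (sR_congr (c := c) fun x hx => ?_)
  rw [← sR_sub (fun y => μ (x * y)), ← sR_mul]
  refine sR_congr fun y hy => ?_
  simp only [Pi.sub_apply, Pi.mul_apply, h.mul hx, h.2 y hy]; ring

theorem ci_dl_left (hχ : IsClassFunction G χ) : ⟪χ, c.dl β μ ν⟫ = c.d χ β μ - c.d χ β ν := by
  rw [dl, ci_In hχ, ci_sub_right]; rfl

theorem d_int (hχ : IsGeneralizedCharacter G χ) (h : c.Ak β) (hμ : μ ∈ c.M) : ∃ n : ℤ, c.d χ β μ = n :=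
  (hχ.restrict c.K).ci_int ((linM hμ).mul_irr h.1).virt

theorem d_conj (hχ : IsClassFunction G χ) (h : c.Bt β) (hμ : μ ∈ c.M) : c.d χ β (conjFun μ) = c.d χ β μ := by
  rw [d, d, ← ci_comp_equiv c.τ.toEquiv _ (β * μ), ← M_τ' hμ]
  congr 1
  · exact funext fun x => (hχ _ _).symm
  · nth_rewrite 1 [← h.τ]; rfl

theorem cc_eq (x : c.K) :
    Nat.card c.U * c.cc χ β x = ∑ y : c.K, if (y : G) ∈ c.U then χ (x * y) * conj (β (x * y)) else 0 := by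
  have k : ∀ y : c.K, (if (y : G) ∈ c.U then χ (x * y) * conj (β (x * y)) else 0) =
      (Nat.card c.A : ℂ)⁻¹ * ∑ μ ∈ c.M, χ (x * y) * conj (β (x * y)) * μ y⁻¹ := fun y => by
    rw [← Finset.mul_sum, sumM]
    have := card_ne_zero_complex c.A
    by_cases e : (y : G) ∈ c.U
    · rw [if_pos e, if_pos (show ((y⁻¹ : c.K) : G) ∈ c.U from inv_mem e)]; field_simp
    · rw [if_neg e, if_neg (show ((y⁻¹ : c.K) : G) ∉ c.U from fun h => e (inv_mem_iff.1 h))]; simp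
  simp only [k]
  rw [← Finset.mul_sum, Finset.sum_comm, cc, Finset.mul_sum, Finset.mul_sum]
  refine Finset.sum_congr rfl fun μ h => ?_
  have := card_ne_zero_complex c.A
  have := card_ne_zero_complex c.U
  rw [d, ci_def, c.cardK, ← Equiv.sum_comp (Equiv.mulLeft x), mul_assoc, Finset.sum_mul]
  push_cast
  field_simp
  refine Finset.sum_congr rfl fun y _ => ?_
  simp only [Equiv.coe_mulLeft, Pi.mul_apply, map_mul, ← (linM h).inv, mul_inv_rev, (linM h).mul, coe_mul]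
  linear_combination (χ (x * y) * conj (β (x * y)) * μ y⁻¹) * (linM h).mul_inv x

theorem Fb_coe {u : c.K} (h : (u : G) ∈ c.U) : c.Fb β u = conj (β u) := dif_pos h

theorem Fb_conj (h : c.Bt β) {k : G} (hk : k ∈ c.H) (g : G) : c.Fb β (k * g * k⁻¹) = c.Fb β g := by
  by_cases e : g ∈ c.U
  · rw [Fb, Fb, dif_pos e, dif_pos (c.cU hk e)]
    congr 1
    rcases c.two hk with n | n
    · exact h.1.isClassFunction ⟨g, _⟩ ⟨k, n⟩
    · rw [← h.1.isClassFunction ⟨g, _⟩ ⟨_, n⟩, ← congrFun h.τ (_ * _ * _)]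
      refine congrArg β ?_
      exact Subtype.ext (by simp [τ_coe, mul_assoc, c.vi, c.vv, GW.tt c.vv])
  · rw [Fb, Fb, dif_neg e, dif_neg fun n => e (by simpa [mul_assoc] using c.cU' hk n)]

theorem Fb_int (h : c.Bt β) (g : G) : IsIntegral ℤ (c.Fb β g) := by
  unfold Fb
  split_ifs
  exacts [h.1.isCharacter.conjFun.isIntegral _, isIntegral_zero]

theorem sum_Fb : ∑ g, c.Fb β g * χ g = Nat.card c.U * c.cc χ β 1 := by
  rw [cc_eq]
  refine (Finset.sum_of_injOn (fun x : c.K => (x : G)) (fun _ _ _ _ => Subtype.ext) (fun _ _ => by simp)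
    (fun a _ e => ?_) fun a _ => ?_).symm
  · rw [Fb, dif_neg fun h => e ⟨⟨a, c.UK h⟩, by simp, rfl⟩, zero_mul]
  · split_ifs with e
    · simp [Fb_coe e, mul_comm]
    · rw [Fb, dif_neg e, zero_mul]

theorem Lf_eq (h : c.Bt β) (x g : G) : c.Lf β (x * c.t * x⁻¹) g = c.Fb β (x⁻¹ * g * x) := by
  have o := ord2_conj c.st.ord x
  have e := (c.st.one _ o).choose_spec
  rw [Lf, dif_pos o]
  generalize (c.st.one _ o).choose = y at e
  rw [← Fb_conj h (k := x⁻¹ * y) (mem_cent1.2 (by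
    rw [show x⁻¹ * y * c.t = x⁻¹ * (y * c.t * y⁻¹) * y by group, e]; group))]
  congr 1; group

theorem Lf_conj (h : c.Bt β) (k a g : G) : c.Lf β (k * a * k⁻¹) (k * g * k⁻¹) = c.Lf β a g := by
  by_cases o : orderOf a = 2
  · obtain ⟨x, rfl⟩ := c.st.one a o
    rw [show k * (x * c.t * x⁻¹) * k⁻¹ = (k * x) * c.t * (k * x)⁻¹ by group, Lf_eq h, Lf_eq h]
    congr 1; group
  · rw [Lf, Lf, dif_neg o, dif_neg (by rwa [orderOf_conj])]

theorem Lf_int (h : c.Bt β) (a g : G) : IsIntegral ℤ (c.Lf β a g) := by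
  unfold Lf
  split_ifs
  exacts [Fb_int h _, isIntegral_zero]

theorem omega_z (h : c.Bt β) (hχ : IsSIrr G χ) {n : ℤ} (hn : Odd n) (e : c.cc χ β 1 = n) :
    Od χ ∧ ∃ w : ℤ, Odd w ∧ ∀ x, ∑ g, (∑ a, c.Lf β a g) * χ (g * x) = w * χ x := by
  have zc : IsClassFunction G fun g => ∑ a, c.Lf β a g := fun g k =>
    (Fintype.sum_equiv (MulAut.conj k).toEquiv _ _ fun a => (Lf_conj h k a g).symm).symm
  have k : ∑ g, (∑ a, c.Lf β a g) * χ g = (c.H.index * Nat.card c.U * n : ℤ) := by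
    simp only [Finset.sum_mul]
    rw [Finset.sum_comm, Finset.sum_congr rfl (g := fun a => cI c.t a * (Nat.card c.U * n)), ← Finset.sum_mul]
    · have := sum_cI (t := c.t) (isClassFunction_const (1 : ℂ))
      simp only [mul_one] at this
      rw [this]; push_cast; ring
    · intro a _
      rw [cI_eq]
      split_ifs with o
      · obtain ⟨x, rfl⟩ := c.st.one a o
        rw [one_mul, ← e, ← sum_Fb]
        exact Fintype.sum_equiv (MulAut.conj x⁻¹).toEquiv _ _ fun g => by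
          rw [Lf_eq h, ← hχ.isClassFunction.conj' g x]; simp
      · simp [Lf, o]
  have o : Odd (c.H.index * Nat.card c.U * n : ℤ) :=
    ((Odd.natCast c.oddi).mul (Odd.natCast c.oU)).mul hn
  generalize (c.H.index * Nat.card c.U * n : ℤ) = N at k o
  generalize hz : (fun g => ∑ a, c.Lf β a g) = z at zc
  have zi : ∀ g, IsIntegral ℤ (z g) := fun g => hz ▸ IsIntegral.sum _ fun a _ => Lf_int h a g
  simp only [congrFun hz] at k ⊢
  have m : ∀ {χ : G → ℂ} {N : ℤ}, IsIrrCharacter G χ → Odd N → ∑ g, z g * χ g = N →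
      Od χ ∧ ∃ w : ℤ, Odd w ∧ ∀ x, ∑ g, z g * χ (g * x) = w * χ x := fun {χ N} hχ o k => by
    obtain ⟨D, hD⟩ := hχ.virt.exists_int_one
    have n0 := hχ.apply_one_ne_zero
    obtain ⟨w, hw⟩ := isInt_of_mul (hχ.isIntegral_central zc zi) (a := D) (b := N)
      (fun e => n0 (by simp [hD, e])) (by rw [← hD, k, div_mul_cancel₀ _ n0])
    rw [div_eq_iff n0] at hw
    have : N = w * D := by rw [k, hD] at hw; exact_mod_cast hw
    rw [this, Int.odd_mul] at o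
    refine ⟨⟨D, o.2, hD⟩, w, o.1, fun x => mul_left_cancel₀ n0 ?_⟩
    rw [hχ.sum_class_mul zc, hw]; ring
  rcases hχ with hχ | hχ
  · exact m hχ o k
  · obtain ⟨k1, w, k2, k3⟩ := m hχ o.neg (by simp [k])
    exact ⟨by simpa using k1.neg, w, k2, fun x => by simpa using k3 x⟩

theorem par (hχ : IsGeneralizedCharacter G χ) (h : c.Bt β) :
    ∃ n a : ℤ, c.cc χ β 1 = n ∧ ⟪χ, c.gam β⟫ = a ∧ Even (n - a) := by
  obtain ⟨T, -, e⟩ := BS.sum_invol (α := c.M) Finset.univ (fun μ => ⟨_, conj_M μ.2⟩) (by simp)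
    (fun _ _ => Subtype.ext (conjFun_conjFun _)) (fun μ => c.d χ β μ) fun μ _ => d_conj hχ.isClassFunction h μ.2
  rw [show Finset.univ.filter (fun a : c.M => ⟨_, conj_M a.2⟩ = a) = {⟨1, one_M⟩, ⟨c.μ0, μ0_M⟩} from
    Finset.ext fun a => by
      simp only [Finset.mem_filter, Finset.mem_insert, Finset.mem_singleton, Subtype.ext_iff, Finset.mem_univ, true_and]
      exact ⟨real_M a.2, by rintro (e | e) <;> rw [e]; exacts [conj_one', conj_μ0]⟩,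
    Finset.sum_pair (fun e => μ0_ne (congrArg Subtype.val e).symm), Finset.sum_coe_sort c.M (c.d χ β)] at e
  obtain ⟨a, ha⟩ := d_int hχ h.ak one_M
  obtain ⟨b, hb⟩ := d_int hχ h.ak μ0_M
  obtain ⟨r, hr⟩ : ∃ r : ℤ, ∑ μ ∈ T, c.d χ β μ = r :=
    Finset.sum_induction _ (fun x : ℂ => ∃ r : ℤ, x = r) (by rintro _ _ ⟨a, rfl⟩ ⟨b, rfl⟩; exact ⟨a + b, by simp⟩)
      ⟨0, by simp⟩ fun μ k => d_int hχ h.ak μ.2
  refine ⟨a + b + 2 * r, a - b, ?_, by rw [gam, ci_dl_left hχ.isClassFunction, ha, hb]; simp, b + r, by ring⟩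
  rw [cc, Finset.sum_congr rfl fun μ k => by rw [(linM k).one, mul_one], e, ha, hb, hr]; simp

theorem gam_virt (h : c.Bt β) : IsGeneralizedCharacter G (c.gam β) := dl_virt h.ak one_M μ0_M
theorem gam_one (h : c.Bt β) : c.gam β 1 = 0 := dl_one h.ak one_M μ0_M
theorem gam_gam (h : c.Bt β) (h' : c.Bt β') : ⟪c.gam β, c.gam β'⟫ = if β = β' then 4 else 0 := by
  rw [gam, gam, ci_dl h.ak h'.ak one_M μ0_M one_M μ0_M, h.τ, conj_one', conj_μ0]
  by_cases e : β = β'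
  · simp [e, μ0_ne, μ0_ne.symm]; norm_num
  · simp [e]
theorem gam4 (h : c.Bt β) : ⟪c.gam β, c.gam β⟫ = 4 := by rw [gam_gam h h, if_pos rfl]
theorem cZ_gam (h : c.Bt β) : cZ c.t (c.gam β) = 8 * c.H.index * β 1 * c.N1 * c.N2 := by
  rw [gam, cZ_dl h one_M μ0_M, sR_one, sR_μ0]; ring

theorem odd_n (h : c.Bt β) (hχ : IsSIrr G χ) (e : ⟪χ, c.gam β⟫ ≠ 0) : ∃ n : ℤ, Odd n ∧ c.cc χ β 1 = n := by
  obtain ⟨n, a, e1, e2, e3⟩ := par hχ.virt h
  refine ⟨n, ?_, e1⟩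
  have := four_le (gam_virt h) (gam4 h) (gam_one h) hχ
  rw [← hχ.virt.ci_comm (gam_virt h), or_iff_right e, e2] at this
  have k : a = 1 ∨ a = -1 := by exact_mod_cast this
  rcases k with rfl | rfl <;> simpa [parity_simps] using e3

theorem od_of (h : c.Bt β) (hχ : IsSIrr G χ) (e : ⟪χ, c.gam β⟫ ≠ 0) : Od χ := by
  obtain ⟨n, e1, e2⟩ := odd_n h hχ e
  exact (omega_z h hχ e1 e2).1

theorem nr_ne (hμ : μ ∈ c.M) (e : conjFun μ ≠ μ) : μ ≠ 1 ∧ μ ≠ c.μ0 ∧ conjFun μ ≠ 1 ∧ conjFun μ ≠ c.μ0 :=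
  ⟨by rintro rfl; exact e conj_one', by rintro rfl; exact e conj_μ0,
    fun k => e (by rw [← conjFun_conjFun μ, k, conj_one', conj_one']),
    fun k => e (by rw [← conjFun_conjFun μ, k, conj_μ0, conj_μ0])⟩

theorem conj_t (hμ : μ ∈ c.M) : conjFun μ c.t' = μ c.t' := by
  rcases M_t hμ with e | e <;> simp [conjFun, e]

theorem d_opp (h : c.Bt β) (hχ : IsSIrr G χ) (ho : Od χ) (hμ : μ ∈ c.M) (hν : ν ∈ c.M) (e1 : conjFun μ ≠ μ)
    (e2 : conjFun ν ≠ ν) (e3 : μ c.t' = 1) (e4 : ν c.t' = -1) : c.d χ β μ = c.d χ β ν := by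
  obtain ⟨n, n0, hn⟩ := h.1.exists_degree
  have k : ∀ {a b : c.K → ℂ}, a c.t' = 1 → b c.t' = -1 → a ≠ b := fun e3 e4 e => by
    rw [e, e4] at e3; norm_num at e3
  rw [← sub_eq_zero, ← ci_dl_left hχ.isClassFunction]
  refine even2 c.tt (dl_virt h.ak hμ hν) ?_ (dl_one h.ak hμ hν) ?_ (n := n) (by omega) ?_ hχ ho
  · rw [ci_dl h.ak h.ak hμ hν hμ hν]
    simp [e1, e2, k e3 e4, (k e3 e4).symm, k ((conj_t hμ).trans e3) e4, (k e3 ((conj_t hν).trans e4)).symm]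
    norm_num
  · rw [cZ_dl h hμ hν, sR_nr hμ e1, sR_nr hν e2]; simp
  · rw [dl_t h.ak hμ hν, e3, e4, hn]; push_cast; ring

theorem d_nr (h : c.Bt β) (hχ : IsSIrr G χ) (ho : Od χ) (hμ : μ ∈ c.M) (hν : ν ∈ c.M) (e1 : conjFun μ ≠ μ)
    (e2 : conjFun ν ≠ ν) : c.d χ β μ = c.d χ β ν := by
  rcases M_t hμ with e3 | e3 <;> rcases M_t hν with e4 | e4
  · obtain ⟨κ, k1, k2, k3⟩ : ∃ κ ∈ c.M, conjFun κ ≠ κ ∧ κ c.t' = -1 := by
      obtain ⟨κ, k1, k2⟩ := c.ex_μ1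
      by_cases k3 : conjFun κ = κ
      · refine ⟨μ * κ, mul_M hμ k1, fun e => e1 (funext fun x => mul_right_cancel₀ ((linM k1).ne x) ?_),
          by simp [e3, k2]⟩
        rw [conjFun_mul, k3] at e
        exact congrFun e x
      · exact ⟨κ, k1, k3, k2⟩
    rw [d_opp h hχ ho hμ k1 e1 k2 e3 k3, d_opp h hχ ho hν k1 e2 k2 e4 k3]
  · exact d_opp h hχ ho hμ hν e1 e2 e3 e4
  · exact (d_opp h hχ ho hν hμ e2 e1 e4 e3).symm
  · have k : ∀ κ ∈ c.M, κ c.t' = 1 → conjFun κ ≠ κ → c.d χ β μ = c.d χ β ν := fun κ k1 k3 k2 => by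
      rw [← d_opp h hχ ho k1 hμ k2 e1 k3 e3, d_opp h hχ ho k1 hν k2 e2 k3 e4]
    by_contra n
    have l := (linM hμ).ne c.σ'
    have l' := congrFun (mul_conj_M hν) c.σ'
    rcases real_M (mul_M hμ hν) (by_contra fun e => n (k _ (mul_M hμ hν) (by simp [e3, e4]) e)) with a | a
    · refine n (by rw [← d_conj hχ.isClassFunction h hν, M_ext hμ (conj_M hν) (mul_left_cancel₀ ((linM hν).ne c.σ')
        (((mul_comm _ _).trans (congrFun a c.σ')).trans l'.symm))])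
    rcases real_M (mul_M hμ (conj_M hν)) (by_contra fun e => n (k _ (mul_M hμ (conj_M hν))
      (by simp [e3, e4, conj_t hν]) e)) with b | b
    · exact n (by rw [M_ext hμ hν
        (mul_right_cancel₀ ((linM (conj_M hν)).ne c.σ') ((congrFun b c.σ').trans l'.symm))])
    · exact e2 (M_ext (conj_M hν) hν (mul_left_cancel₀ l (congrFun (b.trans a.symm) c.σ')))

theorem al3 (h : c.Bt β) (hμ : μ ∈ c.M) (e : conjFun μ ≠ μ) : ⟪c.dl β 1 μ, c.dl β 1 μ⟫ = 3 := by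
  obtain ⟨k1, k2, k3, k4⟩ := nr_ne hμ e
  rw [ci_dl h.ak h.ak one_M hμ one_M hμ, h.τ, conj_one']
  simp [k1, k1.symm, k3, e]; norm_num

theorem gam_al (h : c.Bt β) (hμ : μ ∈ c.M) (e : conjFun μ ≠ μ) : ⟪c.gam β, c.dl β 1 μ⟫ = 2 := by
  obtain ⟨k1, k2, k3, k4⟩ := nr_ne hμ e
  rw [gam, ci_dl h.ak h.ak one_M μ0_M one_M hμ, h.τ, conj_one', conj_μ0]
  simp [k1.symm, k2.symm, μ0_ne]; norm_num

theorem gen (h : c.Bt β) (hχ : IsSIrr G χ) (ho : Od χ) : ∃ a : ℂ, (a = 0 ∨ a = ⟪χ, c.gam β⟫) ∧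
    (∀ μ ∈ c.M, conjFun μ ≠ μ → ⟪χ, c.dl β 1 μ⟫ = a) ∧
    ∀ x : c.K, (x : G) ∉ c.U → c.cc χ β x = (a - ⟪χ, c.gam β⟫) * c.μ0 x + a := by
  have cl := hχ.isClassFunction
  obtain ⟨a, h1, h2⟩ : ∃ a : ℂ, (a = 0 ∨ a = ⟪χ, c.gam β⟫) ∧ ∀ μ ∈ c.M, conjFun μ ≠ μ → ⟪χ, c.dl β 1 μ⟫ = a := by
    by_cases e : ∃ μ ∈ c.M, conjFun μ ≠ μ
    · obtain ⟨μ, hμ, e⟩ := e
      refine ⟨⟪χ, c.dl β 1 μ⟫, ?_, fun ν hν e' => by rw [ci_dl_left cl, ci_dl_left cl, d_nr h hχ ho hμ hν e e']⟩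
      obtain ⟨X, X', Y, hX, hX', hY, e1, e2, e3, e4, e5, e6, e7⟩ := three_four (dl_virt h.ak one_M hμ) (al3 h hμ e)
        (gam_virt h) (gam4 h) (gam_one h) (gam_al h hμ e)
      rw [← hX.virt.ci_comm (gam_virt h)] at e5
      rw [← hX'.virt.ci_comm (gam_virt h)] at e6
      obtain ⟨n, o, hn⟩ := od_of h hX (by simp [e5])
      obtain ⟨n', o', hn'⟩ := od_of h hX' (by simp [e6])
      have := dl_one h.ak one_M hμ
      rw [e4, Pi.add_apply, Pi.add_apply, hn, hn'] at this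
      rw [e4, ci_add_right, ci_add_right, perp_of_even hχ ho hY (o.add_odd o').neg (by
        push_cast; linear_combination this), add_zero]
      rcases hχ.ci_cases hX with ⟨rfl, a⟩ | ⟨rfl, a⟩ | ⟨-, -, a⟩
      · right; rw [a, e1, e5, add_zero]
      · right; rw [a, ci_neg_left, ci_neg_left, e1, e5]; simp
      rcases hχ.ci_cases hX' with ⟨rfl, b⟩ | ⟨rfl, b⟩ | ⟨-, -, b⟩
      · right; rw [a, b, e6, zero_add]
      · right; rw [a, b, ci_neg_left, e6, zero_add]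
      · left; rw [a, b, add_zero]
    · exact ⟨0, .inl rfl, fun μ hμ n => (e ⟨μ, hμ, n⟩).elim⟩
  refine ⟨a, h1, h2, fun x hx => ?_⟩
  have s := sumM x
  rw [if_neg hx] at s
  rw [cc, Finset.sum_congr rfl (g := fun μ => (c.d χ β 1 - a) * μ x + ((if μ = 1 then a else 0) +
    if μ = c.μ0 then (a - ⟪χ, c.gam β⟫) * c.μ0 x else 0))]
  · simp [Finset.sum_add_distrib, ← Finset.mul_sum, s, one_M, μ0_M, add_comm]
  · intro μ hμ
    by_cases e : conjFun μ = μ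
    · rcases real_M hμ e with rfl | rfl
      · simp [μ0_ne.symm]
      · rw [if_neg μ0_ne, if_pos rfl, gam, ci_dl_left cl]; ring
    · obtain ⟨k1, k2, -⟩ := nr_ne hμ e
      rw [if_neg k1, if_neg k2, ← h2 μ hμ e, ci_dl_left cl]; ring

end Su

end Cfsg.Agent.GW.Ch
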