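import Mathlib

/-! Gorenstein-Walter, characters: arithmetic. -/

set_option autoImplicit false
set_option linter.unusedVariables false

namespace Cfsg.Agent.GW.Ch

theorem ar1a {i P D E : ℤ} (hP : 0 < P) (hE : 0 < E) (e : 8 * P * D = i * E) (h1 : 8 * D ≤ 15 * E)
    (h2 : 3 * E ≤ 8 * D) : i ≤ 15 * P ∧ 3 * P ≤ i :=
  ⟨le_of_mul_le_mul_right (by nlinarith) hE, le_of_mul_le_mul_right (by nlinarith) hE⟩

theorem ar1b {i P x y z : ℤ} (hP : 0 < P) (s : 1 + x + y + z = 0)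
    (e : 8 * P * (x * y * z) = i * ((1 + x) * (1 + y) * (1 + z))) (h : 1 ≤ x ∧ 1 ≤ y ∨ x ≤ -3 ∧ y ≤ -3) :
    i ≤ 15 * P ∧ 3 * P ≤ i := by
  obtain rfl : z = -1 - x - y := by omega
  rcases h with ⟨h1, h2⟩ | ⟨h1, h2⟩
  · obtain ⟨a, rfl⟩ := Int.le.dest h1
    obtain ⟨b, rfl⟩ := Int.le.dest h2
    refine ar1a (D := (1 + a) * (1 + b) * (3 + a + b)) (E := (2 + a) * (2 + b) * (2 + a + b)) hP (by positivity)
      (by linear_combination -e) ?_ ?_ <;> (rw [← sub_nonneg]; ring_nf; positivity)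
  · obtain ⟨a, ha⟩ := Int.le.dest h1
    obtain ⟨b, hb⟩ := Int.le.dest h2
    obtain rfl : x = -3 - a := by omega
    obtain rfl : y = -3 - b := by omega
    refine ar1a (D := (3 + a) * (3 + b) * (5 + a + b)) (E := (2 + a) * (2 + b) * (6 + a + b)) hP (by positivity)
      (by linear_combination e) ?_ ?_ <;> (rw [← sub_nonneg]; ring_nf; positivity)

theorem ar1 {i P x y z : ℤ} (hP : 0 < P) (hx : Odd x) (hy : Odd y) (hz : Odd z) (s : 1 + x + y + z = 0)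
    (e : 8 * P * (x * y * z) = i * ((1 + x) * (1 + y) * (1 + z))) : i ≤ 15 * P ∧ 3 * P ≤ i := by
  have n : 8 * P * (x * y * z) ≠ 0 := by
    have : x * y * z ≠ 0 := fun h => by have := (hx.mul hy).mul hz; rw [h] at this; simp at this
    positivity
  rw [e] at n
  have n1 : x ≠ -1 := fun h => n (by simp [h])
  have n2 : y ≠ -1 := fun h => n (by simp [h])
  have n3 : z ≠ -1 := fun h => n (by simp [h])
  obtain ⟨a, ha⟩ := hx
  obtain ⟨b, hb⟩ := hy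
  obtain ⟨c, hc⟩ := hz
  by_cases h1 : 1 ≤ x ∧ 1 ≤ y ∨ x ≤ -3 ∧ y ≤ -3
  · exact ar1b hP s e h1
  by_cases h2 : 1 ≤ x ∧ 1 ≤ z ∨ x ≤ -3 ∧ z ≤ -3
  · exact ar1b (z := y) hP (by omega) (by linear_combination e) h2
  · exact ar1b (x := y) (y := z) (z := x) hP (by omega) (by linear_combination e) (by omega)

theorem ar2 {i T m N : ℤ} (hT : 0 < T) (hm : 0 < m) (e : i * (m * N) ^ 2 = T ^ 2 * ((2 * m * N + 1) * (m * N + 1))) :
    ∃ j : ℤ, i = j ^ 2 * (2 * m * N + 1) * (m * N + 1) ∧ |j * N| * m = T := by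
  have c : IsCoprime ((m * N) ^ 2) ((2 * m * N + 1) * (m * N + 1)) :=
    IsCoprime.pow_left (IsCoprime.mul_right ⟨-2, 1, by ring⟩ ⟨-1, 1, by ring⟩)
  obtain ⟨j, hj⟩ := (Int.pow_dvd_pow_iff two_ne_zero).1 (c.dvd_of_dvd_mul_right ⟨i, by rw [← e]; ring⟩)
  have n : m * N ≠ 0 := fun h => by rw [h, zero_mul] at hj; omega
  refine ⟨j, mul_right_cancel₀ (pow_ne_zero 2 n) (by rw [e, hj]; ring), ?_⟩
  rw [← abs_of_pos hT, hj, mul_assoc, abs_mul m, abs_of_pos hm, mul_comm j, mul_comm]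

theorem cmp {a D F k l : ℤ} (ha : 0 < a) (hD : 0 < D) (e : 4 * a * D = (a + 1) ^ 2 * F) (h : k * D < l * F) :
    k * (a + 1) ^ 2 < 4 * a * l := by
  refine lt_of_mul_lt_mul_right ?_ hD.le
  have := mul_lt_mul_of_pos_left h (show 0 < (a + 1) ^ 2 by positivity)
  calc _ = (a + 1) ^ 2 * (k * D) := by ring
    _ < _ := this
    _ = _ := by linear_combination (-l) * e

theorem ar3a {a z y w N r s : ℤ} (ha : 3 ≤ a) (o : Odd a) (hz : z = 8 * N + 1) (hy : y = 8 * r + 3)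
    (hw : w = 8 * s + 3) (z1 : z ≠ 1) (S : 1 + z + y + w = 0) (le : w ≤ y)
    (e : 4 * a * (y * w * (z - 1) ^ 2) = (a + 1) ^ 2 * ((z + 1) ^ 2 * (1 + y) * (1 + w))) :
    a = 3 ∧ z = -15 ∨ a = 5 ∧ z = -7 := by
  have a0 : 0 < a := by omega
  have k3 : ∀ {D F : ℤ}, 0 < D → 4 * a * D = (a + 1) ^ 2 * F → 0 < 4 * F - 3 * D → False := fun hD e h => by
    have := cmp (k := 3) (l := 4) a0 hD e (by omega); nlinarith
  have k5 : ∀ {D F : ℤ}, 0 < D → 4 * a * D = (a + 1) ^ 2 * F → 0 < 9 * F - 5 * D → a = 3 := fun hD e h => by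
    have := cmp (k := 5) (l := 9) a0 hD e (by omega)
    have : a < 5 := by nlinarith
    obtain ⟨b, hb⟩ := o; omega
  have k7 : ∀ {D F : ℤ}, 0 < D → 4 * a * D = (a + 1) ^ 2 * F → 0 < 16 * F - 7 * D → a = 3 ∨ a = 5 := fun hD e h => by
    have := cmp (k := 7) (l := 16) a0 hD e (by omega)
    have : a < 7 := by nlinarith
    obtain ⟨b, hb⟩ := o; omega
  by_cases h1 : y ≤ -5
  · obtain ⟨p, hp⟩ := Int.le.dest h1
    obtain ⟨q, hq⟩ := Int.le.dest (le.trans h1)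
    obtain rfl : y = -5 - p := by omega
    obtain rfl : w = -5 - q := by omega
    obtain rfl : z = 9 + p + q := by omega
    exact (k3 (D := (5 + p) * (5 + q) * (8 + p + q) ^ 2) (F := (10 + p + q) ^ 2 * (4 + p) * (4 + q)) (by positivity)
      (by linear_combination e) (by ring_nf; positivity)).elim
  by_cases h2 : 3 ≤ w
  · obtain ⟨p, rfl⟩ := Int.le.dest (h2.trans le)
    obtain ⟨q, rfl⟩ := Int.le.dest h2
    obtain rfl : z = -7 - p - q := by omega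
    exact (k3 (D := (3 + p) * (3 + q) * (8 + p + q) ^ 2) (F := (6 + p + q) ^ 2 * (4 + p) * (4 + q)) (by positivity)
      (by linear_combination e) (by ring_nf; positivity)).elim
  by_cases h3 : 9 ≤ z
  · obtain ⟨p, rfl⟩ := Int.le.dest (show 3 ≤ y by omega)
    obtain ⟨q, rfl⟩ := Int.le.dest h3
    obtain rfl : w = -13 - p - q := by omega
    exact (k3 (D := (3 + p) * (13 + p + q) * (8 + q) ^ 2) (F := (10 + q) ^ 2 * (4 + p) * (12 + p + q)) (by positivity)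
      (by linear_combination -e) (by ring_nf; positivity)).elim
  obtain ⟨q, hq⟩ := Int.le.dest (show w ≤ -5 by omega)
  obtain ⟨p, hp⟩ := Int.le.dest (show z ≤ -7 by omega)
  obtain rfl : w = -5 - q := by omega
  obtain rfl : z = -7 - p := by omega
  obtain rfl : y = 11 + p + q := by omega
  have e' : 4 * a * ((11 + p + q) * (5 + q) * (8 + p) ^ 2) = (a + 1) ^ 2 * ((6 + p) ^ 2 * (12 + p + q) * (4 + q)) := by
    linear_combination -e
  by_cases p0 : p = 0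
  · subst p0
    rcases k7 (by positivity) e' (by ring_nf; positivity) with rfl | rfl
    · push_cast at e'; nlinarith [show (0 : ℤ) ≤ q by positivity]
    · simp
  obtain ⟨p, rfl⟩ := Nat.le.dest (show 8 ≤ p by omega)
  obtain rfl := k5 (by positivity) e' (by push_cast; ring_nf; positivity)
  by_cases p0 : p = 0
  · simp [p0]
  obtain ⟨p, rfl⟩ := Nat.le.dest (show 8 ≤ p by omega)
  by_cases q0 : q = 0
  · subst q0
    push_cast at e'
    have : (23 + p : ℤ) ∣ 20 := ⟨-(23 + p) ^ 2 + 42 * (23 + p) + 279, by linarith⟩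
    have := Int.le_of_dvd (by norm_num) this
    omega
  obtain ⟨q, rfl⟩ := Nat.le.dest (show 8 ≤ q by omega)
  exact (k3 (by positivity) e' (by push_cast; ring_nf; positivity)).elim

theorem ar3 {i n a z y w N r s : ℤ} (hn : 0 < n) (ha : 2 ≤ a) (hz : z = 8 * N + 1) (hy : y = 8 * r + 3)
    (hw : w = 8 * s + 3) (S : 1 + z + y + w = 0) (e1 : i * (z - 1) ^ 2 = 2 * ((a + 1) * n) ^ 2 * (z * (z + 1)))
    (e2 : 8 * (a * n ^ 2) * (z * y * w) = i * ((1 + z) * (1 + y) * (1 + w))) :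
    a = 3 ∧ 4 * i = 105 * n ^ 2 ∨ a = 5 ∧ 4 * i = 189 * n ^ 2 := by
  have z1 : z ≠ 1 := by
    rintro rfl
    have : 0 < ((a + 1) * n) ^ 2 := by positivity
    omega
  have e : 4 * a * (y * w * (z - 1) ^ 2) = (a + 1) ^ 2 * ((z + 1) ^ 2 * (1 + y) * (1 + w)) :=
    mul_left_cancel₀ (show 2 * n ^ 2 * z ≠ 0 from mul_ne_zero (by positivity) (by omega)) (by
      linear_combination (z - 1) ^ 2 * e2 + ((1 + z) * (1 + y) * (1 + w)) * e1)
  have o : Odd a := by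
    have : Even ((a + 1) ^ 2 * ((4 * N + 1) ^ 2 * (2 * r + 1) * (2 * s + 1))) :=
      ⟨2 * a * (y * w * N ^ 2), by subst hz hy hw; linarith⟩
    by_contra h
    have o4 : Odd (4 * N + 1) := ⟨2 * N, by ring⟩
    exact Int.not_odd_iff_even.2 this ((Int.not_odd_iff_even.1 h).add_one.pow.mul
      ((o4.pow.mul ⟨r, rfl⟩).mul ⟨s, rfl⟩))
  have a3 : 3 ≤ a := by obtain ⟨b, hb⟩ := o; omega
  have : a = 3 ∧ z = -15 ∨ a = 5 ∧ z = -7 := by
    rcases le_total w y with le | le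
    · exact ar3a a3 o hz hy hw z1 S le e
    · exact ar3a a3 o hz hw hy z1 (by omega) le (by linear_combination e)
  rcases this with ⟨rfl, rfl⟩ | ⟨rfl, rfl⟩
  · exact .inl ⟨rfl, by linarith⟩
  · exact .inr ⟨rfl, by linarith⟩

theorem inv_cases {z : ℤ} (a b : ℤ) (hb : 0 < b) (h : z = a ∨ b ≤ z ∨ z < 0) :
    z = a ∨ (b ≤ z ∧ (z : ℝ)⁻¹ ≤ (b : ℝ)⁻¹) ∨ (z < 0 ∧ (z : ℝ)⁻¹ < 0) :=
  h.imp_right (Or.imp (fun h => ⟨h, inv_anti₀ (by exact_mod_cast hb) (by exact_mod_cast h)⟩)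
    fun h => ⟨h, inv_lt_zero.2 (by exact_mod_cast h)⟩)

theorem ar4 {x a b c d : ℤ} (hx : 12 ≤ |x|) (ha : Odd a ∧ a ≠ 1) (hb : Odd b ∧ b ≠ 1) (hc : Odd c ∧ c ≠ 1)
    (hd : Odd d ∧ d ≠ 1) (s : a + b + c + d = 0)
    (e : (((2 * x + 1) * (x + 1) : ℤ) : ℝ) * ((a : ℝ)⁻¹ + (b : ℝ)⁻¹ + (c : ℝ)⁻¹ + (d : ℝ)⁻¹) = 2 * x ^ 2) : False := by
  have k : ∀ {a : ℤ}, Odd a ∧ a ≠ 1 → _ := fun {a} ⟨⟨k, hk⟩, h⟩ => inv_cases (z := a) 3 5 (by norm_num) (by omega)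
  have : (a : ℝ)⁻¹ + (b : ℝ)⁻¹ + (c : ℝ)⁻¹ + (d : ℝ)⁻¹ < 13 / 15 ∨
      (a : ℝ)⁻¹ + (b : ℝ)⁻¹ + (c : ℝ)⁻¹ + (d : ℝ)⁻¹ = 8 / 9 := by
    rcases k ha with rfl | h1 | h1 <;> rcases k hb with rfl | h2 | h2 <;> rcases k hc with rfl | h3 | h3 <;>
      rcases k hd with rfl | h4 | h4 <;> first
      | omega
      | (left; push_cast at *; linarith)
      | (right; obtain rfl : a = -9 := by omega); norm_num
      | (right; obtain rfl : b = -9 := by omega); norm_num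
      | (right; obtain rfl : c = -9 := by omega); norm_num
      | (right; obtain rfl : d = -9 := by omega); norm_num
  have p : 0 < (2 * x + 1) * (x + 1) := by rcases le_abs.1 hx with h | h <;> nlinarith
  rcases this with h | h
  · have := mul_lt_mul_of_pos_left h (show (0 : ℝ) < ((2 * x + 1) * (x + 1) : ℤ) by exact_mod_cast p)
    rw [e] at this
    have : 30 * x ^ 2 < 13 * ((2 * x + 1) * (x + 1)) := by
      have : (30 * x ^ 2 : ℝ) < 13 * ((2 * x + 1) * (x + 1) : ℤ) := by linarith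
      exact_mod_cast this
    rcases le_abs.1 hx with h | h <;> nlinarith
  · rw [h] at e
    have : (x * (x - 12) : ℤ) = 4 := by
      have : (x * (x - 12) : ℝ) = 4 := by push_cast at e; linarith
      exact_mod_cast this
    have := Int.le_of_dvd (by norm_num) ((abs_dvd _ _).2 (Dvd.intro _ this))
    omega

theorem ar5 {i k a b c d : ℤ} (hi : 0 < i) (h : i ≤ 15 * k ^ 2) (ha : a % 4 = 1 ∧ a ≠ 1) (hb : b % 4 = 1 ∧ b ≠ 1)
    (hc : c % 4 = 1 ∧ c ≠ 1) (hd : d % 4 = 1 ∧ d ≠ 1) (s : a + b + c + d = 0)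
    (e : (i : ℝ) * ((a : ℝ)⁻¹ + (b : ℝ)⁻¹ + (c : ℝ)⁻¹ + (d : ℝ)⁻¹) = 8 * k ^ 2) : i = 15 * k ^ 2 := by
  have k' : ∀ {a : ℤ}, a % 4 = 1 ∧ a ≠ 1 → _ := fun {a} h => inv_cases (z := a) 5 9 (by norm_num) (by omega)
  have : (a : ℝ)⁻¹ + (b : ℝ)⁻¹ + (c : ℝ)⁻¹ + (d : ℝ)⁻¹ ≤ 8 / 15 := by
    rcases k' ha with rfl | h1 | h1 <;> rcases k' hb with rfl | h2 | h2 <;> rcases k' hc with rfl | h3 | h3 <;>
      rcases k' hd with rfl | h4 | h4 <;> first
      | omega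
      | (push_cast at *; linarith)
      | (obtain rfl : a = -15 := by omega); norm_num
      | (obtain rfl : b = -15 := by omega); norm_num
      | (obtain rfl : c = -15 := by omega); norm_num
      | (obtain rfl : d = -15 := by omega); norm_num
  have := mul_le_mul_of_nonneg_left this (show (0 : ℝ) ≤ i by exact_mod_cast hi.le)
  rw [e] at this
  have : 15 * k ^ 2 ≤ i := by
    have : (15 * k ^ 2 : ℝ) ≤ i := by linarith
    exact_mod_cast this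
  omega

theorem ar6 {i k a b c d e1 e2 e3 e4 f1 f2 f3 f4 : ℤ} (a0 : a ≠ 0) (h1 : e1 = 1 ∨ e1 = -1) (h2 : e2 = 1 ∨ e2 = -1)
    (h3 : e3 = 1 ∨ e3 = -1) (h4 : e4 = 1 ∨ e4 = -1) (k1 : f1 = 1 ∨ f1 = -1) (k2 : f2 = 1 ∨ f2 = -1)
    (k3 : f3 = 1 ∨ f3 = -1) (k4 : f4 = 1 ∨ f4 = -1) (s1 : e1 + e2 + e3 + e4 = 0) (s2 : f1 + f2 + f3 + f4 = 0)
    (s3 : e1 * f1 + e2 * f2 + e3 * f3 + e4 * f4 = 0) (s4 : a + b + c + d = 0)
    (s5 : e1 * a + e2 * b + e3 * c + e4 * d = 0) (s6 : f1 * a + f2 * b + f3 * c + f4 * d = 0)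
    (e : (i : ℝ) * ((1 + e1 + f1) ^ 2 * (a : ℝ)⁻¹ + (1 + e2 + f2) ^ 2 * (b : ℝ)⁻¹ + (1 + e3 + f3) ^ 2 * (c : ℝ)⁻¹ +
      (1 + e4 + f4) ^ 2 * (d : ℝ)⁻¹) = 8 * k ^ 2) : i = e1 * f1 * a * k ^ 2 := by
  have r : (a : ℝ) ≠ 0 := by exact_mod_cast a0
  have : b = e2 * f2 * e1 * f1 * a ∧ c = e3 * f3 * e1 * f1 * a ∧ d = e4 * f4 * e1 * f1 * a := by
    rcases h1 with rfl | rfl <;> rcases h2 with rfl | rfl <;> rcases h3 with rfl | rfl <;> rcases h4 with rfl | rfl <;>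
      (try omega) <;> rcases k1 with rfl | rfl <;> rcases k2 with rfl | rfl <;> rcases k3 with rfl | rfl <;>
      rcases k4 with rfl | rfl <;> omega
  obtain ⟨rfl, rfl, rfl⟩ := this
  have : (i : ℝ) = e1 * f1 * a * k ^ 2 := by
    rcases h1 with rfl | rfl <;> rcases h2 with rfl | rfl <;> rcases h3 with rfl | rfl <;> rcases h4 with rfl | rfl <;>
      (try omega) <;> rcases k1 with rfl | rfl <;> rcases k2 with rfl | rfl <;> rcases k3 with rfl | rfl <;>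
      rcases k4 with rfl | rfl <;> (try omega) <;> (push_cast at e ⊢; field_simp at e; linarith)
  exact_mod_cast this

end Cfsg.Agent.GW.Ch
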