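import Cfsg.Agent.GW.C3
import Cfsg.Agent.GW.C4

/-! Gorenstein-Walter, characters: the principal block; `pf1`, `pf2`, `pf3`, `al`. -/

set_option autoImplicit false
set_option linter.unusedSectionVars false
set_option linter.unusedVariables false
set_option linter.style.haveILetI false

namespace Cfsg.Agent.GW.Ch

open Cfsg Cfsg.Agent.GT Cfsg.Agent.Char Cfsg.Agent.Cls Cfsg.Agent.B84C Subgroup Function
open scoped ComplexConjugate Classical

universe u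

namespace Su

variable {G : Type u} [Group G] [Fintype G] {c : Su G} {θ θ' μ ν μ' ν' β β' : c.K → ℂ} {χ α X Y : G → ℂ}

theorem CSH : C[c.S] ≤ c.H := cent_le_cent1 c.st.memS

theorem cc_neg (x : c.K) : c.cc (-χ) β x = -c.cc χ β x := by
  simp only [cc, d, ← Finset.sum_neg_distrib, ← neg_mul, ← ci_neg_left]; rfl

theorem memB0 (hχ : IsIrrCharacter G χ) {n : ℤ} (hn : Odd n) (e : c.cc χ 1 1 = n) : χ ∈ BS.B0 G := by
  obtain ⟨k, hk⟩ := BS.omega_int hχ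
  obtain ⟨D, hD⟩ := hχ.virt.exists_int_one
  refine BS.mem_B0.2 ⟨hχ, k, ?_, hk⟩
  have cl := hχ.isClassFunction
  have e1 := two_conj c.st.pg (f := fun g => BS.oddInd g * χ g)
    (fun g => (BS.oddInd_int g).mul (hχ.virt.isIntegral g)) fun s _ x => by rw [cl, BS.oddInd_class]
  have e2 := two_conj c.st.pg (f := fun g => c.Fb 1 g * χ g)
    (fun g => (Fb_int bt_one g).mul (hχ.virt.isIntegral g)) fun s hs x => by rw [cl, Fb_conj bt_one (c.SH hs)]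
  have e3 := BS.sum_oddInd_mul hχ 1
  simp only [mul_one] at e3
  rw [sum_Fb, e, Finset.sum_congr rfl (g := fun x => if x ∈ C[c.S] then BS.oddInd x * χ x else 0)
    fun x _ => if_ctx_congr Iff.rfl (fun h => ?_) fun _ => rfl] at e2
  · rw [e3, hk, hD] at e1
    have := Ev.even (n := k * D - Nat.card c.U * n) ((e1.sub e2).congr (by push_cast; ring))
    have o := (Odd.natCast (R := ℤ) c.oU).mul hn
    exact (Int.odd_mul.1 (show Odd (k * D) by simpa using this.add_odd o)).1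
  · unfold Fb BS.oddInd
    by_cases o : Odd (orderOf x)
    · rw [if_pos o, dif_pos (c.memU (CSH h) o)]; simp
    · rw [if_neg o, dif_neg fun h => o (odd_ord c.oU h)]

theorem B0_val (hχ : χ ∈ BS.B0 G) {s x : G} (hs : s ∈ c.A) (s1 : s ≠ 1) (hx : x ∈ c.U) : χ (s * x) = χ s := by
  obtain ⟨g, y, hy, e1, e2⟩ := c.conjA hs hx
  rw [← (BS.B0_irr hχ).isClassFunction _ g, e2]
  refine BS.B0_apply_mul_odd' ((isPGroup_zpowers_iff Nat.prime_two).1 (c.st.pg.to_le (zpowers_le.2 (c.AS hs))))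
    (c.U ⊓ C1[s]) (fun o h => mem_cent1.1 h.2) (fun k e o h => ⟨c.cU (c.TI (c.AK hs)
      (fun n => s1 (c.US n (c.AS hs))) (by rw [e, mul_inv_cancel_right]; exact c.AK hs)) h.1,
      C1[s].mul_mem (C1[s].mul_mem (mem_cent1.2 e) h.2) (C1[s].inv_mem (mem_cent1.2 e))⟩)
    (c.oU.of_dvd_nat (card_dvd_of_le inf_le_left)) hχ ⟨hy, mem_cent1.2 e1⟩

theorem sumU (a : ℂ) : ∑ y : c.K, (if (y : G) ∈ c.U then a else 0) = Nat.card c.U * a := by
  rw [← card_subgroupOf c.UK, ← BSW.sum_ite_mem, Finset.sum_mul]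
  exact Finset.sum_congr rfl fun y _ => by simp [mem_subgroupOf]

theorem val (hχ : IsSIrr G χ) (e : ⟪χ, c.gam 1⟫ ≠ 0) {s : c.K} (hs : (s : G) ∈ c.A) (s1 : s ≠ 1) :
    χ s = c.cc χ 1 s := by
  obtain ⟨n, hn, e'⟩ := odd_n bt_one hχ e
  have s2 : (s : G) ≠ 1 := fun h => s1 (Subtype.ext h)
  have k : ∀ x ∈ c.U, χ (s * x) = χ s := fun x hx => by
    rcases hχ with hχ | hχ
    · exact B0_val (memB0 hχ hn e') hs s2 hx
    · exact neg_injective (B0_val (memB0 hχ hn.neg (by rw [cc_neg, e']; simp)) hs s2 hx)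
  refine mul_left_cancel₀ (card_ne_zero_complex c.U) ?_
  rw [cc_eq, ← sumU]
  exact Finset.sum_congr rfl fun y _ => if_ctx_congr Iff.rfl (fun h => by simp [k _ h]) fun _ => rfl

theorem AU {s : c.K} (hs : (s : G) ∈ c.A) (s1 : s ≠ 1) : (s : G) ∉ c.U :=
  fun h => s1 (Subtype.ext (c.US h (c.AS hs)))

theorem t1 : c.t' ≠ 1 := fun h => ne1 c.st.ord (congrArg Subtype.val h)

theorem deg (hX : IsGeneralizedCharacter G X) {a b : ℂ}
    (h : ∀ s : c.K, (s : G) ∈ c.A → s ≠ 1 → X s = a * c.μ0 s + b) : ∃ n : ℤ,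
      X 1 - (a + b) + Nat.card c.A * b + Nat.card c.A * (a * c.μ0 c.t' + b) = 2 * Nat.card c.A * n := by
  obtain ⟨n, hn⟩ := (hX.restrict c.S).ci_int virt_one
  rw [ci_one_right, inv_mul_eq_iff_eq_mul₀ (card_ne_zero_complex _), sum_subgroup_eq_sum_ite c.S X,
    Finset.sum_congr rfl (g := fun g => (if g ∈ c.A then X g else 0) +
      ((if g ∈ c.S then 1 else 0) - if g ∈ c.A then 1 else 0) * X c.t), Finset.sum_add_distrib, ← Finset.sum_mul,
    Finset.sum_sub_distrib, BSW.sum_ite_mem, BSW.sum_ite_mem, c.st.dih.card, ← sum_subgroup_eq_sum_ite c.A X] at hn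
  · have l := linM (c := c) μ0_M
    have k : ∑ s : c.A, c.μ0 (inclusion c.AK s) = 0 := by
      have := Equiv.sum_comp (Equiv.mulLeft (⟨c.σ, c.σA⟩ : c.A)) fun s => c.μ0 (inclusion c.AK s)
      simp only [Equiv.coe_mulLeft, map_mul, l.mul, ← Finset.mul_sum] at this
      rw [show inclusion c.AK ⟨c.σ, c.σA⟩ = c.σ' from rfl, μ0_σ] at this
      linear_combination (-1 / 2 : ℂ) * this
    rw [Finset.sum_congr rfl (g := fun s : c.A => a * c.μ0 (inclusion c.AK s) + b +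
      if s = 1 then X 1 - (a + b) else 0), Finset.sum_add_distrib, Finset.sum_add_distrib, ← Finset.mul_sum, k] at hn
    · refine ⟨n, ?_⟩
      rw [← h c.t' c.st.mem t1]
      simp only [Finset.sum_const, Finset.card_univ, ← Nat.card_eq_fintype_card, Finset.sum_ite_eq',
        Finset.mem_univ, if_true, nsmul_eq_mul] at hn
      push_cast at hn
      rw [show (c.t' : G) = c.t from rfl]
      linear_combination hn
    · intro s _
      split_ifs with e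
      · simp [e, l.one]
      · exact (h (inclusion c.AK s) s.2 fun k => e (Subtype.ext (congrArg (fun x : c.K => (x : G)) k))).trans (add_zero _).symm
  · intro g _
    by_cases e : g ∈ c.A
    · simp [e, c.AS e]
    by_cases e' : g ∈ c.S
    · obtain ⟨x, rfl⟩ := c.st.one g (c.st.refl_ord e' e)
      simp [e, e', hX.isClassFunction c.t x]
    · simp [e, e']

theorem one_dl (hμ : μ ∈ c.M) (e : μ ≠ 1) : ⟪fun _ => 1, c.dl 1 1 μ⟫ = 1 := by
  rw [ci_dl_left (isClassFunction_const 1)]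
  have := ci_mul (c := c) bt_one.ak bt_one.ak one_M one_M
  have k := ci_mul (c := c) bt_one.ak bt_one.ak one_M hμ
  rw [if_pos ⟨rfl, rfl⟩, mul_one] at this
  rw [if_neg fun h => e h.2.symm, mul_one] at k
  rw [d, d, mul_one]
  exact (congrArg₂ _ this k).trans (sub_zero _)

theorem one_gam : ⟪fun _ => 1, c.gam 1⟫ = 1 := one_dl μ0_M μ0_ne

theorem i0 : (c.H.index : ℂ) ≠ 0 := Nat.cast_ne_zero.2 index_ne_zero_of_finite
theorem N1_pos : 0 < c.N1 := relIndex_pos _ _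
theorem N2_pos : 0 < c.N2 := relIndex_pos _ _

theorem val_t (hχ : IsSIrr G χ) (e : ⟪χ, c.gam 1⟫ = 1) : χ c.t ^ 2 = 1 := by
  obtain ⟨a, h1, -, h2⟩ := gen (c := c) bt_one hχ (od_of (c := c) bt_one hχ (by simp [e]))
  have := (val hχ (by simp [e]) (s := c.t') c.st.mem t1).trans (h2 _ c.tU)
  rw [show χ c.t = _ from this, e]
  rcases h1 with rfl | h1
  · rcases M_t (c := c) μ0_M with k | k <;> simp [k]
  · simp [h1, e]

theorem eq4 {X2 X3 X4 : G → ℂ} (h2 : IsSIrr G X2) (h3 : IsSIrr G X3) (h4 : IsSIrr G X4)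
    (e : c.gam 1 = (fun _ => 1) + X2 + X3 + X4) (k2 : ⟪X2, c.gam 1⟫ = 1) (k3 : ⟪X3, c.gam 1⟫ = 1)
    (k4 : ⟪X4, c.gam 1⟫ = 1) {x y z : ℤ} (e2 : X2 1 = x) (e3 : X3 1 = y) (e4 : X4 1 = z) : 1 + x + y + z = 0 ∧
      8 * (c.N1 * c.N2 : ℤ) * (x * y * z) = c.H.index * ((1 + x) * (1 + y) * (1 + z)) := by
  have s := gam_one (c := c) bt_one
  have z0 := cZ_gam (c := c) bt_one
  rw [e] at s z0
  simp only [Pi.add_apply, e2, e3, e4] at s
  have a2 := cZ_sirr (t := c.t) h2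
  have a3 := cZ_sirr (t := c.t) h3
  have a4 := cZ_sirr (t := c.t) h4
  rw [val_t h2 k2, e2] at a2
  rw [val_t h3 k3, e3] at a3
  rw [val_t h4 k4, e4] at a4
  rw [cZ_add, cZ_add, cZ_add, cZ_one, Pi.one_apply] at z0
  refine ⟨by exact_mod_cast s, Int.cast_injective (α := ℂ) (mul_left_cancel₀ (i0 (c := c)) ?_)⟩
  push_cast
  linear_combination (y * z : ℂ) * a2 + (x * z : ℂ) * a3 + (x * y : ℂ) * a4 - (x * y * z : ℂ) * z0 -
    (c.H.index : ℂ) ^ 2 * s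

variable (c) in
theorem pf1 : c.H.index ≤ 15 * (c.N1 * c.N2) ∧ 3 * (c.N1 * c.N2) ≤ c.H.index := by
  have v := gam_virt (c := c) bt_one
  obtain ⟨X2, X3, X4, h2, h3, h4, e, a2, a3, a4, b2, b3, b4⟩ := rest_three v (gam4 bt_one) isIrrCharacter_one.isSIrr
    ((v.ci_comm virt_one).trans one_gam)
  have k2 : ⟪X2, c.gam 1⟫ = 1 := by simp [e, ci_add_right, a2, b2, b3, h2.ci_self]
  have k3 : ⟪X3, c.gam 1⟫ = 1 := by simp [e, ci_add_right, a3, ci_eq_zero_symm b2, b4, h3.ci_self]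
  have k4 : ⟪X4, c.gam 1⟫ = 1 := by simp [e, ci_add_right, a4, ci_eq_zero_symm b3, ci_eq_zero_symm b4, h4.ci_self]
  obtain ⟨x, o2, e2⟩ := od_of (c := c) bt_one h2 (by simp [k2])
  obtain ⟨y, o3, e3⟩ := od_of (c := c) bt_one h3 (by simp [k3])
  obtain ⟨z, o4, e4⟩ := od_of (c := c) bt_one h4 (by simp [k4])
  obtain ⟨s, k⟩ := eq4 h2 h3 h4 e k2 k3 k4 e2 e3 e4
  have := ar1 (by have := N1_pos (c := c); have := N2_pos (c := c); positivity) o2 o3 o4 s k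
  exact_mod_cast this

theorem alpha (hα : IsGeneralizedCharacter G α) (h3 : ⟪α, α⟫ = 3) (h2 : ⟪c.gam 1, α⟫ = 2)
    (h1 : ⟪fun _ => 1, α⟫ = 1) : ∃ X Y : G → ℂ, IsSIrr G X ∧ IsSIrr G Y ∧ α = (fun _ => 1) + X + Y ∧
      ⟪X, c.gam 1⟫ = 1 ∧ ⟪X, α⟫ = 1 ∧ ⟪X, fun _ => 1⟫ = 0 := by
  have v := gam_virt (c := c) bt_one
  obtain ⟨X, X', Y, hX, hX', hY, e1, e2, e3, e4, e5, e6, e7⟩ := three_four hα h3 v (gam4 bt_one) (gam_one bt_one) h2
  have o : IsSIrr G fun _ => 1 := isIrrCharacter_one.isSIrr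
  have k : ⟪fun _ => 1, Y⟫ = 0 := by
    have := (v.ci_comm virt_one).trans one_gam
    rcases o.ci_cases hY with ⟨a, -⟩ | ⟨a, -⟩ | ⟨-, -, a⟩
    · rw [a, e7] at this; norm_num at this
    · rw [a, ci_neg_right, e7] at this; norm_num at this
    · exact a
  rw [e4, ci_add_right, ci_add_right, k] at h1
  rcases o.ci_cases hX with ⟨rfl, -⟩ | ⟨-, a⟩ | ⟨-, -, a⟩
  · exact ⟨X', Y, hX', hY, e4, (hX'.virt.ci_comm v).trans e6,
      by simp [e4, ci_add_right, ci_eq_zero_symm e1, e3, hX'.ci_self], ci_eq_zero_symm e1⟩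
  · rcases o.ci_cases hX' with ⟨-, b⟩ | ⟨-, b⟩ | ⟨-, -, b⟩ <;> rw [a, b] at h1 <;> norm_num at h1
  · rw [a, zero_add, add_zero] at h1
    obtain rfl := o.eq_of_ci_eq_one hX' h1
    exact ⟨X, Y, hX, hY, by rw [e4, add_comm X], (hX.virt.ci_comm v).trans e5,
      by simp [e4, ci_add_right, e1, e2, hX.ci_self], e1⟩

theorem fin2 (hX : IsSIrr G X) (hY : IsSIrr G Y) (e : α = (fun _ => 1) + X + Y) (h1 : α 1 = 0)
    (ht : α c.t = 0 ∨ α c.t = 4) (hz : cZ c.t α = 2 * c.H.index * (c.N1 + c.N2) ^ 2)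
    (h : ∀ s : c.K, (s : G) ∈ c.A → s ≠ 1 → X s = 1) : ∃ N z : ℤ, X 1 = z ∧ z = 2 * Nat.card c.A * N + 1 ∧
      c.H.index * (z - 1) ^ 2 = 2 * (c.N1 + c.N2 : ℤ) ^ 2 * (z * (z + 1)) := by
  obtain ⟨n, hn⟩ := deg hX.virt (a := 0) (b := 1) fun s hs s1 => by rw [h s hs s1]; simp
  have e1 : X 1 = (2 * Nat.card c.A * (n - 1) + 1 : ℤ) := by push_cast; linear_combination hn
  refine ⟨n - 1, _, e1, rfl, ?_⟩
  generalize (2 * Nat.card c.A * (n - 1) + 1 : ℤ) = z at e1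
  have a2 := cZ_sirr (t := c.t) hX
  have a3 := cZ_sirr (t := c.t) hY
  have e2 : X c.t = 1 := h c.t' c.st.mem t1
  rw [e, cZ_add, cZ_add, cZ_one] at hz
  simp only [e, Pi.add_apply, e1, e2] at h1 ht
  rw [e1, e2] at a2
  rw [show Y c.t ^ 2 = 4 by
    rcases ht with h | h
    · rw [show Y c.t = -2 by linear_combination h]; norm_num
    · rw [show Y c.t = 2 by linear_combination h]; norm_num, show Y 1 = -1 - z by linear_combination h1] at a3
  refine Int.cast_injective (α := ℂ) (mul_left_cancel₀ (i0 (c := c)) ?_)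
  push_cast
  linear_combination (z * (z + 1) : ℂ) * hz - (z + 1 : ℂ) * a2 + (z : ℂ) * a3

theorem fin3 {N z : ℤ} (e : z = 2 * Nat.card c.A * N + 1)
    (h : c.H.index * (z - 1) ^ 2 = 2 * (c.N1 + c.N2 : ℤ) ^ 2 * (z * (z + 1))) : ∃ j N : ℤ,
      (c.H.index : ℤ) = j ^ 2 * (2 * Nat.card c.A * N + 1) * (Nat.card c.A * N + 1) ∧
      |j * N| * Nat.card c.A = c.N1 + c.N2 := by
  obtain ⟨j, k⟩ := ar2 (i := c.H.index) (T := c.N1 + c.N2) (m := Nat.card c.A) (N := N)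
    (by have := N1_pos (c := c); positivity) (by exact_mod_cast Nat.card_pos) (by subst e; linarith)
  exact ⟨j, N, k⟩

theorem μ0_t (h8 : 8 ≤ Nat.card c.S) : c.μ0 c.t' = 1 := by
  obtain ⟨a, ha, e⟩ := c.st.exists_four h8
  rw [show c.t' = ⟨a, c.AK ha⟩ * ⟨a, c.AK ha⟩ from Subtype.ext e.symm, (linM μ0_M).mul, μ0_sq]

theorem big (h8 : 8 ≤ Nat.card c.S) : ∃ μ ∈ c.M, conjFun μ ≠ μ ∧ ∃ (X : G → ℂ) (N z : ℤ), IsSIrr G X ∧
    ⟪X, c.gam 1⟫ = 1 ∧ ⟪X, c.dl 1 1 μ⟫ = 1 ∧ ⟪X, fun _ => 1⟫ = 0 ∧ X 1 = z ∧ z = 2 * Nat.card c.A * N + 1 ∧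
      c.H.index * (z - 1) ^ 2 = 2 * (c.N1 + c.N2 : ℤ) ^ 2 * (z * (z + 1)) := by
  obtain ⟨μ, hμ, e⟩ := c.ex_μ1
  have n : conjFun μ ≠ μ := fun h => by
    rcases real_M hμ h with rfl | rfl
    · norm_num at e
    · rw [μ0_t h8] at e; norm_num at e
  obtain ⟨X, Y, hX, hY, e1, e2, e3, e4⟩ := alpha (dl_virt bt_one.ak one_M hμ) (al3 bt_one hμ n) (gam_al bt_one hμ n)
    (one_dl hμ (nr_ne hμ n).1)
  obtain ⟨a, -, h2, h3⟩ := gen (c := c) bt_one hX (od_of (c := c) bt_one hX (by simp [e2]))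
  obtain ⟨N, z, k⟩ := fin2 hX hY e1 (dl_one bt_one.ak one_M hμ) (.inr (by
    rw [dl_t bt_one.ak one_M hμ, e]; norm_num)) (by rw [cZ_dl bt_one one_M hμ, sR_one, sR_nr hμ n]; simp)
    fun s hs s1 => by rw [val hX (by simp [e2]) hs s1, h3 s (AU hs s1), ← h2 μ hμ n, e2, e3]; simp
  exact ⟨μ, hμ, n, X, N, z, hX, e2, e3, e4, k⟩

theorem pf2 (h8 : 8 ≤ Nat.card c.S) : ∃ j N : ℤ,
      (c.H.index : ℤ) = j ^ 2 * (2 * Nat.card c.A * N + 1) * (Nat.card c.A * N + 1) ∧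
      |j * N| * Nat.card c.A = c.N1 + c.N2 := by
  obtain ⟨μ, hμ, n, X, N, z, -, -, -, -, -, k1, k2⟩ := big h8
  exact fin3 k1 k2

theorem al (h8 : Nat.card c.S = 8) {a : ℕ} (ha : 2 ≤ a) (e : c.N2 = a * c.N1) :
    (a = 3 ∧ 4 * c.H.index = 105 * c.N1 ^ 2) ∨ (a = 5 ∧ 4 * c.H.index = 189 * c.N1 ^ 2) := by
  obtain ⟨μ, hμ, n, X, N, z, hX, e1, e2, e3, e4, k1, k2⟩ := big h8.ge
  have v := gam_virt (c := c) bt_one
  have v' := dl_virt (c := c) bt_one.ak one_M hμ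
  have o : IsSIrr G fun _ => 1 := isIrrCharacter_one.isSIrr
  have g1 := (v.ci_comm virt_one).trans one_gam
  have g2 := (v.ci_comm hX.virt).trans e1
  obtain ⟨Y, Z, hY, hZ, -, e5⟩ := ((v.sub virt_one).sub hX.virt).exists_of_nsq_two (nsq_eq_of_ci (by
    simp only [ci_sub_left, ci_sub_right, gam4 bt_one, g1, g2, one_gam, e1, e3, ci_eq_zero_symm e3, ci_one_one,
      hX.ci_self]
    norm_num))
  have s1 : ⟪Y, c.gam 1⟫ + ⟪Z, c.gam 1⟫ = 2 := by
    rw [← ci_add_left, ← e5, ci_sub_left, ci_sub_left, gam4 bt_one, one_gam, e1]; norm_num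
  have s2 : ⟪Y, c.dl 1 1 μ⟫ + ⟪Z, c.dl 1 1 μ⟫ = 0 := by
    rw [← ci_add_left, ← e5, ci_sub_left, ci_sub_left, gam_al bt_one hμ n, one_dl hμ (nr_ne hμ n).1, e2]; norm_num
  have s3 : ⟪Y, c.gam 1⟫ = 1 ∧ ⟪Z, c.gam 1⟫ = 1 := by
    have a1 := four_le v (gam4 bt_one) (gam_one bt_one) hY
    have a2 := four_le v (gam4 bt_one) (gam_one bt_one) hZ
    rw [v.ci_comm hY.virt] at a1
    rw [v.ci_comm hZ.virt] at a2
    rcases a1 with a1 | a1 | a1 <;> rcases a2 with a2 | a2 | a2 <;> rw [a1, a2] at s1 <;> first | exact ⟨a1, a2⟩ | norm_num at s1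
  obtain ⟨a1, p1, p2, p3⟩ := gen (c := c) bt_one hY (od_of (c := c) bt_one hY (by simp [s3]))
  obtain ⟨a2, q1, q2, q3⟩ := gen (c := c) bt_one hZ (od_of (c := c) bt_one hZ (by simp [s3]))
  rw [p2 μ hμ n, q2 μ hμ n] at s2
  rw [s3.1] at p1 p3
  rw [s3.2] at q1 q3
  obtain ⟨rfl, rfl⟩ : a1 = 0 ∧ a2 = 0 := by
    rcases p1 with rfl | rfl <;> rcases q1 with rfl | rfl <;> first | exact ⟨rfl, rfl⟩ | norm_num at s2
  have m : Nat.card c.A = 4 := by have := c.st.dih.card; omega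
  have k : ∀ {Y : G → ℂ}, IsSIrr G Y → ⟪Y, c.gam 1⟫ = 1 →
      (∀ x : c.K, (x : G) ∉ c.U → c.cc Y 1 x = (0 - 1) * c.μ0 x + 0) → ∃ r : ℤ, Y 1 = (8 * r + 3 : ℤ) :=
    fun {Y} hY e h => by
      obtain ⟨r, hr⟩ := deg hY.virt fun s hs s1 => (val hY (by simp [e]) hs s1).trans (h s (AU hs s1))
      rw [m, μ0_t h8.ge] at hr
      exact ⟨r, by push_cast at hr ⊢; linear_combination hr⟩
  obtain ⟨r, hr⟩ := k hY s3.1 p3
  obtain ⟨s, hs⟩ := k hZ s3.2 q3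
  obtain ⟨k3, k4⟩ := eq4 hX hY hZ (by rw [add_assoc, ← e5]; abel) e1 s3.1 s3.2 e4 hr hs
  rw [m] at k1
  rw [e] at k2 k4
  have := ar3 (i := c.H.index) (n := c.N1) (a := a) (N := N) (by exact_mod_cast N1_pos) (by exact_mod_cast ha)
    (by rw [k1]; norm_num) rfl rfl k3 (by push_cast at k2; linarith) (by push_cast at k4; linarith)
  exact_mod_cast this

theorem pf3 (h4 : Nat.card c.S = 4) {Y : Subgroup G} (hY : Y ≤ c.U) (hn : c.H ≤ N[Y]) (hi : ¬ c.U ≤ Y)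
    (inv : ∀ u ∈ c.U, c.v * u * c.v⁻¹ * u ∈ Y)
    (ti : ∀ x ∈ c.K, x ∉ Y ⊔ c.A → ∀ g : G, g * x * g⁻¹ ∈ c.K → g ∈ c.H) : ∃ j N : ℤ,
      (c.H.index : ℤ) = j ^ 2 * (2 * Nat.card c.A * N + 1) * (Nat.card c.A * N + 1) ∧
      |j * N| * Nat.card c.A = c.N1 + c.N2 := by
  have m : Nat.card c.A = 2 := by have := c.st.dih.card; omega
  have hA : ∀ s ∈ c.A, s ≠ 1 → s = c.t := fun s hs => c.st.uniq hs (by
    have := pow_card_eq_one' (x := (⟨s, hs⟩ : c.A))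
    rw [m, sq] at this
    exact congrArg Subtype.val this)
  have cA : c.H ≤ C[c.A] := le_cent_iff.2 fun g hg s hs => by
    by_cases e : s = 1
    · simp [e]
    · rw [hA s hs e]; exact (mem_cent1.1 hg).symm
  haveI := normal_subgroupOf (H := Y ⊔ c.A) (c.KH.trans (le_norm_sup hn (cA.trans (cent_le_norm _))))
  obtain ⟨ν, hν, n1, k⟩ := exists_irr_ne_one_of_normal ((Y ⊔ c.A).subgroupOf c.K) fun e => hi fun u hu => by
    have : (⟨u, c.UK hu⟩ : c.K) ∈ (Y ⊔ c.A).subgroupOf c.K := e ▸ mem_top _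
    obtain ⟨y, hy, s, hs, e⟩ := (mem_sup_of_le_norm' (c.AH.trans hn)).1 (mem_subgroupOf.1 this)
    obtain rfl : s = 1 := c.US (by
      rw [← inv_mul_eq_iff_eq_mul.2 e]; exact mul_mem (inv_mem (hY hy)) hu) (c.AS hs)
    rwa [show u = y by simpa using e]
  have q : ∀ x : c.K, QuotientGroup.mk' ((Y ⊔ c.A).subgroupOf c.K) (c.τ x) =
      (QuotientGroup.mk' ((Y ⊔ c.A).subgroupOf c.K) x)⁻¹ := fun x => by
    rw [eq_inv_iff_mul_eq_one, ← map_mul, QuotientGroup.mk'_apply, QuotientGroup.eq_one_iff, mem_subgroupOf]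
    obtain ⟨u, s, hu, hs, rfl⟩ := decK x
    rw [map_mul, τA hs, show c.τ u * s⁻¹ * (u * s) = c.τ u * u by
      rw [show u * s = s * u from Subtype.ext (le_cent_iff.1 cA u (c.UH hu) s hs).symm]; group]
    exact mem_sup_left (inv u hu)
  have l : Lin ν := lin_of hν (hν.degree_one_of_commutators fun x y => k _ (by
    rw [← QuotientGroup.eq_one_iff, ← QuotientGroup.mk'_apply]
    have := q (y * x)
    rw [map_mul, map_mul, q, q, ← mul_inv_rev, inv_inj] at this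
    simp only [map_mul, map_inv] at this ⊢
    rw [this]; group))
  have lτ : ∀ x, ν (c.τ x) = ν x⁻¹ := fun x => by
    have := k (c.τ x * x) (by rw [← QuotientGroup.eq_one_iff, ← QuotientGroup.mk'_apply, map_mul, q, inv_mul_cancel])
    rw [l.mul, l.one, ← l.mul_inv x, mul_comm] at this
    exact mul_left_cancel₀ (l.ne x) this
  have kA : ∀ s : c.K, (s : G) ∈ c.A → ν s = 1 := fun s hs => (k s (mem_sup_right hs)).trans l.one
  obtain ⟨u, hu⟩ : ∃ u, ν u * ν u ≠ 1 := by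
    by_contra h
    push Not at h
    refine n1 (funext fun x => ?_)
    obtain ⟨u, s, hu, hs, rfl⟩ := decK x
    obtain ⟨j, hj⟩ := odd_ord c.oU hu
    have := l.pow u (orderOf u)
    rw [pow_orderOf_eq_one, l.one, ← orderOf_coe, hj, pow_succ, pow_mul, sq, h, one_pow, one_mul] at this
    rw [l.mul, kA s hs, ← this, mul_one]
  have nr : conjFun ν ≠ ν := fun e => hu (by
    nth_rewrite 2 [← e]; rw [conjFun_apply, ← l.inv, l.mul_inv])
  have o : IsIrrCharacter c.K 1 := isIrrCharacter_one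
  have ok : c.Ok (1 - ν) := ⟨o.isClassFunction.sub hν.isClassFunction, by simp [l.one],
    fun x n => ti x x.2 fun h => n (by simp [k x h, l.one])⟩
  have c1 : ⟪1, ν⟫ = 0 := o.ci_of_ne hν (Ne.symm n1)
  have c2 : ⟪c.μ0, ν⟫ = 0 := (linM μ0_M).irr.ci_of_ne hν (by rintro rfl; exact nr conj_μ0)
  have c3 : ⟪c.μ0, 1⟫ = 0 := (linM μ0_M).irr.ci_of_ne o μ0_ne
  obtain ⟨X, Z, hX, hZ, e1, e2, -, -⟩ := alpha (c := c) (α := c.In (1 - ν)) (o.virt.sub hν.virt).indFun (by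
      rw [ci_In_In ok, show (1 - ν) ∘ c.τ = 1 - conjFun ν from funext fun x => by simp [lτ, l.inv, conjFun]]
      simp only [ci_sub_left, ci_sub_right, o.ci_self, hν.ci_self, c1, ci_eq_zero_symm c1, hν.conjFun.ci_of_ne hν nr,
        hν.conjFun.ci_of_ne o fun e => n1 (by rw [← conjFun_conjFun ν, e]; exact conj_one')]
      norm_num)
    (by
      rw [gam, dl, ci_In_In (ok_dl bt_one.ak one_M μ0_M), mul_one, one_mul,
        show (1 - c.μ0) ∘ c.τ = 1 - c.μ0 by nth_rewrite 2 [← conj_μ0]; rw [← M_τ' μ0_M]; rfl]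
      simp only [ci_sub_left, ci_sub_right, o.ci_self, c1, c2, c3]
      norm_num)
    (by rw [ci_In (isClassFunction_const 1), ci_sub_right]; exact (congrArg₂ _ o.ci_self c1).trans (sub_zero _))
  obtain ⟨a, -, -, h3⟩ := gen (c := c) bt_one hX (od_of (c := c) bt_one hX (by simp [e2]))
  have σt : c.σ' = c.t' := Subtype.ext (hA _ c.σA fun e => by
    have := μ0_σ (c := c)
    rw [show c.σ' = 1 from Subtype.ext e, (linM μ0_M).one] at this; norm_num at this)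
  obtain ⟨N, z, -, k1, k2⟩ := fin2 hX hZ e1 (In_one ok) (.inl (by
      have := In_res ok c.t'
      rw [τt] at this
      exact this.trans (by simp [kA c.t' c.st.mem])))
    (by
      rw [cZ_In ok, ← sR_one, show c.sR 1 ^ 2 = c.sR 1 ^ 2 - c.sR ν ^ 2 by simp [sR_zero l (lτ u) hu], ← sR_lin l,
        ← sR_lin (linM one_M), ← sR_sub (fun x => c.sR fun y => (1 : c.K → ℂ) (x * y))]
      exact congrArg _ (sR_congr (c := c) fun x hx => sR_sub _ _))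
    fun s hs s1 => by
      rw [val hX (by simp [e2]) hs s1, h3 s (AU hs s1), e2,
        show s = c.σ' from σt ▸ Subtype.ext (hA s hs fun e => s1 (Subtype.ext e)), μ0_σ]; ring
  exact fin3 k1 k2

end Su

end Cfsg.Agent.GW.Ch

namespace Cfsg.Agent.GW

open Cfsg Subgroup Cfsg.Agent.GT Cfsg.Agent.Cls

universe u

variable {G : Type u} [Group G] [Finite G] {S A Y : Subgroup G} {t v σ : G} {p : ℕ}

theorem St.pf1 (h : St S A t) (hv : v ∈ S) (hvA : v ∉ A) (hσ : zpowers σ = A) :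
    C1[t].index ≤ 15 * (C1[v].relIndex C1[t] * C1[v * σ].relIndex C1[t]) ∧
    3 * (C1[v].relIndex C1[t] * C1[v * σ].relIndex C1[t]) ≤ C1[t].index :=
  have := Fintype.ofFinite G
  Ch.Su.pf1 ⟨S, A, t, v, σ, h, hv, hvA, hσ⟩

theorem St.pf2 [IsSimpleGroup G] (h : St S A t) (h8 : 8 ≤ Nat.card S) (hv : v ∈ S) (hvA : v ∉ A)
    (hσ : zpowers σ = A) : ∃ j N : ℤ,
      (C1[t].index : ℤ) = j ^ 2 * (2 * Nat.card A * N + 1) * (Nat.card A * N + 1) ∧
      |j * N| * Nat.card A = C1[v].relIndex C1[t] + C1[v * σ].relIndex C1[t] :=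
  have := Fintype.ofFinite G
  Ch.Su.pf2 (c := ⟨S, A, t, v, σ, h, hv, hvA, hσ⟩) h8

theorem St.pf3 [IsSimpleGroup G] (h : St S A t) (h4 : Nat.card S = 4) (hv : v ∈ S) (hvA : v ∉ A)
    (hY : Y ≤ O[C1[t]]) (hn : C1[t] ≤ N[Y]) (hp : p.Prime) (hi : Y.relIndex O[C1[t]] = p)
    (inv : ∀ u ∈ O[C1[t]], v * u * v⁻¹ * u ∈ Y)
    (ti : ∀ x ∈ O[C1[t]] ⊔ A, x ∉ Y ⊔ A → ∀ g : G, g * x * g⁻¹ ∈ O[C1[t]] ⊔ A → g ∈ C1[t]) :
    ∃ j N : ℤ, (C1[t].index : ℤ) = j ^ 2 * (4 * N + 1) * (2 * N + 1) ∧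
      |j * N| * 2 = C1[v].relIndex C1[t] + C1[v * t].relIndex C1[t] := by
  have := Fintype.ofFinite G
  have m : Nat.card A = 2 := by have := h.dih.card; omega
  have : ∃ j N : ℤ, (C1[t].index : ℤ) = j ^ 2 * (2 * Nat.card A * N + 1) * (Nat.card A * N + 1) ∧
      |j * N| * Nat.card A = C1[v].relIndex C1[t] + C1[v * t].relIndex C1[t] :=
    Ch.Su.pf3 (c := ⟨S, A, t, v, t, h, hv, hvA,
      (eq_zpowers_of_card_prime (m ▸ Nat.prime_two) h.mem (ne1 h.ord)).symm⟩) h4 hY hn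
      (fun e => hp.ne_one (hi ▸ relIndex_eq_one.2 e)) inv ti
  rw [m] at this
  exact this

theorem St.al [IsSimpleGroup G] (h : St S A t) (h8 : Nat.card S = 8) (hv : v ∈ S) (hvA : v ∉ A)
    (hσ : zpowers σ = A) {a : ℕ} (ha : 2 ≤ a)
    (e : C1[v * σ].relIndex C1[t] = a * C1[v].relIndex C1[t]) :
    (a = 3 ∧ 4 * C1[t].index = 105 * C1[v].relIndex C1[t] ^ 2) ∨
    (a = 5 ∧ 4 * C1[t].index = 189 * C1[v].relIndex C1[t] ^ 2) :=
  have := Fintype.ofFinite G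
  Ch.Su.al (c := ⟨S, A, t, v, σ, h, hv, hvA, hσ⟩) h8 ha e

end Cfsg.Agent.GW
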