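import Cfsg.Agent.GW.C5

/-! Gorenstein-Walter, characters: values at `t` when `A` centralises `U`. -/

set_option autoImplicit false
set_option linter.unusedSectionVars false
set_option linter.unusedVariables false
set_option linter.style.haveILetI false

namespace Cfsg.Agent.GW.Ch

open Cfsg Cfsg.Agent.GT Cfsg.Agent.Char Cfsg.Agent.Cls Cfsg.Agent.B84C Subgroup Function
open scoped ComplexConjugate Classical

universe u

theorem conv0 {B : Type u} [Group B] [Fintype B] {l β : B → ℂ} (hl : IsIrrCharacter B l) (hβ : IsIrrCharacter B β)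
    (n : l ≠ β) (f : B → ℂ) : ∑ g, ∑ u, conj (l g) * f (g * u) * conj (β u) = 0 := by
  have k : ∀ x, ∑ g, l g * β (g⁻¹ * x) = 0 := fun x => by
    have := BS.conv_irr hβ hl x
    rwa [hl.ci_of_ne hβ n, mul_zero, zero_mul, mul_eq_zero, or_iff_right hβ.apply_one_ne_zero] at this
  rw [Finset.sum_congr rfl fun g _ => (Equiv.sum_comp (Equiv.mulLeft g⁻¹) _).symm, Finset.sum_comm]
  refine Finset.sum_eq_zero fun x _ => ?_
  have := congrArg (fun z => f x * conj z) (k x)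
  simp only [map_sum, map_mul, map_zero, mul_zero, Finset.mul_sum] at this
  rw [← this]
  exact Finset.sum_congr rfl fun g _ => by simp only [Equiv.coe_mulLeft, mul_inv_cancel_left]; ring

namespace Su

variable {G : Type u} [Group G] [Fintype G] {c : Su G} {θ μ ν l β β' : c.K → ℂ} {χ X : G → ℂ} {I : Subgroup G}

variable (c) in
def B : Subgroup G := c.U ⊓ C[c.S]

variable (c) in
/-- hypotheses of Theorem C -/
structure TC (I : Subgroup G) : Prop where
  hA : c.A ≤ C[c.U]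
  hI : I ≤ c.U
  hn : c.H ≤ N[I]
  inv : ∀ s ∈ c.S, s ∉ c.A → ∀ y ∈ I, s * y * s⁻¹ = y⁻¹
  hU : I ⊔ c.B = c.U

theorem BU : c.B ≤ c.U := inf_le_left
theorem BK : c.B ≤ c.K := BU.trans c.UK
theorem Fb_of {g : G} (h : g ∈ c.U) : c.Fb β g = conj (β ⟨g, c.UK h⟩) := dif_pos h
theorem Fb_not {g : G} (h : g ∉ c.U) : c.Fb β g = 0 := dif_neg h

theorem exN {a : G} (ha : a ∈ C[c.S]) (o : orderOf a = 2) : ∃ n ∈ N[c.S], a = n * c.t * n⁻¹ := by
  haveI : Fact (Nat.Prime 2) := ⟨Nat.prime_two⟩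
  obtain ⟨P, hP⟩ := exists_sylow_of_syl_top Nat.prime_two c.st.syl
  obtain ⟨g, rfl⟩ := c.st.one a o
  obtain ⟨n, hn, e⟩ := P.conj_eq_normalizer_conj_of_mem_centralizer c.t g⁻¹
    (show _ ∈ C[(P : Subgroup G)] by rw [hP]; exact mem_cent_iff_le_cent1.2 c.SH)
    (show _ ∈ C[(P : Subgroup G)] by rw [hP, inv_inv]; exact ha)
  exact ⟨n⁻¹, inv_mem (by rwa [← hP]), by simpa using e⟩

theorem nC {n g : G} (hn : n ∈ N[c.S]) (hg : g ∈ C[c.S]) : n⁻¹ * g * n ∈ C[c.S] :=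
  conj_mem_of_le_norm' (norm_le_norm_cent _) hn hg

theorem nB {n g : G} (hn : n ∈ N[c.S]) (hg : g ∈ c.B) : n⁻¹ * g * n ∈ c.B :=
  ⟨c.memU (CSH (nC hn hg.2)) (by
    rw [show n⁻¹ * g * n = n⁻¹ * g * n⁻¹⁻¹ by simp, orderOf_conj]; exact odd_ord c.oU hg.1), nC hn hg.2⟩

variable (c) in
def Rel (l β : c.K → ℂ) (a : G) : Prop := a ∈ C[c.S] ∧ orderOf a = 2 ∧ ∀ g ∈ C[c.S], c.Fb β g = c.Lf l a g

theorem Rel.par {a : G} (h : c.Rel l β a) (hl : c.Bt l) (hβ : c.Bt β) (hχ : IsGeneralizedCharacter G χ) {n n' : ℤ}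
    (e : c.cc χ l 1 = n) (e' : c.cc χ β 1 = n') (o : Odd n) : Odd n' := by
  obtain ⟨x, hx, rfl⟩ := exN h.1 h.2.1
  have cl := hχ.isClassFunction
  have k : ∀ {β}, c.Bt β → _ := fun {β} hβ => two_conj c.st.pg (f := fun g => c.Fb β g * χ g)
    (fun g => (Fb_int hβ g).mul (hχ.isIntegral g)) fun s hs x => by rw [cl, Fb_conj hβ (c.SH hs)]
  have e1 := k hl
  have e2 := k hβ
  rw [sum_Fb, e] at e1
  rw [sum_Fb, e', Fintype.sum_equiv (MulAut.conj x⁻¹).toEquiv _ fun g => if g ∈ C[c.S] then c.Fb l g * χ g else 0] at e2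
  · have := Ev.even (n := Nat.card c.U * n' - Nat.card c.U * n) ((e2.sub e1).congr (by push_cast; ring))
    exact (Int.odd_mul.1 (show Odd (Nat.card c.U * n') by
      simpa using this.add_odd ((Odd.natCast (R := ℤ) c.oU).mul o))).2
  · intro g
    have : (MulAut.conj x⁻¹).toEquiv g = x⁻¹ * g * x := by simp
    rw [this]
    by_cases k : g ∈ C[c.S]
    · rw [if_pos k, if_pos (nC hx k), h.2.2 g k, Lf_eq hl, cl.conj']
    · rw [if_neg k, if_neg fun n => k (by simpa [mul_assoc] using nC (inv_mem hx) n)]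

theorem Rel.self (hl : c.Bt l) : c.Rel l l c.t :=
  ⟨mem_cent_iff_le_cent1.2 c.SH, c.st.ord, fun g _ => by simpa using (Lf_eq hl 1 g).symm⟩

theorem Rel.one {a : G} (h : c.Rel l β a) (hl : c.Bt l) (e : l 1 = 1) : β 1 = 1 := by
  obtain ⟨x, rfl⟩ := c.st.one a h.2.1
  have := h.2.2 1 (one_mem _)
  rw [Lf_eq hl, mul_one, inv_mul_cancel, ← coe_one c.K, Fb_coe (one_mem _), Fb_coe (one_mem _), e] at this
  exact star_injective this

namespace TC

variable (h : c.TC I)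
include h

theorem cen {s x : G} (hs : s ∈ c.A) (hx : x ∈ c.K) : x * s = s * x := by
  obtain ⟨u, hu, r, hr, rfl⟩ := c.memK.1 hx
  rw [mul_assoc, c.st.dih.comm hr hs, ← mul_assoc, le_cent_iff.1 h.hA s hs u hu, mul_assoc]

theorem nA : c.K ≤ N[c.A] := le_norm_of_cent (le_cent_iff.2 fun x hx s hs => (h.cen hs hx).symm)

theorem IK : I ≤ c.K := h.hI.trans c.UK

theorem dec (x : c.K) : ∃ y b s : c.K, (y : G) ∈ I ∧ (b : G) ∈ c.B ∧ (s : G) ∈ c.A ∧ x = y * b * s := by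
  obtain ⟨u, s, hu, hs, rfl⟩ := decK x
  rw [← h.hU] at hu
  obtain ⟨y, hy, b, hb, e⟩ := (mem_sup_of_le_norm' ((BK.trans c.KH).trans h.hn)).1 hu
  exact ⟨⟨y, h.IK hy⟩, ⟨b, BK hb⟩, s, hy, hb, hs, by congr 1; exact Subtype.ext e⟩

theorem τI {y : c.K} (hy : (y : G) ∈ I) : c.τ y = y⁻¹ := Subtype.ext (h.inv _ c.hv c.hvA y hy)

theorem R_iff (x : c.K) : c.τ x = x⁻¹ ↔ (x : G) ∈ I ⊔ c.A := by
  refine ⟨fun e => ?_, fun e => ?_⟩
  · obtain ⟨y, b, s, hy, hb, hs, rfl⟩ := h.dec x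
    have k : c.τ b = b := Subtype.ext (mul_inv_eq_iff_eq_mul.2 (hb.2 _ c.hv))
    rw [map_mul, map_mul, h.τI hy, k, τA hs, show y * b * s = s * (y * b) from Subtype.ext (h.cen hs (y * b).2),
      mul_inv_rev, mul_left_inj] at e
    have k2 : ((b * b : c.K) : G) ∈ I := by
      rw [show b * b = y * (y⁻¹ * b) * b by group, e, show y * (y * b)⁻¹ * b = y * (b⁻¹ * y⁻¹ * b) by group]
      exact mul_mem hy (conj_mem_of_le_norm' h.hn (c.KH b.2) (inv_mem hy))
    have k3 := h.τI k2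
    rw [map_mul, k] at k3
    have k4 : ((b * b : c.K) : G) = 1 := eq1_of_inv (odd_ord c.oU (h.hI k2)) (congrArg Subtype.val k3.symm)
    obtain rfl : b = 1 := Subtype.ext (eq1_of_odd (odd_ord c.oU hb.1) k4)
    rw [mul_one]
    exact mul_mem (mem_sup_left hy) (mem_sup_right hs)
  · obtain ⟨y, hy, s, hs, e⟩ := (mem_sup_of_le_norm' (c.AH.trans h.hn)).1 e
    obtain rfl : x = ⟨y, h.IK hy⟩ * ⟨s, c.AK hs⟩ := Subtype.ext e
    rw [map_mul, h.τI hy, τA hs, ← mul_inv_rev, inv_inj]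
    exact Subtype.ext (h.cen hs (h.IK hy)).symm

theorem sR_shift (f : c.K → ℂ) {n : c.K} (hn : (n : G) ∈ I ⊔ c.A) : (c.sR fun y => f (y * n)) = c.sR f :=
  Fintype.sum_equiv (Equiv.mulRight n) _ _ fun x => if_congr (by
    rw [h.R_iff, h.R_iff]; exact (mul_mem_cancel_right hn).symm) rfl rfl

theorem N12 : c.N1 = c.N2 ∧ c.N1 + c.N2 = Nat.card I * Nat.card c.A := by
  have e1 := h.sR_shift c.μ0 (n := c.σ') (mem_sup_right c.σA)
  simp only [(linM μ0_M).mul, μ0_σ, mul_comm _ (-1 : ℂ), sR_mul, sR_μ0] at e1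
  have e2 := sR_one (c := c)
  simp only [sR, h.R_iff, Pi.one_apply, ← mem_subgroupOf] at e2
  rw [BSW.sum_ite_mem, card_subgroupOf (sup_le h.IK c.AK), card_sup_of_inf_eq_bot (.inr (c.AH.trans h.hn))
    (eq_bot_iff.2 fun x hx => c.US (h.hI hx.1) (c.AS hx.2))] at e2
  exact ⟨Nat.cast_injective (R := ℂ) (by linear_combination (-1 / 2 : ℂ) * e1), by exact_mod_cast e2.symm⟩

theorem nJ : ((I ⊔ c.A).subgroupOf c.K).Normal := normal_subgroupOf (le_norm_sup (c.KH.trans h.hn) h.nA)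

theorem surj : haveI := h.nJ
    Surjective ((QuotientGroup.mk' ((I ⊔ c.A).subgroupOf c.K)).comp (inclusion BK)) := fun q => by
  obtain ⟨x, rfl⟩ := QuotientGroup.mk_surjective q
  obtain ⟨y, b, s, hy, hb, hs, rfl⟩ := h.dec x
  haveI := h.nJ
  refine ⟨⟨b, hb⟩, ?_⟩
  rw [QuotientGroup.mk_mul, QuotientGroup.mk_mul, (QuotientGroup.eq_one_iff y).2 (mem_subgroupOf.2 (mem_sup_left hy)),
    (QuotientGroup.eq_one_iff s).2 (mem_subgroupOf.2 (mem_sup_right hs)), one_mul, mul_one]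
  rfl

theorem resB (hβ : c.Bt β) : IsIrrCharacter c.B fun b => β (inclusion BK b) := by
  haveI := h.nJ
  obtain ⟨ψ, hψ, rfl⟩ := hβ.1.exists_deflation _ (QuotientGroup.mk'_surjective ((I ⊔ c.A).subgroupOf c.K))
    fun g hg => hβ.2 g ((h.R_iff g).2 ((QuotientGroup.eq_one_iff g).1 hg))
  exact hψ.comp_surjective _ h.surj

theorem rel_eq {a : G} (hβ : c.Bt β) (hβ' : c.Bt β') (e : c.Rel l β a) (e' : c.Rel l β' a) : β = β' :=
  funext fun x => by
    obtain ⟨y, b, s, hy, hb, hs, rfl⟩ := h.dec x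
    have := (e.2.2 b hb.2).trans (e'.2.2 b hb.2).symm
    rw [Fb_coe hb.1, Fb_coe hb.1] at this
    rw [show y * b * s = s * (y * b) from Subtype.ext (h.cen hs (y * b).2), hβ.mul (τA hs), hβ'.mul (τA hs),
      hβ.mul (h.τI hy), hβ'.mul (h.τI hy)]
    exact star_injective this

theorem ex_lin (hB : c.B ≠ ⊥) : ∃ l, c.Bt l ∧ l 1 = 1 ∧ l ≠ 1 := by
  haveI := h.nJ
  haveI := solv_odd (c.oU.of_dvd_nat (card_dvd_of_le (BU : c.B ≤ c.U)))
  haveI := Group.isSolvable_of_surjective h.surj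
  obtain ⟨b, hb, b1⟩ := exists_ne_one_of_ne_bot hB
  haveI : Nontrivial (c.K ⧸ (I ⊔ c.A).subgroupOf c.K) := ⟨(⟨b, BK hb⟩ : c.K), 1, fun e => b1 (eq1_of_inv
    (odd_ord c.oU hb.1) (by
      have := congrArg Subtype.val ((h.R_iff _).2 (mem_subgroupOf.1 ((QuotientGroup.eq_one_iff _).1 e)))
      exact this.symm.trans (mul_inv_eq_iff_eq_mul.2 (hb.2 _ c.hv))))⟩
  obtain ⟨ψ, h1, h2, h3⟩ := exists_irr_ne_one_of_normal _
    (Group.IsSolvable.commutator_lt_top_of_nontrivial (c.K ⧸ (I ⊔ c.A).subgroupOf c.K)).ne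
  refine ⟨_, ⟨h1.comp_surjective _ (QuotientGroup.mk'_surjective _), fun x hx => ?_⟩, ?_, fun e => h2 (funext fun q => ?_)⟩
  · rw [QuotientGroup.mk'_apply, (QuotientGroup.eq_one_iff x).2 ((h.R_iff x).1 hx), map_one]
  · exact h1.degree_one_of_commutators fun x y => h3 _ (commutator_mem_commutator (mem_top x) (mem_top y))
  · obtain ⟨x, rfl⟩ := QuotientGroup.mk_surjective q
    exact congrFun e x

theorem not_rel (hl : c.Bt l) (l1 : l 1 = 1) (hβ : c.Bt β) (hχ : IsSIrr G χ) {n n' : ℤ}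
    (e : c.cc χ l 1 = n) (e' : c.cc χ β 1 = n') (o : Odd n) (o' : Odd n') : ∃ a, c.Rel l β a := by
  by_contra nr
  obtain ⟨-, w, ow, hw⟩ := omega_z hl hχ o e
  have := two_conj3 c.st.pg (f := fun a g u => c.Lf l a g * χ (g * u) * c.Fb β u)
    (fun _ _ _ => ((Lf_int hl _ _).mul (hχ.virt.isIntegral _)).mul (Fb_int hβ _)) fun s hs a g u => by
      rw [Lf_conj hl, Fb_conj hβ (c.SH hs), conj_mul, hχ.isClassFunction]
  rw [Finset.sum_eq_zero (f := fun a => if a ∈ C[c.S] then _ else 0) fun a _ => ite_eq_right_iff.2 fun ha => ?_,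
    Finset.sum_comm, Finset.sum_congr rfl fun g _ => Finset.sum_comm, Finset.sum_comm] at this
  · simp only [← Finset.sum_mul, hw] at this
    simp only [mul_assoc, ← Finset.mul_sum, mul_comm (χ _), sum_Fb, e'] at this
    have := Ev.even (n := w * (Nat.card c.U * n')) (this.congr (by push_cast; ring))
    exact Int.not_odd_iff_even.2 this (ow.mul ((Odd.natCast c.oU).mul o'))
  by_cases oa : orderOf a = 2
  swap
  · simp [Lf, oa]
  obtain ⟨x, hx, rfl⟩ := exN ha oa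
  have L := lin_of hl.1 l1
  have k : Lin fun b : c.B => l ⟨_, BK (nB hx b.2)⟩ :=
    ⟨fun a b => by rw [← L.mul]; congr 1; exact Subtype.ext (by simp [mul_assoc]),
      by rw [← L.one]; congr 1; exact Subtype.ext (by simp)⟩
  refine Eq.trans ?_ (conv0 k.irr (h.resB hβ) (fun e => nr ⟨_, ha, oa, fun g hg => ?_⟩) fun b => χ b)
  · refine (Finset.sum_of_injOn (fun x : c.B => (x : G)) (fun _ _ _ _ => Subtype.ext) (fun _ _ => by simp)
      (fun g _ e => Finset.sum_eq_zero fun u _ => ite_eq_right_iff.2 fun hg => ?_) fun g _ => ?_).symm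
    · rw [Lf_eq hl, Fb_not fun n => e ⟨⟨g, by simpa [mul_assoc] using nB (inv_mem hx) ⟨n, nC hx hg.1⟩⟩,
        by simp, rfl⟩, zero_mul, zero_mul]
    · refine Finset.sum_of_injOn (fun x : c.B => (x : G)) (fun _ _ _ _ => Subtype.ext) (fun _ _ => by simp)
        (fun u _ e => ite_eq_right_iff.2 fun hg => ?_) fun u _ => ?_
      · rw [Fb_not fun n => e ⟨⟨u, n, hg.2⟩, by simp, rfl⟩, mul_zero]
      · rw [if_pos ⟨g.2.2, u.2.2⟩, Lf_eq hl, Fb_of (BU (nB hx g.2)), Fb_of (BU u.2)]; rfl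
  · rw [Lf_eq hl]
    by_cases n : g ∈ c.U
    · rw [Fb_of n, Fb_of (BU (nB hx ⟨n, hg⟩))]
      exact congrArg conj (congrFun e ⟨g, n, hg⟩).symm
    · rw [Fb_not n, Fb_not fun k => n (by simpa [mul_assoc] using BU (nB (inv_mem hx) ⟨k, nC hx hg⟩))]

theorem cc_nbt (hθ : c.Ak θ) (nb : ¬ c.Bt θ) (hχ : IsSIrr G χ) (ho : Od χ) : c.cc χ θ c.t' = 0 := by
  haveI := normal_subgroupOf (c.KH.trans h.hn)
  haveI := normal_subgroupOf h.nA
  have s0 : ∑ n : I.subgroupOf c.K, θ n = 0 := hθ.1.sum_normal_eq_zero _ (by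
    by_contra n
    push Not at n
    refine nb ⟨hθ.1, fun x hx => ?_⟩
    obtain ⟨y, hy, s, hs, e⟩ := (mem_sup_of_le_norm' (c.AH.trans h.hn)).1 ((h.R_iff x).1 hx)
    obtain rfl : x = ⟨y, h.IK hy⟩ * ⟨s, c.AK hs⟩ := Subtype.ext e
    rw [hθ.1.isCharacter.mul_of_apply_eq (n _ hy), hθ.2 _ hs])
  have s1 : ∀ x, ∑ n : I.subgroupOf c.K, θ (x * n) = 0 := fun x => by
    have := hθ.1.sum_class_mul (f := fun g => if g ∈ I.subgroupOf c.K then 1 else 0) (fun g k => if_congr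
      ⟨fun e => by simpa [mul_assoc] using Normal.conj_mem' inferInstance _ e k,
        fun e => Normal.conj_mem inferInstance _ e k⟩ rfl rfl) x
    simp only [ite_mul, one_mul, zero_mul] at this
    rw [← sum_subgroup_eq_sum_ite _ θ, s0, zero_mul, ← sum_subgroup_eq_sum_ite _ fun g => θ (g * x), mul_eq_zero,
      or_iff_right hθ.1.apply_one_ne_zero] at this
    rw [← this]
    exact Finset.sum_congr rfl fun n _ => hθ.1.isClassFunction.mul_comm _ _
  obtain ⟨D, D0, hD⟩ := hθ.1.exists_degree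
  have nτ : θ ∘ c.τ ≠ θ := fun e => by
    obtain ⟨ψ, hψ, k⟩ := hθ.1.exists_deflation _ (QuotientGroup.mk'_surjective (c.A.subgroupOf c.K))
      fun g hg => hθ.2 g ((QuotientGroup.eq_one_iff g).1 hg)
    have o : Odd D := c.oU.of_dvd_nat (c.sdK.relIndex_right ▸ hψ.degree_dvd_card (by rw [← hD, k]; rfl))
    obtain ⟨T, -, e1⟩ := BS.sum_invol (Finset.univ : Finset (I.subgroupOf c.K)) (fun n => n⁻¹) (by simp) (by simp)
      (fun n => θ n) fun n _ => by rw [coe_inv, ← h.τI n.2]; exact congrFun e _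
    rw [s0, show Finset.univ.filter (fun a : I.subgroupOf c.K => a⁻¹ = a) = {1} from Finset.ext fun a => by
      simp only [Finset.mem_filter, Finset.mem_univ, true_and, Finset.mem_singleton]
      exact ⟨fun k => Subtype.ext (Subtype.ext (eq1_of_inv (odd_ord c.oU (h.hI a.2))
        (congrArg (fun x : I.subgroupOf c.K => ((x : c.K) : G)) k))), by rintro rfl; simp⟩,
      Finset.sum_singleton, coe_one, hD] at e1
    exact Int.not_odd_iff_even.2 (Ev.even (n := D) ⟨-∑ a ∈ T, θ a,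
      (IsIntegral.sum _ fun a _ => hθ.1.virt.isIntegral _).neg, by
        rw [nsmul_eq_mul] at e1; push_cast at e1 ⊢; linear_combination -e1⟩) o.natCast
  have z : ∀ μ ∈ c.M, ∀ x, (c.sR fun y => (θ * μ) (x * y)) = 0 := fun μ hμ x => by
    refine mul_left_cancel₀ (card_ne_zero_complex (I.subgroupOf c.K)) ?_
    rw [mul_zero, Nat.card_eq_fintype_card, ← nsmul_eq_mul, ← Finset.card_univ, ← Finset.sum_const,
      Finset.sum_congr rfl fun n _ => (h.sR_shift _ (n := (n : I.subgroupOf c.K)) (mem_sup_left n.2)).symm]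
    unfold sR
    rw [Finset.sum_comm]
    refine Finset.sum_eq_zero fun y _ => ?_
    split_ifs
    · simp only [Pi.mul_apply, ← mul_assoc]
      rw [Finset.sum_congr rfl fun n _ => by rw [(linM hμ).mul _ n, M_U hμ (h.hI n.2)], ← Finset.sum_mul, s1, zero_mul]
    · simp
  have k : ∀ μ ∈ c.M, ∀ ν ∈ c.M, μ c.t' = 1 → ν c.t' = -1 → c.d χ θ μ = c.d χ θ ν := fun μ hμ ν hν e1 e2 => by
    have n : μ ≠ ν := fun e => by rw [e, e2] at e1; norm_num at e1
    rw [← sub_eq_zero, ← ci_dl_left hχ.isClassFunction]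
    refine even2 c.tt (dl_virt hθ hμ hν) ?_ (dl_one hθ hμ hν) ?_ (n := D) (by omega) ?_ hχ ho
    · rw [ci_dl hθ hθ hμ hν hμ hν]
      simp [n, n.symm, nτ]; norm_num
    · rw [dl, cZ_In (ok_dl hθ hμ hν), sR_congr (g := fun _ => 0) fun x _ => ?_]
      · simp [sR]
      · exact (sR_sub _ _).trans (by rw [z μ hμ, z ν hν, sub_zero])
    · rw [dl_t hθ hμ hν, e1, e2, hD]; push_cast; ring
  obtain ⟨κ, k1, k2⟩ := c.ex_μ1
  have : c.cc χ θ c.t' = -c.cc χ θ c.t' := by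
    rw [cc, ← Finset.sum_neg_distrib]
    refine Finset.sum_bij' (fun μ _ => μ * κ) (fun μ _ => μ * conjFun κ) (fun μ hμ => mul_M hμ k1)
      (fun μ hμ => mul_M hμ (conj_M k1)) (fun μ _ => by rw [mul_assoc, mul_conj_M k1, mul_one])
      (fun μ _ => by rw [mul_assoc, mul_comm (conjFun κ), mul_conj_M k1, mul_one]) fun μ hμ => ?_
    rcases M_t hμ with e | e
    · rw [k μ hμ _ (mul_M hμ k1) e (by simp [e, k2])]; simp [k2]
    · rw [← k _ (mul_M hμ k1) μ hμ (by simp [e, k2]) e]; simp [k2]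
  linear_combination (1 / 2 : ℂ) * this

theorem expand : χ c.t = ∑ θ ∈ IrrKer (c.A.subgroupOf c.K), θ 1 * c.cc χ θ c.t' := by
  haveI := normal_subgroupOf h.nA
  refine mul_left_cancel₀ (card_ne_zero_complex c.U) ?_
  rw [Finset.mul_sum, Finset.sum_congr rfl fun θ _ => by rw [mul_left_comm, cc_eq, Finset.mul_sum],
    Finset.sum_comm, Finset.sum_eq_single 1 (fun y _ y1 => ?_) (by simp)]
  · have := sum_irr_ker_degree_mul (c.A.subgroupOf c.K) 1
    rw [if_pos (one_mem _)] at this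
    rw [← c.sdK.relIndex_right, relIndex, ← this, Finset.sum_mul]
    refine Finset.sum_congr rfl fun θ k => ?_
    obtain ⟨k1, k2⟩ := mem_IrrKer.1 k
    rw [if_pos (show ((1 : c.K) : G) ∈ c.U from one_mem _), mul_one, k2 c.t' c.st.mem, k1.isCharacter.conj_one]
    simp only [coe_one, mul_one, t']; ring
  · by_cases e : (y : G) ∈ c.U
    · have := sum_irr_ker_degree_mul (c.A.subgroupOf c.K) y⁻¹
      rw [if_neg fun n => y1 (Subtype.ext (c.US e (c.AS (inv_mem_iff.1 (mem_subgroupOf.1 n)))))] at this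
      rw [← mul_zero (χ (c.t' * y)), ← this, Finset.mul_sum]
      refine Finset.sum_congr rfl fun θ k => ?_
      obtain ⟨k1, k2⟩ := mem_IrrKer.1 k
      rw [if_pos e, k1.isCharacter.mul_of_apply_eq (k2 c.t' c.st.mem), k1.isCharacter.apply_inv]; ring
    · simp [e]

end TC

end Su

end Cfsg.Agent.GW.Ch
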