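import Cfsg.Agent.GW.C6

/-! Gorenstein-Walter, characters: Theorem C. -/

set_option autoImplicit false
set_option linter.unusedSectionVars false
set_option linter.unusedVariables false
set_option linter.style.haveILetI false

namespace Cfsg.Agent.GW.Ch

open Cfsg Cfsg.Agent.GT Cfsg.Agent.Char Cfsg.Agent.Cls Cfsg.Agent.B84C Subgroup Function
open scoped ComplexConjugate Classical

universe u

section
variable {G : Type u} [Group G] [Fintype G] {γ γ' X1 X2 X3 X4 : G → ℂ}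

/-- four orthonormal signed irreducible characters -/
structure Four (X1 X2 X3 X4 : G → ℂ) : Prop where
  h1 : IsSIrr G X1
  h2 : IsSIrr G X2
  h3 : IsSIrr G X3
  h4 : IsSIrr G X4
  a : ⟪X1, X2⟫ = 0
  b : ⟪X1, X3⟫ = 0
  c : ⟪X1, X4⟫ = 0
  d : ⟪X2, X3⟫ = 0
  e : ⟪X2, X4⟫ = 0
  f : ⟪X3, X4⟫ = 0

theorem exists_four (h : IsGeneralizedCharacter G γ) (h4 : ⟪γ, γ⟫ = 4) (h1 : γ 1 = 0) :
    ∃ X1 X2 X3 X4, Four X1 X2 X3 X4 ∧ γ = X1 + X2 + X3 + X4 := by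
  obtain ⟨X, n, hX, n0, e⟩ := h.exists_sirr fun e => by simp [e, ci_zero_left] at h4
  have : ⟪γ, X⟫ = 1 := by
    rcases four_le h h4 h1 hX with k | k | k
    · rw [e] at k; exact absurd (Nat.cast_eq_zero.1 k) n0.ne'
    · exact k
    · rw [e] at k; exact absurd (show (n : ℤ) = -1 by exact_mod_cast k) (by omega)
  obtain ⟨X2, X3, X4, h2, h3, h4, e, a2, a3, a4, b2, b3, b4⟩ := rest_three h h4 hX this
  exact ⟨X, X2, X3, X4, ⟨hX, h2, h3, h4, ci_eq_zero_symm a2, ci_eq_zero_symm a3, ci_eq_zero_symm a4, b2, b3, b4⟩, e⟩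

theorem Four.ci (h : Four X1 X2 X3 X4) (a b c d : ℂ) : ⟪a • X1 + b • X2 + c • X3 + d • X4, X1⟫ = a ∧
    ⟪a • X1 + b • X2 + c • X3 + d • X4, X2⟫ = b ∧ ⟪a • X1 + b • X2 + c • X3 + d • X4, X3⟫ = c ∧
    ⟪a • X1 + b • X2 + c • X3 + d • X4, X4⟫ = d := by
  simp [ci_add_left, ci_smul_left, h.h1.ci_self, h.h2.ci_self, h.h3.ci_self, h.h4.ci_self, h.a, h.b, h.c, h.d, h.e, h.f,
    ci_eq_zero_symm h.a, ci_eq_zero_symm h.b, ci_eq_zero_symm h.c, ci_eq_zero_symm h.d, ci_eq_zero_symm h.e,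
    ci_eq_zero_symm h.f]

theorem Four.span (h : Four X1 X2 X3 X4) (h4 : ⟪γ, γ⟫ = 4) {a b c d : ℤ} (e1 : ⟪X1, γ⟫ = a) (e2 : ⟪X2, γ⟫ = b)
    (e3 : ⟪X3, γ⟫ = c) (e4 : ⟪X4, γ⟫ = d) (k1 : a = 1 ∨ a = -1) (k2 : b = 1 ∨ b = -1) (k3 : c = 1 ∨ c = -1)
    (k4 : d = 1 ∨ d = -1) : γ = (a : ℂ) • X1 + (b : ℂ) • X2 + (c : ℂ) • X3 + (d : ℂ) • X4 := by
  obtain ⟨p1, p2, p3, p4⟩ := h.ci a b c d
  have k : ∀ {a : ℤ}, a = 1 ∨ a = -1 → (a : ℂ) * a = 1 := by rintro _ (rfl | rfl) <;> simp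
  rw [← sub_eq_zero, ← ci_self_eq_zero, ci_sub_left, ci_sub_right, ci_sub_right, h4]
  simp only [ci_add_right, ci_smul_right, map_intCast, p1, p2, p3, p4, ci_symm_of_int e1, ci_symm_of_int e2,
    ci_symm_of_int e3, ci_symm_of_int e4, k k1, k k2, k k3, k k4]
  simp only [ci_add_left, ci_smul_left, e1, e2, e3, e4, k k1, k k2, k k3, k k4]
  norm_num

end

namespace Su

variable {G : Type u} [Group G] [Fintype G] {c : Su G} {θ μ ν l β β' : c.K → ℂ} {χ X : G → ℂ} {I : Subgroup G}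

variable (c) in
noncomputable def Orb (l : c.K → ℂ) : Finset (c.K → ℂ) :=
  (IrrKer (c.A.subgroupOf c.K)).filter fun β => c.Bt β ∧ ∃ a, c.Rel l β a

theorem mem_Orb : β ∈ c.Orb l ↔ c.Bt β ∧ ∃ a, c.Rel l β a :=
  Finset.mem_filter.trans (and_iff_right_of_imp fun h => mem_IrrKer.2 h.1.ak)

theorem eqR {X1 X2 X3 X4 : G → ℂ} (h : Four X1 X2 X3 X4) (hl : c.Bt l) (l1 : l 1 = 1)
    (e : c.gam l = X1 + X2 + X3 + X4) {a b d f x y z w : ℤ} (e1 : X1 1 = a) (e2 : X2 1 = b) (e3 : X3 1 = d)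
    (e4 : X4 1 = f) (k1 : X1 c.t = x) (k2 : X2 c.t = y) (k3 : X3 c.t = z) (k4 : X4 c.t = w) : a + b + d + f = 0 ∧
      ((c.H.index : ℤ) : ℝ) * ((x : ℝ) ^ 2 * (a : ℝ)⁻¹ + (y : ℝ) ^ 2 * (b : ℝ)⁻¹ + (z : ℝ) ^ 2 * (d : ℝ)⁻¹ +
        (w : ℝ) ^ 2 * (f : ℝ)⁻¹) = 8 * c.N1 * c.N2 := by
  have s := gam_one hl
  have z0 := cZ_gam hl
  rw [e] at s z0
  simp only [Pi.add_apply, e1, e2, e3, e4] at s
  have k : ∀ {X : G → ℂ} {a x : ℤ}, IsSIrr G X → X 1 = a → X c.t = x →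
      cZ c.t X = (c.H.index : ℂ) ^ 2 * (x ^ 2 * (a : ℂ)⁻¹) := fun {X a x} h e k => by
    have := h.apply_one_ne_zero
    rw [← mul_assoc, ← k, ← cZ_sirr h, ← e]; field_simp
  rw [cZ_add, cZ_add, cZ_add, k h.h1 e1 k1, k h.h2 e2 k2, k h.h3 e3 k3, k h.h4 e4 k4, l1] at z0
  refine ⟨by exact_mod_cast s, Complex.ofReal_injective (mul_left_cancel₀ (i0 (c := c)) ?_)⟩
  push_cast
  linear_combination z0

theorem inv_cent {a : G} (ha : a ∈ C[c.S]) (o : orderOf a = 2) :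
    a = c.t ∨ (Nat.card c.S = 4 ∧ (a = c.v ∨ a = c.t * c.v)) := by
  have k : a ∈ c.S := zpowers_le.1 (le_syl_of_le_norm Nat.prime_two c.st.syl (pg2 o) le_top
    (zp_norm (cent_le_norm _ ha)))
  by_cases e : a ∈ c.A
  · exact .inl (c.st.uniq e (sq1 o) (ne1 o))
  rcases c.st.card_cases with h | h
  · rw [c.st.eq_V h c.hv c.hvA, mem_V c.st.ord c.vo (c.st.comm c.hv)] at k
    rcases k with k | k | k
    · exact absurd k (ne1 o)
    · exact .inl k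
    · exact .inr ⟨h, k⟩
  · obtain ⟨b, hb, e'⟩ := c.st.exists_four h
    have := c.st.dih.inv k e hb
    rw [← ha b (c.AS hb), mul_inv_cancel_right] at this
    exact absurd (by rw [← e']; nth_rewrite 2 [this]; simp) (ne1 c.st.ord)

namespace TC

variable (h : c.TC I)
include h

theorem val_O (hl : c.Bt l) (l1 : l 1 = 1) (hX : IsSIrr G X) (e : ⟪X, c.gam l⟫ = 1) :
    X c.t = ∑ β ∈ c.Orb l, c.cc X β c.t' ∧ ∀ β ∈ c.Orb l, ∃ a : ℤ, ⟪X, c.gam β⟫ = a ∧ (a = 1 ∨ a = -1) := by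
  obtain ⟨n, o, e1⟩ := odd_n hl hX (by simp [e])
  have ho := od_of hl hX (by simp [e])
  have k : ∀ {β}, c.Bt β → ∃ n a : ℤ, c.cc X β 1 = n ∧ ⟪X, c.gam β⟫ = a ∧ Even (n - a) ∧ (a = 0 ∨ a = 1 ∨ a = -1) :=
    fun {β} hβ => by
      obtain ⟨n, a, k1, k2, k3⟩ := par hX.virt hβ
      have := four_le (gam_virt hβ) (gam4 hβ) (gam_one hβ) hX
      rw [← hX.virt.ci_comm (gam_virt hβ), k2] at this
      exact ⟨n, a, k1, k2, k3, by exact_mod_cast this⟩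
  refine ⟨?_, fun β hβ => ?_⟩
  · rw [h.expand (χ := X), ← Finset.sum_subset (Finset.filter_subset _ _ : c.Orb l ⊆ _) fun θ k1 k2 => ?_]
    · refine Finset.sum_congr rfl fun β hβ => ?_
      obtain ⟨-, a, r⟩ := mem_Orb.1 hβ
      rw [r.one hl l1, one_mul]
    · refine mul_eq_zero_of_right _ ?_
      by_cases b : c.Bt θ
      · obtain ⟨n', a, p1, p2, p3, p4⟩ := k b
        have := Int.not_odd_iff_even.1 fun o' => k2 (mem_Orb.2 ⟨b, h.not_rel hl l1 b hX e1 p1 o o'⟩)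
        obtain rfl : a = 0 := by
          obtain ⟨x, rfl⟩ := this
          obtain ⟨y, hy⟩ := p3
          omega
        obtain ⟨a, q1, -, q2⟩ := gen b hX ho
        rw [p2] at q1 q2
        rw [q2 _ c.tU]
        rcases q1 with rfl | rfl <;> simp
      · exact h.cc_nbt (mem_IrrKer.1 k1) b hX ho
  · obtain ⟨b, a, r⟩ := mem_Orb.1 hβ
    obtain ⟨n', a, p1, p2, ⟨y, hy⟩, p4⟩ := k b
    obtain ⟨x, hx⟩ := r.par hl b hX.virt e1 p1 o
    exact ⟨a, p2, by omega⟩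

theorem thm [IsSimpleGroup G] (hI : I ≠ ⊥) (hc : c.H.index.Coprime (Nat.card I)) : c.B = ⊥ := by
  by_contra hB
  obtain ⟨l, hl, l1, ln⟩ := h.ex_lin hB
  have hG : ¬ IsMulCommutative G := not_comm_of_four_dvd (by
    obtain ⟨k, hk⟩ := (ord2_conj c.st.ord 1).symm ▸ orderOf_dvd_card_of_mem (show 1 * c.t * 1⁻¹ ∈ c.A by
      simpa using c.st.mem)
    exact (Dvd.intro k (by rw [c.st.dih.card, hk]; ring)).trans (card_subgroup_dvd_card c.S))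
  obtain ⟨X1, X2, X3, X4, F, e⟩ := exists_four (gam_virt hl) (gam4 hl) (gam_one hl)
  have g0 : ⟪fun _ => 1, c.gam l⟫ = 0 := by
    have k1 := ci_mul (c := c) bt_one.ak hl.ak one_M one_M
    have k2 := ci_mul (c := c) bt_one.ak hl.ak one_M μ0_M
    rw [if_neg fun h => ln h.1.symm, mul_one] at k1 k2
    rw [gam, ci_dl_left (isClassFunction_const 1)]
    exact (congrArg₂ _ k1 k2).trans (sub_zero _)
  have lO : l ∈ c.Orb l := mem_Orb.2 ⟨hl, _, Rel.self hl⟩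
  obtain ⟨g1, g2, g3, g4⟩ := F.ci 1 1 1 1
  simp only [one_smul, ← e] at g1 g2 g3 g4
  rw [(gam_virt hl).ci_comm F.h1.virt] at g1
  rw [(gam_virt hl).ci_comm F.h2.virt] at g2
  rw [(gam_virt hl).ci_comm F.h3.virt] at g3
  rw [(gam_virt hl).ci_comm F.h4.virt] at g4
  have dg : ∀ {X : G → ℂ}, IsSIrr G X → ⟪X, c.gam l⟫ = 1 → ∃ z : ℤ, X 1 = z ∧ Odd z ∧ z ≠ 1 := fun {X} hX g => by
    obtain ⟨z, o, e⟩ := od_of hl hX (by simp [g])
    refine ⟨z, e, o, (sirr_one hG hX ?_ e).1⟩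
    rcases hX.ci_cases isIrrCharacter_one.isSIrr with ⟨rfl, -⟩ | ⟨rfl, -⟩ | ⟨-, -, a⟩
    · rw [g0] at g; norm_num at g
    · rw [ci_neg_left, g0] at g; norm_num at g
    · exact a
  obtain ⟨z1, d1, o1⟩ := dg F.h1 g1
  obtain ⟨z2, d2, o2⟩ := dg F.h2 g2
  obtain ⟨z3, d3, o3⟩ := dg F.h3 g3
  obtain ⟨z4, d4, o4⟩ := dg F.h4 g4
  obtain ⟨n1, n2⟩ := h.N12
  have k3 : 3 ≤ Nat.card I := by
    have := ne_bot_iff_one_lt_card.1 hI
    obtain ⟨x, hx⟩ := c.oU.of_dvd_nat (card_dvd_of_le h.hI)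
    omega
  have fin : ∀ d : ℤ, (c.H.index : ℤ) ≠ d * Nat.card I ^ 2 := fun d e => by
    have := hc.symm.eq_one_of_dvd (Int.natCast_dvd_natCast.1 ⟨d * Nat.card I, by rw [e]; ring⟩)
    omega
  have sub : ∀ β ∈ (c.Orb l).erase l, c.Bt β ∧ Nat.card c.S = 4 ∧ (c.Rel l β c.v ∨ c.Rel l β (c.t * c.v)) :=
    fun β hβ => by
      obtain ⟨b1, b2⟩ := Finset.mem_erase.1 hβ
      obtain ⟨b, a, r⟩ := mem_Orb.1 b2
      rcases inv_cent r.1 r.2.1 with rfl | ⟨k, rfl | rfl⟩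
      exacts [absurd (h.rel_eq b hl r (Rel.self hl)) b1, ⟨b, k, .inl r⟩, ⟨b, k, .inr r⟩]
  rcases c.st.card_cases with h4 | h8
  swap
  · have vt : ∀ {X : G → ℂ}, IsSIrr G X → ⟪X, c.gam l⟫ = 1 → ∃ x : ℤ, X c.t = x ∧ (x : ℝ) ^ 2 = 1 := fun {X} hX g => by
      obtain ⟨a, q1, -, q2⟩ := gen hl hX (od_of hl hX (by simp [g]))
      rw [(h.val_O hl l1 hX g).1, ← Finset.add_sum_erase _ _ lO, Finset.sum_eq_zero fun β hβ => by
        have := (sub β hβ).2.1; omega, q2 _ c.tU, μ0_t h8, g]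
      rw [g] at q1
      rcases q1 with rfl | rfl
      exacts [⟨-1, by simp, by simp⟩, ⟨1, by simp, by simp⟩]
    obtain ⟨x1, v1, w1⟩ := vt F.h1 g1
    obtain ⟨x2, v2, w2⟩ := vt F.h2 g2
    obtain ⟨x3, v3, w3⟩ := vt F.h3 g3
    obtain ⟨x4, v4, w4⟩ := vt F.h4 g4
    obtain ⟨s, E⟩ := eqR F hl l1 e d1 d2 d3 d4 v1 v2 v3 v4
    simp only [w1, w2, w3, w4, one_mul] at E
    obtain ⟨j, N, p1, p2⟩ := pf2 h8
    have m : 4 ≤ Nat.card c.A := by have := c.st.dih.card; omega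
    have p3 : |j * N| = Nat.card I := mul_right_cancel₀ (b := (Nat.card c.A : ℤ)) (by omega)
      (by rw [p2]; exact_mod_cast n2)
    have p4 : |j| = 1 := Int.isUnit_iff_abs_eq.1 ((Nat.isCoprime_iff_coprime.2 hc).isUnit_of_dvd'
      ⟨_, by rw [p1, sq, mul_assoc, mul_assoc]⟩ (p3 ▸ (dvd_abs _ _).2 (Dvd.intro _ rfl)))
    rw [abs_mul, p4, one_mul] at p2 p3
    rw [← sq_abs j, p4, one_pow, one_mul, mul_assoc] at p1
    refine ar4 (x := Nat.card c.A * N) (by rw [abs_mul, p3, Nat.abs_cast]; nlinarith) o1 o2 o3 o4 s ?_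
    rw [← p1, E, ← n1]
    have : (Nat.card c.A * N : ℤ) ^ 2 = (c.N1 + c.N1) ^ 2 := by
      rw [← sq_abs, abs_mul, Nat.abs_cast, mul_comm, p2, ← n1]
    have : ((Nat.card c.A * N : ℤ) : ℝ) ^ 2 = (c.N1 + c.N1) ^ 2 := by exact_mod_cast this
    rw [this]; ring
  have m : Nat.card c.A = 2 := by have := c.st.dih.card; omega
  have hA : ∀ s : c.K, (s : G) ∈ c.A → s ≠ 1 → s = c.t' := fun s hs s1 => Subtype.ext (c.st.uniq hs (by
    have := pow_card_eq_one' (x := (⟨s, hs⟩ : c.A))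
    rw [m, sq] at this
    exact congrArg Subtype.val this) fun e => s1 (Subtype.ext e))
  have mt : c.μ0 c.t' = -1 := hA c.σ' c.σA (fun e => by
    have := μ0_σ (c := c)
    rw [e, (linM μ0_M).one] at this; norm_num at this) ▸ μ0_σ
  have vt : ∀ {X : G → ℂ}, IsSIrr G X → ⟪X, c.gam l⟫ = 1 → X c.t = 1 + ∑ β ∈ (c.Orb l).erase l, ⟪X, c.gam β⟫ :=
    fun {X} hX g => by
      rw [(h.val_O hl l1 hX g).1, ← g, Finset.add_sum_erase _ (fun β => ⟪X, c.gam β⟫) lO]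
      refine Finset.sum_congr rfl fun β hβ => ?_
      obtain ⟨a, -, -, q⟩ := gen (mem_Orb.1 hβ).1 hX (od_of hl hX (by simp [g]))
      rw [q _ c.tU, mt]; ring
  have k1 : c.N1 = Nat.card I := by rw [m] at n2; omega
  have cd : ((c.Orb l).erase l).card ≤ 2 := by
    refine (Finset.card_le_card_of_injOn (t := Finset.univ) (fun β => decide (c.Rel l β c.v)) (fun _ _ => Finset.mem_coe.2 (Finset.mem_univ _))
      fun a ha b hb e => ?_).trans (by simp)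
    obtain ⟨a1, -, a2⟩ := sub a ha
    obtain ⟨b1, -, b2⟩ := sub b hb
    rw [decide_eq_decide] at e
    by_cases r : c.Rel l a c.v
    · exact h.rel_eq a1 b1 r (e.1 r)
    · exact h.rel_eq a1 b1 (a2.resolve_left r) (b2.resolve_left fun n => r (e.2 n))
  obtain k | k | k : ((c.Orb l).erase l).card = 0 ∨ ((c.Orb l).erase l).card = 1 ∨ ((c.Orb l).erase l).card = 2 := by
    omega
  · simp only [Finset.card_eq_zero.1 k, Finset.sum_empty, add_zero] at vt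
    have md : ∀ {X : G → ℂ} {z : ℤ}, IsSIrr G X → ⟪X, c.gam l⟫ = 1 → X 1 = z → z % 4 = 1 := fun {X z} hX g e => by
      obtain ⟨n, hn⟩ := deg hX.virt (a := 0) (b := 1) fun s hs s1 => by
        rw [hA s hs s1, zero_mul, zero_add]; exact vt hX g
      rw [m, e] at hn
      have : z = 4 * n - 3 := Int.cast_injective (α := ℂ) (by push_cast at hn ⊢; linear_combination hn)
      omega
    obtain ⟨s, E⟩ := eqR (x := 1) (y := 1) (z := 1) (w := 1) F hl l1 e d1 d2 d3 d4 (by simp [vt F.h1 g1])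
      (by simp [vt F.h2 g2]) (by simp [vt F.h3 g3]) (by simp [vt F.h4 g4])
    have := c.pf1.1
    rw [← n1, k1] at this E
    exact fin 15 (ar5 (by exact_mod_cast Nat.pos_of_ne_zero index_ne_zero_of_finite) (by rw [sq]; exact_mod_cast this)
      ⟨md F.h1 g1 d1, o1.2⟩ ⟨md F.h2 g2 d2, o2.2⟩ ⟨md F.h3 g3 d3, o3.2⟩ ⟨md F.h4 g4 d4, o4.2⟩ s
      (by push_cast at E ⊢; linear_combination E))
  · obtain ⟨β, k⟩ := Finset.card_eq_one.1 k
    obtain ⟨a, q1, q2⟩ := (h.val_O hl l1 F.h1 g1).2 β (Finset.mem_of_mem_erase (k ▸ Finset.mem_singleton_self β))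
    have := vt F.h1 g1
    rw [k, Finset.sum_singleton, q1] at this
    obtain ⟨x, hx⟩ := par_t c.tt F.h1.virt (b := 1 + a) d1 (by simpa using this)
    obtain ⟨y, hy⟩ := o1.1
    omega
  · obtain ⟨β, β', ne, k⟩ := Finset.card_eq_two.1 k
    have m1 : β ∈ (c.Orb l).erase l := by simp [k]
    have m2 : β' ∈ (c.Orb l).erase l := by simp [k]
    simp only [k, Finset.sum_pair ne] at vt
    have b1 := (sub β m1).1
    have b2 := (sub β' m2).1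
    obtain ⟨e1, q1, r1⟩ := (h.val_O hl l1 F.h1 g1).2 β (Finset.mem_of_mem_erase m1)
    obtain ⟨e2, q2, r2⟩ := (h.val_O hl l1 F.h2 g2).2 β (Finset.mem_of_mem_erase m1)
    obtain ⟨e3, q3, r3⟩ := (h.val_O hl l1 F.h3 g3).2 β (Finset.mem_of_mem_erase m1)
    obtain ⟨e4, q4, r4⟩ := (h.val_O hl l1 F.h4 g4).2 β (Finset.mem_of_mem_erase m1)
    obtain ⟨f1, s1, t1⟩ := (h.val_O hl l1 F.h1 g1).2 β' (Finset.mem_of_mem_erase m2)
    obtain ⟨f2, s2, t2⟩ := (h.val_O hl l1 F.h2 g2).2 β' (Finset.mem_of_mem_erase m2)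
    obtain ⟨f3, s3, t3⟩ := (h.val_O hl l1 F.h3 g3).2 β' (Finset.mem_of_mem_erase m2)
    obtain ⟨f4, s4, t4⟩ := (h.val_O hl l1 F.h4 g4).2 β' (Finset.mem_of_mem_erase m2)
    obtain ⟨s, E⟩ := eqR (x := 1 + e1 + f1) (y := 1 + e2 + f2) (z := 1 + e3 + f3) (w := 1 + e4 + f4) F hl l1 e
      d1 d2 d3 d4 (by simp [vt F.h1 g1, q1, s1, add_assoc]) (by simp [vt F.h2 g2, q2, s2, add_assoc])
      (by simp [vt F.h3 g3, q3, s3, add_assoc]) (by simp [vt F.h4 g4, q4, s4, add_assoc])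
    rw [← n1, k1] at E
    have u1 := F.span (gam4 b1) q1 q2 q3 q4 r1 r2 r3 r4
    have u2 := F.span (gam4 b2) s1 s2 s3 s4 t1 t2 t3 t4
    have y1 := gam_gam hl b1
    have y2 := gam_gam hl b2
    have y3 := gam_gam b1 b2
    have y4 := gam_one b1
    have y5 := gam_one b2
    rw [if_neg (Finset.mem_erase.1 m1).1.symm, e, ci_add_left, ci_add_left, ci_add_left, q1, q2, q3, q4] at y1
    rw [if_neg (Finset.mem_erase.1 m2).1.symm, e, ci_add_left, ci_add_left, ci_add_left, s1, s2, s3, s4] at y2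
    rw [if_neg ne, u1] at y3
    simp only [ci_add_left, ci_smul_left, s1, s2, s3, s4] at y3
    rw [u1] at y4
    rw [u2] at y5
    simp only [Pi.add_apply, Pi.smul_apply, smul_eq_mul, d1, d2, d3, d4] at y4 y5
    exact fin _ (ar6 (by obtain ⟨y, hy⟩ := o1.1; omega) r1 r2 r3 r4 t1 t2 t3 t4 (by exact_mod_cast y1)
      (by exact_mod_cast y2) (by exact_mod_cast y3) s (by exact_mod_cast y4) (by exact_mod_cast y5)
      (by push_cast at E ⊢; linear_combination E))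

end TC

end Su

end Cfsg.Agent.GW.Ch

namespace Cfsg.Agent.GW

open Cfsg Subgroup Cfsg.Agent.GT Cfsg.Agent.Cls

universe u

variable {G : Type u} [Group G] [Finite G] {S A I : Subgroup G} {t : G}

theorem St.thmC [IsSimpleGroup G] (h : St S A t) (hA : A ≤ C[O[C1[t]]]) (hI : I ≤ O[C1[t]])
    (hI1 : I ≠ ⊥) (hn : C1[t] ≤ N[I]) (inv : ∀ s ∈ S, s ∉ A → ∀ y ∈ I, s * y * s⁻¹ = y⁻¹)
    (hU : I ⊔ (O[C1[t]] ⊓ C[S]) = O[C1[t]]) (hc : (C1[t].index).Coprime (Nat.card I)) :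
    O[C1[t]] ⊓ C[S] = ⊥ := by
  have := Fintype.ofFinite G
  obtain ⟨v, hv, hvA⟩ := h.dih.ex
  obtain ⟨σ, hσ⟩ := (Subgroup.isCyclic_iff_exists_zpowers_eq_top A).1 h.dih.cyc
  exact Ch.Su.TC.thm (c := ⟨S, A, t, v, σ, h, hv, hvA, hσ⟩) ⟨hA, hI, hn, inv, hU⟩ hI1 hc

end Cfsg.Agent.GW
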