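import Cfsg.Agent.GW.D1

/-! Bender's lemma on maximal subgroups. -/

set_option autoImplicit false
set_option linter.unusedSectionVars false
set_option linter.unusedVariables false

namespace Cfsg.Agent.GW

open Cfsg Subgroup Cfsg.Agent.GT Cfsg.Agent.Cls
open scoped commutatorElement

universe u

variable {G : Type u} [Group G] [Finite G] {p q a b : ℕ} {A B E F H L M P R S X Y Z : Subgroup G}
  {x y : G}

theorem norm_eq_of_coatom [IsSimpleGroup G] (hM : IsCoatom M) (h1 : Z ≠ ⊥) (h2 : Z ≤ M)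
    (h3 : M ≤ N[Z]) : N[Z] = M :=
  ((hM.le_iff.1 h3).resolve_left (Cl.normalizer_ne_top_of_simple h1 fun e =>
    hM.1 (top_le_iff.1 (e ▸ h2))))

theorem norm_ne_top [IsSimpleGroup G] (h1 : Z ≠ ⊥) (h2 : Group.IsSolvable Z)
    (hG : ¬ IsMulCommutative G) : N[Z] ≠ ⊤ :=
  Cl.normalizer_ne_top_of_simple h1 fun e => hG (by
    subst e
    exact ⟨⟨IsSimpleGroup.comm_iff_isSolvable.2 (isSolvable_top_iff.1 h2)⟩⟩)

theorem cop_pq (hp : p.Prime) (hq : q.Prime) (hpq : p ≠ q) (hP : IsPGroup p P) (hQ : IsPGroup q R) :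
    (Nat.card P).Coprime (Nat.card R) :=
  (isPi_of_isPGroup hp hP).coprime (isPi_of_isPGroup_mem hq hQ (by simpa using hpq.symm))

/-- `A × B` in a nilpotent group. -/
theorem axb (hF : Group.IsNilpotent F) (hX : X ≤ F) (hXY : X ≤ Y) (h : F ⊓ C[X] ≤ Y)
    (hA : A ≤ N[F]) (hc : (Nat.card F).Coprime (Nat.card A)) (hAY : A ≤ C[F ⊓ Y]) : A ≤ C[F] :=
  thompson_AxB (B := X) (by rwa [sup_eq_left.2 hX]) hA (le_norm_self hX)
    (hAY.trans (cent_anti (le_inf hX hXY))) (by rwa [sup_eq_left.2 hX])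
    ((le_inf inf_le_left h).trans (le_cent_symm hAY))

theorem arrow (cM : Con M) (hX : X ≤ fittingOf M) (hXL : X ≤ L) (h : fittingOf M ⊓ C[X] ≤ L)
    (hx : x ∈ M) (hc : (Nat.card (fittingOf M)).Coprime (orderOf x))
    (hxc : fittingOf M ⊓ L ≤ C1[x]) : x = 1 := by
  have := axb (A := zpowers x) (fittingOf_nilpotent M) hX hXL h
    (zp_norm (self_le_norm_fittingOf M hx)) (by rwa [Nat.card_zpowers])
    (le_cent_symm (by rwa [cent_zpowers]))
  exact orderOf_eq_one_iff.1 (Nat.Coprime.eq_one_of_dvd hc.symm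
    (orderOf_dvd_card_of_mem (cM ⟨hx, this (mem_zpowers x)⟩)))

theorem nil_le_cent_Op (hp : p.Prime) (hX : X ≤ fittingOf M) (hπ : IsPiSubgroup {p}ᶜ X) :
    X ≤ C[piCoreOf {p} M] :=
  (le_piCoreOf_of_le_fittingOf hX hπ).trans piCoreOf_compl_le_cent

theorem arrow_p (hp : p.Prime) (hX : X ≤ fittingOf M) (hXL : X ≤ L) (h : fittingOf M ⊓ C[X] ≤ L) :
    piCoreOf {p} M ⊓ C[piCoreOf {p} M ⊓ L] ≤ L := by
  refine le_trans (le_inf (inf_le_left.trans (piCoreOf_single_le_fittingOf hp)) ?_) h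
  rw [← nil_piCoreOf_sup_compl (nilpotent_of_le_fittingOf hX) {p}, cent_sup]
  refine le_inf (inf_le_right.trans (cent_anti (le_inf (le_piCoreOf_of_le_fittingOf
    ((piCoreOf_le _ _).trans hX) (piCoreOf_isPi _ _)) ((piCoreOf_le _ _).trans hXL)))) ?_
  exact inf_le_left.trans (le_cent_symm (nil_le_cent_Op hp ((piCoreOf_le _ _).trans hX)
    (piCoreOf_isPi _ _)))

/-- a `p'`-group centralizing `O_p(M) ∩ L` centralizes `O_p(M)`. -/
theorem arrow_axb (hp : p.Prime) (hX : X ≤ fittingOf M) (hXL : X ≤ L) (h : fittingOf M ⊓ C[X] ≤ L)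
    (hA : A ≤ M) (hπ : IsPiSubgroup {p}ᶜ A) (hc : A ≤ C[piCoreOf {p} M ⊓ L]) :
    A ≤ C[piCoreOf {p} M] :=
  axb (X := piCoreOf {p} M ⊓ L) (Y := L) (nilpotent_of_isPGroup hp (piCoreOf_isPGroup hp M))
    inf_le_left inf_le_right (arrow_p hp hX hXL h) (hA.trans (self_le_norm_piCoreOf _ _))
    ((piCoreOf_isPi _ _).coprime hπ) hc

theorem Op_cent (hp : p.Prime) (hq : q.Prime) (hpq : p ≠ q) :
    piCoreOf {p} M ≤ C[piCoreOf {q} M] :=
  piCoreOf_le_cent_of_disjoint fun r _ h1 h2 => hpq (h1.symm.trans h2)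

theorem ZOp_le (hp : p.Prime) : piCoreOf {p} M ⊓ C[piCoreOf {p} M] ≤ C[fittingOf M] :=
  fittingOf_le_cent_of_forall fun q hq => by
    by_cases e : p = q
    · subst e; exact inf_le_right
    · exact inf_le_left.trans (Op_cent hp hq e)

theorem ZOp_ne (hp : p.Prime) (h : piCoreOf {p} M ≠ ⊥) : piCoreOf {p} M ⊓ C[piCoreOf {p} M] ≠ ⊥ :=
  center_ne_bot_of_nilpotent (nilpotent_of_isPGroup hp (piCoreOf_isPGroup hp M)) h

theorem ZOp_norm : M ≤ N[piCoreOf {p} M ⊓ C[piCoreOf {p} M]] :=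
  le_norm_inf (self_le_norm_piCoreOf _ _) (le_norm_cent (self_le_norm_piCoreOf _ _))

theorem bender_core (cL : Con L)
    (h1 : ∀ a b, a.Prime → b.Prime → a ≠ b → piCoreOf {a} M ≤ C[piCoreOf {b} L])
    (h2 : ∀ a, a.Prime → piCoreOf {a} M ≤ L) (hq : q.Prime) (hy : y ∈ L)
    (hyq : PiNat {q} (orderOf y)) (h : ∀ a, a.Prime → a ≠ q → y ∈ C[piCoreOf {a} L])
    (ha : a.Prime) (haq : a ≠ q) : y ∈ C[piCoreOf {a} M] := by
  set Z := fittingOf L ⊓ C[fittingOf L] with hZ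
  have nZ : L ≤ N[Z] := le_norm_inf (self_le_norm_fittingOf L) (le_norm_cent (self_le_norm_fittingOf L))
  have hZn : Group.IsNilpotent Z := nilpotent_of_le_fittingOf inf_le_left
  have hD : ⁅piCoreOf {a} M, zpowers y⁆ ≤ C[fittingOf L] := fittingOf_le_cent_of_forall fun c hc => by
    by_cases e : c = q
    · rw [commutator_comm]
      exact commutator_le_cent_of_norm_of_cent (zp_norm (self_le_norm_piCoreOf _ _ hy))
        (h1 a c ha hc (e ▸ haq))
    · exact commutator_le_cent_of_norm_of_cent ((h2 a ha).trans (self_le_norm_piCoreOf _ _))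
        (zpowers_le.2 (h c hc e))
  have hD' : ⁅piCoreOf {a} M, zpowers y⁆ ≤ Z := le_inf (le_trans (le_inf
    ((commutator_mono (h2 a ha) (zpowers_le.2 hy)).trans (der1_le L)) hD) cL) hD
  have hR : Group.IsNilpotent ↥(piCoreOf {a} M ⊔ Z) := by
    rw [← nil_piCoreOf_sup_compl hZn {a}, ← sup_assoc]
    refine nilpotent_sup_of_le_cent (nilpotent_of_isPGroup ha ((piCoreOf_isPGroup ha _).to_sup_of_normal_right'
      (piCoreOf_isPGroup ha _) ((h2 a ha).trans (le_norm_piCoreOf nZ))))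
      (nil_of_le hZn (piCoreOf_le _ _)) (sup_le (le_cent_symm ?_) piCoreOf_le_cent_compl)
    refine nil_le_of_forall_piCoreOf_le (nil_of_le hZn (piCoreOf_le _ _)) fun c hc hd => ?_
    refine le_trans (le_piCoreOf_of_le_fittingOf ((piCoreOf_le _ _).trans ((piCoreOf_le _ _).trans
      inf_le_left)) (piCoreOf_isPi _ _)) (le_cent_symm (h1 a c ha hc fun e => ?_))
    exact piCoreOf_isPi {a}ᶜ Z c hc hd e.symm
  have hn : zpowers y ≤ N[piCoreOf {a} M ⊔ Z] :=
    le_norm_of_commutator_le (N := Z) (PG.commutator_sup_le ((h2 a ha).trans nZ) le_normalizer hD'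
      (commutator_le_of_le_norm_left ((zpowers_le.2 hy).trans nZ))) le_sup_right
  have h3 : ⁅piCoreOf {a} M, zpowers y⁆ ≤ piCoreOf {a} L :=
    le_piCoreOf_of_le_fittingOf (hD'.trans inf_le_left) ((piCoreOf_isPi {a} _).of_le
      ((commutator_mono (nil_le_piCoreOf hR le_sup_left (piCoreOf_isPi _ _)) le_rfl).trans
        (commutator_le_of_le_norm_left (le_norm_piCoreOf hn))))
  exact le_cent_symm (le_cent_of_commutator_le_of_coprime h3 (le_cent_symm (zpowers_le.2 (h a ha haq)))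
    ((piCoreOf_isPi {a} L).coprime (isPiSubgroup_zpowers_iff.2 (hyq.single_mono (by simpa using haq.symm)))))
    (mem_zpowers y)

theorem bender [IsSimpleGroup G] (hM : IsCoatom M) (hL : IsCoatom L) (cM : Con M) (cL : Con L)
    (hX : X ≤ fittingOf M) (hXL : X ≤ L) (h : fittingOf M ⊓ C[X] ≤ L)
    (hπ : ∀ q, q.Prime → piCoreOf {q} L ≠ ⊥ → piCoreOf {q} M ≠ ⊥) {q : ℕ} (hp : p.Prime)
    (hq : q.Prime) (hpq : p ≠ q) (h1 : piCoreOf {p} M ≠ ⊥) (h2 : piCoreOf {q} M ≠ ⊥) : M = L := by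
  have zL : ∀ b, b.Prime → piCoreOf {b} M ⊓ C[piCoreOf {b} M] ≤ L := fun b hb =>
    le_trans (le_inf (inf_le_left.trans (piCoreOf_single_le_fittingOf hb))
      ((ZOp_le hb).trans (cent_anti hX))) h
  have zM : ∀ b, b.Prime → piCoreOf {b} M ≠ ⊥ → C[piCoreOf {b} M ⊓ C[piCoreOf {b} M]] ≤ M :=
    fun b hb h0 => (cent_le_norm _).trans (norm_eq_of_coatom hM (ZOp_ne hb h0)
      (inf_le_left.trans (piCoreOf_le _ _)) ZOp_norm).le
  have s1 : ∀ a b, a.Prime → b.Prime → a ≠ b → piCoreOf {a} M ⊓ L ≤ C[piCoreOf {b} L] :=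
    fun a b ha hb hab => by
      by_cases h0 : piCoreOf {b} L = ⊥
      · simp [h0]
      have c1 : piCoreOf {a} M ⊓ L ≤ C[piCoreOf {b} M ⊓ C[piCoreOf {b} M]] :=
        inf_le_left.trans ((Op_cent ha hb hab).trans (cent_anti inf_le_left))
      refine thompson_AxB_pgroup hb (piCoreOf_isPGroup hb L) ((piCoreOf_isPGroup hb M).to_le inf_le_left)
        ((piCoreOf_isPi {a} M).inf_left.single_mono (by simpa using hab))
        (inf_le_right.trans (self_le_norm_piCoreOf _ _)) ((zL b hb).trans (self_le_norm_piCoreOf _ _))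
        c1 (le_cent_of_norm_of_coprime (le_norm_inf ((inf_le_right.trans (zM b hb (hπ b hb h0))).trans
          (self_le_norm_piCoreOf _ _)) (le_norm_self (inf_le_left.trans (piCoreOf_le _ _))))
          (le_norm_inf (inf_le_right.trans (self_le_norm_piCoreOf _ _)) (le_norm_cent (le_norm_of_cent c1)))
          (cop_pq hb ha hab.symm ((piCoreOf_isPGroup hb L).to_le inf_le_left)
            ((piCoreOf_isPGroup ha M).to_le inf_le_left)))
  have s2 : ∀ b, b.Prime → piCoreOf {b} M ≠ ⊥ → piCoreOf {b} L ≠ ⊥ := fun b hb h0 e =>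
    ZOp_ne hb h0 (eq_bot_iff.2 (e ▸ le_piCoreOf_of_le_fittingOf (le_trans (le_inf (zL b hb)
      (fittingOf_le_cent_of_forall fun c hc => by
        by_cases e' : b = c
        · simp [← e', e]
        · exact (le_inf inf_le_left (zL b hb)).trans (s1 b c hb hc e'))) cL)
      (piCoreOf_isPi {b} M).inf_left))
  have ex : ∀ b : ℕ, ∃ a, a.Prime ∧ a ≠ b ∧ piCoreOf {a} M ≠ ⊥ := fun b => by
    by_cases e : p = b
    · exact ⟨q, hq, e ▸ hpq.symm, h2⟩
    · exact ⟨p, hp, e, h1⟩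
  have s3 : ∀ b, b.Prime → piCoreOf {b} L ≤ M := fun b hb => by
    obtain ⟨a, ha, hab, h0⟩ := ex b
    exact (le_cent_symm ((le_inf inf_le_left (zL a ha)).trans (s1 a b ha hb hab))).trans (zM a ha h0)
  have s4 : ∀ a b, a.Prime → b.Prime → a ≠ b → piCoreOf {a} M ≤ C[piCoreOf {b} L] :=
    fun a b ha hb hab => le_cent_symm (arrow_axb ha hX hXL h (s3 b hb)
      ((piCoreOf_isPi {b} L).single_mono (by simpa using hab.symm)) (le_cent_symm (s1 a b ha hb hab)))
  have nM := norm_eq_of_coatom hM h1 (piCoreOf_le _ _) (self_le_norm_piCoreOf _ _)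
  have nL : ∀ b, b.Prime → piCoreOf {b} M ≠ ⊥ → N[piCoreOf {b} L] = L := fun b hb h0 =>
    norm_eq_of_coatom hL (s2 b hb h0) (piCoreOf_le _ _) (self_le_norm_piCoreOf _ _)
  have s5 : ∀ a, a.Prime → piCoreOf {a} M ≤ L := fun a ha => by
    obtain ⟨b, hb, hab, h0⟩ := ex a
    exact (s4 a b ha hb hab.symm).trans ((cent_le_norm _).trans (nL b hb h0).le)
  let T : Subgroup G → Set G := fun M =>
    {y | y ∈ M ∧ PiNat {q} (orderOf y) ∧ ∀ a, a.Prime → a ≠ q → y ∈ C[piCoreOf {a} M]}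
  have e : T M = T L := Set.Subset.antisymm
    (fun y hy => have k := fun a (ha : a.Prime) (haq : a ≠ q) => bender_core cM (fun a b ha hb hab =>
        le_cent_symm (s4 b a hb ha hab.symm)) s3 hq hy.1 hy.2.1 hy.2.2 ha haq
      ⟨(nL p hp h1).le (cent_le_norm _ (k p hp hpq)), hy.2.1, k⟩)
    (fun y hy => have k := fun a (ha : a.Prime) (haq : a ≠ q) =>
        bender_core cL s4 s5 hq hy.1 hy.2.1 hy.2.2 ha haq
      ⟨nM.le (cent_le_norm _ (k p hp hpq)), hy.2.1, k⟩)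
  have nT : ∀ M : Subgroup G, M ≤ N[closure (T M)] := fun M g hg =>
    mem_normalizer_of_conj_le (by
      rw [MonoidHom.map_closure]
      refine closure_mono ?_
      rintro _ ⟨y, hy, rfl⟩
      exact ⟨conj_mem_of_mem_norm (le_normalizer hg) hy.1, by
        simpa [orderOf_conj] using hy.2.1, fun a ha haq => conj_mem_of_le_norm
        (le_norm_cent (self_le_norm_piCoreOf _ _)) hg (hy.2.2 a ha haq)⟩)
  have lT : ∀ M : Subgroup G, closure (T M) ≤ M := fun M => (closure_le _).2 fun y hy => hy.1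
  have t1 : closure (T M) ≠ ⊥ := ne_bot_of_le h2 fun y hy => subset_closure
    ⟨piCoreOf_le _ _ hy, (piCoreOf_isPi {q} M).orderOf hy, fun a ha haq => Op_cent hq ha haq.symm hy⟩
  rw [← norm_eq_of_coatom hM t1 (lT M) (nT M), e,
    norm_eq_of_coatom hL (e ▸ t1) (lT L) (nT L)]

end Cfsg.Agent.GW
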