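import Cfsg.Agent.GW.D2

/-! Structure of proper subgroups. -/

set_option autoImplicit false
set_option linter.unusedSectionVars false
set_option linter.unusedVariables false

namespace Cfsg.Agent.GW

open Cfsg Subgroup Cfsg.Agent.GT Cfsg.Agent.Cls MulAction
open scoped commutatorElement

universe u

/-- statement of part P. -/
def PP : Prop := ∀ (G : Type u) [Group G] [Finite G], DG G → ∀ (K : Subgroup G) [K.Normal],
  C[K] = ⊥ → ∀ (F : Type) [Field F] [Fintype F], Odd (Fintype.card F) → 3 < Fintype.card F →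
  (K ≃* Matrix.ProjectiveSpecialLinearGroup (Fin 2) F) → ∃ n r, LT K n r

variable {G : Type u} [Group G] [Finite G] {p q : ℕ} {A B D E F H K L M N P R S U W X Y Z : Subgroup G}
  {t u v x y z : G}

theorem four_dvd_moved' (hG : commutator G = ⊤) {X : Type*} [Finite X]
    [MulAction G X] {c : G} (hc : c ^ 2 = 1) : 4 ∣ {y : X | c • y ≠ y}.ncard := by
  classical
  have := Fintype.ofFinite X
  have h1 : Equiv.Perm.sign (toPerm c : Equiv.Perm X) = 1 :=
    Abelianization.commutator_subset_ker (Equiv.Perm.sign.comp (toPermHom G X)) (hG ▸ mem_top c)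
  have h2 : (toPerm c : Equiv.Perm X) ^ 2 = 1 := by
    change (toPermHom G X c) ^ 2 = 1
    rw [← map_pow, hc, map_one]
  rw [Equiv.Perm.sign_of_pow_two_eq_one h2] at h1
  have h3 : Fintype.card X - Fintype.card (Function.fixedPoints (toPerm c : Equiv.Perm X)) =
      {y : X | c • y ≠ y}.ncard := by
    rw [← Nat.card_eq_fintype_card, ← Nat.card_eq_fintype_card, Nat.card_coe_set_eq,
      ← Set.ncard_compl]
    rfl
  rw [h3] at h1
  have h4 : Even ({y : X | c • y ≠ y}.ncard / 2) := by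
    by_contra h
    rw [(Nat.not_even_iff_odd.1 h).neg_one_pow] at h1
    exact absurd h1 (by decide)
  have h5 : 2 ∣ {y : X | c • y ≠ y}.ncard := by
    by_cases hc1 : c = 1
    · simp [hc1]
    have : Fact (Nat.Prime 2) := ⟨Nat.prime_two⟩
    have ho : orderOf c = 2 := orderOf_eq_prime hc hc1
    rw [← ho, ← Nat.card_zpowers]
    refine Cl.card_dvd_ncard_of_free _ ?_ ?_
    · rintro ⟨h, k, rfl⟩ x hx hy
      apply hx
      change c • c ^ k • x = c ^ k • x at hy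
      rw [← mul_smul, (Commute.refl c).zpow_right k |>.eq, mul_smul] at hy
      exact smul_left_cancel _ hy
    · rintro ⟨h, hh⟩ x hx hy
      rw [mem_zpowers_iff_mem_range_orderOf, ho] at hh
      obtain ⟨k, hk, rfl⟩ := Finset.mem_image.1 hh
      have : k = 0 ∨ k = 1 := by simp at hk; omega
      rcases this with rfl | rfl
      · simp
      · exact absurd (by simpa using hy) hx
  obtain ⟨a, ha⟩ := h5
  obtain ⟨b, hb⟩ := h4
  exact ⟨b, by omega⟩

theorem thompson' (hG : commutator G = ⊤)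
    (hS : IsPiHallOf {2} S ⊤) (hA : A ≤ S) (hc : Nat.card S = 2 * Nat.card A) {u : G}
    (hu : u * u = 1) : ∃ g : G, g⁻¹ * u * g ∈ A := by
  by_contra hno
  push Not at hno
  have h1 := four_dvd_moved' hG (X := G ⧸ A) (c := u) (by rwa [pow_two])
  have h2 : {y : G ⧸ A | u • y ≠ y} = Set.univ := Set.eq_univ_of_forall fun y e => by
    obtain ⟨g, rfl⟩ := QuotientGroup.mk_surjective y
    have h3 : ((u * g : G) : G ⧸ A) = g := e
    exact hno g (by simpa [mul_assoc] using QuotientGroup.eq.1 h3.symm)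
  rw [h2, Set.ncard_univ, ← index, ← relIndex_mul_index hA] at h1
  have h3 := card_mul_relIndex hA
  rw [hc, mul_comm] at h3
  rw [Nat.eq_of_mul_eq_mul_right (card_pos' A) h3] at h1
  have h4 := syl_not_dvd Nat.prime_two hS
  rw [relIndex_top_right] at h4
  omega

theorem eq_bot_of_perf (h : ⁅D, D⁆ = D) (hs : Group.IsSolvable D) : D = ⊥ := by
  by_contra e
  exact (commutator_lt_of_solvable hs e).ne h

theorem perf_le (hE : E ≤ L) (hn : L ≤ N[E]) (hY : Y ≤ L) (hs : Group.IsSolvable Y)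
    (hD : D ≤ E ⊔ Y) (h : ⁅D, D⁆ = D) : D ≤ E := by
  obtain ⟨Q, _, _, f, -, hk⟩ := exists_quo' L E hE hn
  have hDL := hD.trans (sup_le hE hY)
  rw [← hk, ← im_eq_bot_iff hDL]
  refine eq_bot_of_perf (by rw [← im_commutator hDL hDL, h]) (solv_of_le (solvable_im (f := f) hs) ?_)
  rwa [im_le_im_iff hDL hY, hk, sup_comm]

theorem solv_of_der (h : Group.IsSolvable ↥⁅H, H⁆) : Group.IsSolvable H := by
  obtain ⟨Q, _, _, f, -, hk⟩ := exists_quo' H ⁅H, H⁆ (der1_le H) (self_le_norm_der1 H)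
  exact solvable_of_im (f := f) le_rfl (by rw [hk]; exact solv_of_le h inf_le_right)
    (solvable_of_comm ((comm_im_iff le_rfl).2 hk.ge))

theorem _root_.Cfsg.Agent.Cls.Dih.le_of_refl (h : Dih S A) (hN : ∀ s ∈ S, s ∉ A → s ∈ N) : S ≤ N :=
  fun a ha => by
    by_cases h1 : a ∈ A
    · obtain ⟨s, hs, hs'⟩ := h.ex
      have := mul_mem (hN _ (mul_mem ha hs) fun e => hs' (by simpa using mul_mem (inv_mem h1) e))
        (inv_mem (hN s hs hs'))
      rwa [mul_inv_cancel_right] at this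
    · exact hN a ha h1

theorem simple_of_perfect [Nontrivial G] (h : DG G) (hG : commutator G = ⊤)
    (hO : O[(⊤ : Subgroup G)] = ⊥) : IsSimpleGroup G := by
  obtain ⟨S, hS⟩ := exists_syl Nat.prime_two (⊤ : Subgroup G)
  have hp := syl_isPGroup Nat.prime_two hS
  rcases (h S hp).cases with hc | ⟨A, hA, h4⟩
  · exfalso
    have h1 := cyclic_pdiv_normal_complement Nat.prime_two hS hc fun q hq _ => hq.two_le
    rw [hO] at h1
    exact top_ne_bot (eq_bot_of_perf hG (h1.eq_right_iff.2 rfl ▸ solvable_of_isPGroup Nat.prime_two hp))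
  have : Fact (Nat.Prime 2) := ⟨Nat.prime_two⟩
  obtain ⟨t, ht, htc, h1, h2⟩ := PG.exists_mem_cent_orderOf_p hp hp le_normalizer (fun e => by
    rw [e, card_bot] at h4; omega)
  have ho : orderOf t = 2 := orderOf_eq_prime h2 h1
  obtain ⟨B, hB, htB⟩ := hA.exists_mem h4 ho ht (mem_cent_iff.1 htc)
  have one : ∀ u : G, orderOf u = 2 → ∃ g : G, g⁻¹ * u * g = t := fun u hu => by
    obtain ⟨g, hg⟩ := thompson' hG hS hB.le hB.card (sq1 hu)
    have h3 := ord2_conj hu g⁻¹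
    rw [inv_inv] at h3
    exact ⟨g, eq_of_sq_of_isCyclic hB.cyc hg htB (sq1 h3) (sq1 ho) (ne1 h3) h1⟩
  refine ⟨fun N hN => or_iff_not_imp_left.2 fun hN1 => ?_⟩
  obtain ⟨u, hu, hu2⟩ := exists_inv (H := N) (Nat.not_odd_iff_even.1 fun e =>
    hN1 (eq_bot_iff.2 (hO ▸ le_O le_top le_norm_of_normal e)))
  obtain ⟨g, hg⟩ := one u hu2
  have htN : t ∈ N := hg ▸ hN.conj_mem' u hu g
  have hSN : S ≤ N := hB.le_of_refl fun s hs hs' => by
    obtain ⟨k, hk⟩ := one s (hB.ord hs hs')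
    have := hN.conj_mem t htN k
    rwa [← hk, show k * (k⁻¹ * s * k) * k⁻¹ = s by group] at this
  obtain ⟨Q, _, _, f, -, hk⟩ := exists_quo' ⊤ N le_top le_norm_of_normal
  rw [eq_top_iff, ← hk, ← im_eq_bot_iff le_rfl]
  refine eq_bot_of_perf (by rw [← im_commutator le_rfl le_rfl]; exact congrArg _ hG) (solv_odd ?_)
  rw [card_im le_rfl, hk]
  exact odd_iff_piNat.1 (hS.idx_of_le hSN)

theorem T26.map (h : T26 (⊤ : Subgroup K)) : T26 K := fun z hz h2 M hM hne hc => by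
  have := h ⟨z, hz⟩ (mem_top _) (by rw [← orderOf_coe]; exact h2) (M.subgroupOf K) le_top
    (fun e => hne (le_antisymm hM (subgroupOf_eq_top.1 e))) (fun y hy =>
      hc ⟨y.2, mem_cent1.2 (congrArg Subtype.val (mem_cent1.1 hy.2))⟩)
  rwa [piCoreOf_subgroupOf hM] at this

theorem AT.map (h : AT (⊤ : Subgroup K)) : AT K := fun z hz h2 => by
  obtain ⟨a1, a2, ⟨v, -, b1, b2, b3, b4⟩, w, -, c1, c2, c3⟩ :=
    h ⟨z, hz⟩ (mem_top _) (by rw [← orderOf_coe]; exact h2)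
  have hi := K.subtype_injective
  have e : (⊤ ⊓ C1[(⟨z, hz⟩ : K)] : Subgroup K).map K.subtype = K ⊓ C1[z] := by
    rw [map_inf_cent1 hi, map_subtype_top]; rfl
  rw [← e, ← piCoreOf_map hi, card_map_inj hi, card_map_inj hi]
  exact ⟨a1, a2, ⟨v, v.2, by rw [orderOf_coe, b1], fun e => b2 (Subtype.ext e),
    congrArg Subtype.val b3, (map_mem_cent_map_iff hi).2 b4⟩, w, w.2, by rw [orderOf_coe, c1],
    congrArg Subtype.val c2, fun e => c3 ((map_mem_cent_map_iff hi).1 e)⟩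

section simple
variable [IsSimpleGroup K] (hG : DG G) (nc : ¬ IsMulCommutative K)
include hG nc

theorem sub_conj (hu : u ∈ K) (hv : v ∈ K) (h1 : orderOf u = 2) (h2 : orderOf v = 2) :
    ∃ g ∈ K, g * u * g⁻¹ = v := by
  obtain ⟨S, A, t, h⟩ := exists_st nc (hG.sub K)
  obtain ⟨a, ha⟩ := h.one ⟨u, hu⟩ (by rw [← orderOf_coe]; exact h1)
  obtain ⟨b, hb⟩ := h.one ⟨v, hv⟩ (by rw [← orderOf_coe]; exact h2)
  refine ⟨b * (a : G)⁻¹, mul_mem b.2 (inv_mem a.2), ?_⟩
  have ha' : (a : G) * t * (a : G)⁻¹ = u := congrArg Subtype.val ha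
  have hb' : (b : G) * t * (b : G)⁻¹ = v := congrArg Subtype.val hb
  rw [← ha', ← hb']; group

theorem sub_cyc3 (hu : u ∈ K) (hv : v ∈ K) (h1 : orderOf u = 2) (h2 : orderOf v = 2) (hvu : v ≠ u)
    (c : v * u = u * v) : ∃ g ∈ K, g * u * g⁻¹ = v ∧ g * v * g⁻¹ = u * v := by
  obtain ⟨S, A, t, h⟩ := exists_st nc (hG.sub K)
  obtain ⟨g, e1, e2⟩ := h.cyc3' (u := ⟨u, hu⟩) (v := ⟨v, hv⟩) (by rw [← orderOf_coe]; exact h1)
    (by rw [← orderOf_coe]; exact h2) (fun e => hvu (congrArg Subtype.val e)) (Subtype.ext c)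
  exact ⟨g, g.2, congrArg Subtype.val e1, congrArg Subtype.val e2⟩

theorem sub_four : ∃ u ∈ K, ∃ v ∈ K, orderOf u = 2 ∧ orderOf v = 2 ∧ v ≠ u ∧ v * u = u * v := by
  obtain ⟨S, A, t, h⟩ := exists_st nc (hG.sub K)
  obtain ⟨s, hs, hs'⟩ := h.dih.ex
  exact ⟨t, t.2, s, s.2, by rw [orderOf_coe, h.ord], by rw [orderOf_coe, h.refl_ord hs hs'],
    fun e => h.refl_ne hs' (Subtype.ext e), congrArg Subtype.val (h.comm hs)⟩

omit hG in
theorem sub_simple (hN : N ≤ K) (hn : K ≤ N[N]) : N = ⊥ ∨ N = K :=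
  ((normal_subgroupOf hn).eq_bot_or_eq_top).imp
    (fun e => by rw [← inf_eq_left.2 hN]; exact disjoint_iff.1 (subgroupOf_eq_bot.1 e))
    fun e => le_antisymm hN (subgroupOf_eq_top.1 e)

omit hG in
theorem sub_center : K ⊓ C[K] = ⊥ :=
  (sub_simple nc inf_le_left (le_norm_inf le_normalizer (norm_le_norm_cent K |>.trans' le_normalizer))).resolve_right
    fun e => nc (comm_iff_le_cent.2 (e.ge.trans inf_le_right))

omit hG in
theorem sub_perf : ⁅K, K⁆ = K :=
  (sub_simple nc (der1_le K) (self_le_norm_der1 K)).resolve_left fun e =>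
    nc (comm_iff_le_cent.2 (le_cent_iff_commutator_eq_bot.2 e))

end simple

theorem sq_cent_of_three (h : Nat.card U = 3) (hx : x ∈ N[U]) : x * x ∈ C[U] := by
  obtain ⟨u, hu, h3⟩ := exists_mem_orderOf_eq (H := U) Nat.prime_three (h ▸ dvd_rfl)
  have e := eq_zpowers_of_card_prime (h ▸ Nat.prime_three) hu (by rintro rfl; simp at h3)
  have h1 := conj_mem_of_mem_norm hx hu
  rw [e, cent_zpowers, mem_cent1]
  classical
  rw [e, mem_zpowers_iff_mem_range_orderOf, h3] at h1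
  obtain ⟨k, hk, e1⟩ := Finset.mem_image.1 h1
  have e2 : x * x * u * (x * x)⁻¹ = u ^ (k * k) := by
    rw [show x * x * u * (x * x)⁻¹ = x * (x * u * x⁻¹) * x⁻¹ by group, ← e1, ← conj_pow, ← e1, pow_mul]
  have : k = 0 ∨ k = 1 ∨ k = 2 := by simp at hk; omega
  rcases this with rfl | rfl | rfl
  · rw [pow_zero, eq_comm, conj_eq_one_iff] at e1
    rw [e1, orderOf_one] at h3; omega
  · rw [← mul_inv_eq_iff_eq_mul, e2]; simp
  · rw [← mul_inv_eq_iff_eq_mul, e2, show 2 * 2 = 3 + 1 by rfl, pow_succ, ← h3, pow_orderOf_eq_one,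
      one_mul]

theorem at_top [K.Normal] [IsSimpleGroup K] (hG : DG G) (nc : ¬ IsMulCommutative K) (hC : C[K] = ⊥)
    (h26 : T26 K) (h : AT K) : K = ⊤ := by
  have : Fact (Nat.Prime 2) := ⟨Nat.prime_two⟩
  obtain ⟨S, hS⟩ := exists_syl Nat.prime_two (⊤ : Subgroup G)
  have hp := syl_isPGroup Nat.prime_two hS
  have hSK := hS.inf_normal (K := K) le_top le_norm_of_normal
  obtain ⟨a, ha, -, -, a2, -⟩ := sub_four hG nc
  obtain ⟨z, hz, hzc, z1, z2⟩ := PG.exists_mem_cent_orderOf_p hp (hp.to_le inf_le_left : IsPGroup 2 ↥(S ⊓ K))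
    (le_norm_inf le_normalizer le_norm_of_normal)
    (hSK.ne_bot Nat.prime_two rfl (a2 ▸ orderOf_dvd_card_of_mem ha))
  have ho : orderOf z = 2 := orderOf_eq_prime z2 z1
  have hSz : S ≤ C1[z] := mem_cent_iff.1 hzc
  obtain ⟨c24, c3, ⟨v, hv, v2, vz, cv, vU⟩, w, hw, w2, cw, wU⟩ := h z hz.2 ho
  set H := K ⊓ C1[z] with hH
  set U := O[H] with hU
  have nH : C1[z] ≤ N[H] := le_norm_inf le_norm_of_normal le_normalizer
  have nU : C1[z] ≤ N[U] := le_norm_piCoreOf nH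
  have hSH : IsPiHallOf {2} (S ⊓ K) H := hSK.of_le (le_inf inf_le_right (inf_le_left.trans hSz)) inf_le_left
  have c8 : 8 ∣ Nat.card ↥(S ⊓ K) := hSH.dvd_card (piNat_single_pow Nat.prime_two 3) (by rw [c24]; norm_num)
  have hUH : IsPiHallOf ({2} : Set ℕ)ᶜ U H :=
    isPiHallOf_piCoreOf_of_le_of_hall (hG.hall_cent ho) inf_le_right
  have sup : U ⊔ (S ⊓ K) = H := by rw [sup_comm]; exact hSH.sup_eq hUH
  set V := zpowers z ⊔ zpowers v with hV
  have VH : V ≤ H := V_le ⟨hz.2, self_mem_cent1 z⟩ ⟨hv, mem_cent1.2 cv⟩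
  have zU : z ∈ C[U] := mem_cent_iff.2 ((O_le _).trans inf_le_right)
  have cV : Nat.card V = 4 := by
    rw [hV, sup_comm, PG.card_sup_zpowers Nat.prime_two (cent_le_norm _ (by
      rw [cent_zpowers]; exact mem_cent1.2 cv.symm)) (by rw [z2]; exact one_mem _) (fun e =>
        V_nc ho v2 vz (by rw [sup_eq_right.2 (zpowers_le.2 e)]; infer_instance)), Nat.card_zpowers, v2]
  have hUc : U ≤ C[U] := comm_iff_le_cent.1 (isMulCommutative_of_isCyclic
    (isCyclic_of_card_prime (c3 ▸ Nat.prime_three)))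
  have eW : U ⊔ V = H ⊓ C[U] := by
    have l1 : U ⊔ V ≤ H ⊓ C[U] := sup_le (le_inf (O_le _) hUc) (le_inf VH (V_le zU vU))
    have c12 : Nat.card ↥(U ⊔ V) = 12 := by
      rw [card_sup_of_inf_eq_bot (Or.inr (le_norm_of_cent (V_le zU vU)))
        (GT.inf_eq_bot_of_coprime (by rw [c3, cV]; norm_num)), c3, cV]
    exact ((PG.eq_or_eq_of_card_eq_mul Nat.prime_two l1 inf_le_left (by rw [c24, c12])).resolve_right
      fun e => wU (e.ge ⟨hw, mem_cent1.2 cw⟩).2).symm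
  have nV : S ≤ N[V] := by
    rw [← piCoreOf_sup_of_norm (π := {2}) (H := V) (K := U)
      (isPi_of_isPGroup Nat.prime_two (V_pg ho v2 cv)) (piCoreOf_isPi _ _)
      (le_norm_of_cent (le_cent_symm (V_le zU vU))), sup_comm, eW]
    exact le_norm_piCoreOf (hSz.trans (le_norm_inf nH (le_norm_cent nU)))
  have VS : V ≤ S := le_syl_of_norm Nat.prime_two hS (V_pg ho v2 cv) le_top nV
  have act : ∀ s ∈ S, s ∉ V → s * v * s⁻¹ = z * v := fun s hs hsV => by
    rcases (mem_V ho v2 cv).1 (conj_mem_of_le_norm nV hs (mem_sup_right (mem_zpowers v))) with e | e | e | e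
    · exact absurd (conj_eq_one_iff.1 e) (ne1 v2)
    · rw [mul_inv_eq_iff_eq_mul, ← mem_cent1.1 (hSz hs), mul_right_inj] at e
      exact absurd e vz
    · exact absurd ((mem_V ho v2 cv).2 (hG.cent_V ho v2 vz cv (hp.to_le (zpowers_le.2 hs)) (hSz hs)
        (mem_cent1.2 (mul_inv_eq_iff_eq_mul.1 e)))) hsV
    · exact e
  have SK : S ≤ K := by
    obtain ⟨s, hs, hsV⟩ : ∃ s ∈ S ⊓ K, s ∉ V := by
      by_contra! e
      have := Nat.le_of_dvd (by norm_num) (c8.trans (cV ▸ card_dvd_of_le e))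
      omega
    intro x hx
    by_cases hxV : x ∈ V
    · exact (VH hxV).1
    have e : s⁻¹ * x ∈ C1[v] := mem_cent1.2 (by
      rw [← mul_inv_eq_iff_eq_mul, show s⁻¹ * x * v * (s⁻¹ * x)⁻¹ = s⁻¹ * (x * v * x⁻¹) * s by group,
        act x hx hxV, ← act s hs.1 hsV]; group)
    have m := S.mul_mem (S.inv_mem hs.1) hx
    have := K.mul_mem hs.2 (VH ((mem_V ho v2 cv).2 (hG.cent_V ho v2 vz cv (hp.to_le (zpowers_le.2 m))
      (hSz m) e))).1
    rwa [mul_inv_cancel_left] at this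
  rw [inf_eq_left.2 SK] at sup hSH
  have sd := sdprod_piCoreOf_of_hall (hG.hall_cent ho) (syl_of_le hS hSz le_top)
  have UD : U ≤ O[C1[z]] := hG.le_O ho ((O_le _).trans inf_le_right) (O_odd _)
  have eD : U ⊔ (O[C1[z]] ⊓ C[S]) = O[C1[z]] :=
    coprime_sup_cent_of_commutator_le (Or.inl (O_solv _)) (hSz.trans nU) (cop2' (O_odd _) hp) UD
      (hUH.le_of_normal (O_norm _) (le_inf ((commutator_mono le_top SK).trans
        (commutator_le_of_le_norm_right le_norm_of_normal)) ((commutator_le_of_le_norm_left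
          (hSz.trans (O_norm _))).trans (O_le _))) ((piCoreOf_isPi _ _).of_le
          (commutator_le_of_le_norm_left (hSz.trans (O_norm _)))))
  obtain ⟨y, hy, y2, yz, yU⟩ : ∃ y ∈ S, orderOf y = 2 ∧ y ≠ z ∧ y ∉ C[U] := by
    by_contra! e
    refine wU ((sup.ge.trans (sup_le hUc ?_)) ⟨hw, mem_cent1.2 cw⟩)
    rcases (hG S hp).cases with hc | ⟨A, hA, -⟩
    · exact absurd (cyc_of_le hc VS) (V_nc ho v2 vz)
    · exact hA.le_of_refl fun s hs hs' => by
        by_cases e' : s = z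
        · exact e' ▸ zU
        · exact e s hs (hA.ord hs hs') e'
  have cy := mem_cent1.1 (hSz hy)
  obtain ⟨g, hg, g1, g2⟩ := sub_cyc3 hG nc hz.2 (SK hy) ho y2 yz cy
  have hD : O[C1[z]] ⊓ C[S] = ⊥ := eq_bot_iff.2 fun d hd => by
    have od := odd_ord (O_odd _) hd.1
    have dU : d ∈ C[U] := PG.mem_of_sq_mem_of_odd od (sq_cent_of_three c3 (nU (O_le _ hd.1)))
    have dH : H ≤ C1[d] := sup.ge.trans (sup_le (mem_cent_iff.1 dU) (mem_cent_iff.1 hd.2))
    by_contra d1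
    have hM := h26 z hz.2 ho (K ⊓ C1[d]) inf_le_left (fun e => d1 (by
      rw [← hC]; exact mem_cent_iff.2 (e.ge.trans inf_le_right))) (le_inf inf_le_left dH)
    have dz : d * z = z * d := mem_cent1.1 (O_le _ hd.1)
    have dy : d * y = y * d := mem_cent1.1 (cent_le_cent1 hy hd.2)
    have cK : ⁅g⁻¹, d⁆ ∈ K := by
      rw [commutatorElement_def, mul_assoc, mul_assoc, ← mul_assoc d]
      exact mul_mem (inv_mem hg) (‹K.Normal›.conj_mem _ (inv_mem (inv_mem hg)) d)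
    have key : ∀ a b : G, g * a * g⁻¹ = b → d * a = a * d → d * b = b * d → ⁅g⁻¹, d⁆ ∈ C1[a] :=
      fun a b e1 e2 e3 => mem_cent1.2 (by
        rw [commutatorElement_def, inv_inv, show g⁻¹ * d * g * d⁻¹ * a = g⁻¹ * d * g * (d⁻¹ * (a * d)) * d⁻¹ by group,
          ← e2, show g⁻¹ * d * g * (d⁻¹ * (d * a)) * d⁻¹ = g⁻¹ * (d * (g * a * g⁻¹)) * g * d⁻¹ by group, e1, e3,
          ← e1]; group)
    have c1 := key z y g1 dz dy
    have c2 := key y (z * y) g2 dy (by rw [← mul_assoc, dz, mul_assoc, dy, mul_assoc])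
    have cH : ⁅g⁻¹, d⁆ ∈ H := ⟨cK, c1⟩
    have oc : Odd (orderOf ⁅g⁻¹, d⁆) := od.of_dvd_nat (orderOf_dvd_of_pow_eq_one (by
      rw [← commutatorElement_pow_right_of_commute (mem_cent1.1 (dH cH)), pow_orderOf_eq_one]; simp))
    have cU := hUH.mem_of_normal (O_norm _) cH (odd_iff_piNat.2 oc)
    have c0 : ⁅g⁻¹, d⁆ = 1 := by
      by_contra e
      rw [cent_eq_cent1_of_card_prime (c3 ▸ Nat.prime_three) cU e] at yU
      exact yU (mem_cent1_comm.1 c2)
    have gM : g ∈ K ⊓ C1[d] := ⟨hg, by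
      simpa using inv_mem (mem_cent1.2 (commutatorElement_eq_one_iff_mul_comm.1 c0))⟩
    have yM := conj_mem_of_le_norm (self_le_norm_piCoreOf _ _) gM hM
    rw [g1] at yM
    refine yU (mem_cent_iff.2 (comm_eq_bot_iff.1 (eq_bot_of_le_of_coprime
      (commutator_le_of_le_norm_left (zp_norm (nU (hSz hy))))
      ((commutator_mono le_rfl (zpowers_le.2 yM)).trans (commutator_le_of_le_norm_right
        (((O_le _).trans (le_inf inf_le_left dH)).trans (self_le_norm_piCoreOf _ _))))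
      ((piCoreOf_isPi _ _).coprime' (piCoreOf_isPi _ _)))))
  rw [hD, sup_bot_eq] at eD
  refine eq_top_iff.2 fun x _ => ?_
  obtain ⟨k, hk, e⟩ := sub_conj hG nc hz.2 (‹K.Normal›.conj_mem z hz.2 x) ho (ord2_conj ho x)
  have : k⁻¹ * x ∈ C1[z] := mem_cent1.2 (by
    rw [show k⁻¹ * x * z = k⁻¹ * (x * z * x⁻¹) * x by group, ← e]; group)
  have := mul_mem hk ((sd.sup_eq.ge.trans (sup_le (eD.ge.trans ((O_le _).trans inf_le_left)) SK)) this)
  rwa [mul_inv_cancel_left] at this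

theorem exists_sec' (pp : PP.{u}) (hG : DG G) (ih : IH.{u} (Nat.card G)) (hL : L ≠ ⊤)
    (hs : ¬ Group.IsSolvable L) :
    ∃ (X : Type u) (_ : Group X) (_ : Finite X) (f : L →* X) (K : Subgroup X), Sec L f K := by
  obtain ⟨X, _, _, f, hf, hk⟩ := exists_quo' L O[L] (O_le _) (O_norm _)
  have hX := hG.of_surj hf
  have hO : O[(⊤ : Subgroup X)] = ⊥ := im_dom_of_surj hf ▸ piCoreOf_im_eq_bot le_rfl hk
  obtain ⟨K, ⟨hn, hK⟩, -, hmin⟩ := exists_minimal_le
    (S := {N : Subgroup X | ⊤ ≤ N[N] ∧ ¬ Group.IsSolvable N}) (H := ⊤) ⟨le_normalizer, fun e =>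
      hs (solvable_of_im (f := f) le_rfl (by rw [hk]; exact solv_of_le (O_solv _) inf_le_right)
        (solv_of_le e le_top))⟩
  have per := hmin ⁅K, K⁆ ⟨le_norm_commutator hn hn, fun e => hK (solv_of_der e)⟩ (der1_le K)
  have := normal_iff_top_le_norm.2 hn
  have : Nontrivial K := (nontrivial_iff_ne_bot K).2 fun e => hK (e ▸ inferInstance)
  have : IsSimpleGroup K := simple_of_perfect (hX.sub K) (map_injective K.subtype_injective (by
    rw [map_subtype_commutator', per, map_subtype_top])) (by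
    rw [← map_eq_bot_inj K.subtype_injective, piCoreOf_map K.subtype_injective, map_subtype_top]
    exact piCoreOf_eq_bot_of_normal le_top hn hO)
  have nc : ¬ IsMulCommutative K := fun e => hK (solvable_of_comm e)
  have hC : C[K] = ⊥ := by
    refine eq_bot_iff.2 (hO ▸ le_O le_top (le_norm_cent hn) (Nat.not_even_iff_odd.1 fun e => ?_))
    obtain ⟨c, hc, c2⟩ := exists_inv e
    obtain ⟨a, ha, b, hb, a2, b2, ba, cab⟩ := sub_four hX nc
    have : c ∈ K ⊓ C[K] := ⟨V_le ha hb ((mem_V a2 b2 cab).2 (hX.cent_V a2 b2 ba cab (pg2 c2)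
      (cent_le_cent1 ha hc) (cent_le_cent1 hb hc))), hc⟩
    rw [sub_center nc] at this
    exact ne1 c2 this
  obtain ⟨h26, hty⟩ := ih K nc (hX.sub K) (lt_of_le_of_lt ((card_le_card_group K).trans
    (Nat.card_le_card_of_surjective f hf)) (card_lt_of_ne_top hL))
  refine ⟨X, _, ‹_›, f, K, hf, hk, hX, ‹_›, hC, ‹_›, nc, h26.map, ?_⟩
  rcases hty with ⟨F, _, _, h1, h2, ⟨e⟩⟩ | ⟨h1, -⟩
  · exact Or.inl (pp X hX K hC F h1 h2 e)
  · exact Or.inr ⟨at_top hX nc hC h26.map h1.map, h1.map⟩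

theorem Sec.comm_le {X : Type u} [Group X] [Finite X] {f : L →* X} {K : Subgroup X} (h : Sec L f K)
    (A B : Subgroup X) : ⁅A, B⁆ ≤ K := by
  rcases h.ty with ⟨n, r, h⟩ | ⟨h, -⟩
  · exact (commutator_mono le_top le_top).trans h.comm
  · rw [h]; exact le_top

theorem exists_ET' (pp : PP.{u}) (hG : DG G) (ih : IH.{u} (Nat.card G)) (hL : L ≠ ⊤) (hc : ¬ Con L) :
    ∃ (X : Type u) (_ : Group X) (_ : Finite X) (f : L →* X) (K : Subgroup X) (E : Subgroup G),
      ET L E f K := by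
  obtain ⟨E, hE, -⟩ := TT.exists_cmp_le (TT.SN.of_norm inf_le_left (le_norm_inf le_normalizer
    (le_norm_cent (self_le_norm_fittingOf L)))) inf_le_right hc
  obtain ⟨X, _, _, f, K, h⟩ := exists_sec' pp hG ih hL fun e => hE.not_le_of_solvable e hE.le
  have := h.nrm
  have := h.simple
  have h1 : im f E ≠ ⊥ := fun e => hE.not_le_of_solvable (O_solv L) (h.ker ▸ (im_eq_bot_iff hE.le).1 e)
  have h2 : TT.Cmp (E.subgroupOf L) ⊤ := (TT.cmp_map_iff L.subtype_injective).1 (by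
    rwa [map_subtype_top, subgroupOf_map_subtype, inf_eq_left.2 hE.le])
  have h3 : TT.Cmp (im f E) ⊤ := by
    have := h2.map f h1
    rwa [← MonoidHom.range_eq_map, MonoidHom.range_eq_top.2 h.surj] at this
  have h4 : TT.Cmp K ⊤ := ⟨⟨sub_perf h.nc, fun e => h.nc (comm_iff_le_cent.2 (e.le.trans bot_le)), fun N a b =>
    (sub_simple h.nc a b).imp_left fun e => e.le.trans bot_le⟩, TT.SN.of_normal K⟩
  have h5 : im f E = K := (h3.eq_or_cent h4).resolve_right fun e => h1 (eq_bot_iff.2 (h.cent ▸ e))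
  have h6 : E ≤ C[O[L]] := hE.le_cent_of_solvable (TT.SN.of_norm (O_le _) (O_norm _)) (O_solv _)
  have h7 : ∀ D : Subgroup G, D ≤ L → ⁅D, D⁆ = D → D ≤ E := fun D hD hp => by
    have a1 : D ≤ E ⊔ O[L] := by
      rw [← h.ker, ← im_le_im_iff hD hE.le, h5, ← hp, im_commutator hD hD]
      exact h.comm_le _ _
    exact perf_le le_sup_left (sup_le le_normalizer (le_norm_of_cent (le_cent_symm h6))) le_sup_right
      (O_solv L) a1 hp
  exact ⟨X, _, ‹_›, f, K, E, h, hE.le, fun g hg => mem_normalizer_of_conj_le (h7 _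
    (conj_le_of_mem hg hE.le) (by rw [← conj_commutator, hE.perf])), hE.perf, h5, h6, h7⟩

/-! ### Lemma K1 -/

theorem K1a (hG : DG G) (hO : O[(⊤ : Subgroup G)] = ⊥) (hs : Group.IsSolvable (⊤ : Subgroup G))
    (ht : orderOf t = 2) (hW : Odd (Nat.card W)) (hn : C1[t] ≤ N[W]) : W = ⊥ := by
  have : Fact (Nat.Prime 2) := ⟨Nat.prime_two⟩
  have hF := fittingOf_eq_piCoreOf Nat.prime_two hO
  have hQ := piCoreOf_isPGroup Nat.prime_two (⊤ : Subgroup G)
  have nQ : ∀ A : Subgroup G, A ≤ N[piCoreOf {2} (⊤ : Subgroup G)] := fun A =>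
    le_top.trans (self_le_norm_piCoreOf _ _)
  refine eq_bot_of_le_of_coprime le_rfl (hF ▸ le_fittingOf_of_le_cent hs le_top ?_) (cop2' hW hQ)
  rw [hF]
  by_cases h0 : piCoreOf {2} (⊤ : Subgroup G) = ⊥
  · simp [h0]
  obtain ⟨z, hz, hzc, z1, z2⟩ := PG.exists_mem_cent_orderOf_p (pg2 ht) hQ (nQ _) h0
  rw [cent_zpowers] at hzc
  refine hG.le_cent hQ (nQ _) hW (orderOf_eq_prime z2 z1) hz (comm_eq_bot_iff.1 ?_)
  exact eq_bot_of_le_of_coprime (commutator_le_of_le_norm_left (zp_norm (hn hzc)))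
    ((commutator_mono le_rfl (zpowers_le.2 hz)).trans (commutator_le_of_le_norm_right (nQ _)))
    (cop2' hW hQ)

theorem LT.two_le {n r : ℕ} (h : LT K n r) : 2 ≤ n := by
  have := h.ar; have := h.r3; omega

theorem LT.cop {n r : ℕ} (h : LT K n r) : n.Coprime r := by
  rcases h.ar with e | e
  · rw [e]; simp
  · rw [e]; simp

theorem LT.odd {n r : ℕ} (h : LT K n r) : Odd r := by
  have := h.even
  rcases h.ar with e | e
  · rw [e]; exact this.add_one
  · rw [e] at this; exact Nat.not_even_iff_odd.1 (Nat.even_add_one.1 this)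

theorem LT.card_cent {n r : ℕ} (h : LT K n r) (hz : orderOf z = 2) :
    (z ∈ K → Nat.card ↥(K ⊓ C1[z]) = 2 * n) ∧ (z ∉ K → Nat.card ↥(K ⊓ C1[z]) = 2 * r) := by
  obtain ⟨T, h1, h2, h3, -⟩ := h.tor z hz
  exact ⟨fun e => by rw [h1.card, (h2 e).2], fun e => by rw [h1.card, h3 e]⟩

/-- an odd subgroup of `K` normalized by `C_K(t)` and `t` centralizes `t`. -/
theorem LT.le_cent {n r : ℕ} (h : LT K n r) (ht : orderOf t = 2) (hY : Y ≤ K)
    (ho : Odd (Nat.card Y)) (hN : Group.IsNilpotent Y) (htY : t ∈ N[Y]) (hn : K ⊓ C1[t] ≤ N[Y]) :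
    Y ≤ C1[t] := by
  by_cases h0 : Y = ⊥
  · simp [h0]
  obtain ⟨T, h1, h2, -, -⟩ := h.tor t ht
  obtain ⟨s, hs, hsT⟩ := h1.ex
  have s2 := h1.ord hs hsT
  have st : s ≠ t := fun e => hsT (e ▸ (h2 (e ▸ hs.1)).1)
  have cs := mem_cent1.1 hs.2
  have nZ : N[Y] ≤ N[Y ⊓ C[Y]] := le_norm_inf le_rfl (norm_le_norm_cent _)
  obtain ⟨u, u2, hu⟩ : ∃ u, orderOf u = 2 ∧ Y ⊓ C[Y] ⊓ C1[u] ≠ ⊥ := by
    by_contra! e
    exact center_ne_bot_of_nilpotent hN h0 (eq_bot_iff.2 (gen3 ht s2 st cs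
      (odd_card_of_le ho inf_le_left) (nZ htY) (nZ (hn hs)) (e _ ht).le (e _ s2).le
      (e _ (ord2_mul ht s2 st cs)).le))
  obtain ⟨y, hy, y1⟩ := exists_ne_one_of_ne_bot hu
  have yy : y * y ≠ 1 := fun e => y1 (eq1_of_odd (odd_ord ho hy.1.1) e)
  obtain ⟨T', k1, -, -, k4⟩ := h.tor u u2
  have yT : y ∈ T' := by
    by_contra e
    exact yy (sq1 (k1.ord ⟨hY hy.1.1, hy.2⟩ e))
  obtain ⟨k5, k6⟩ := k4 y yT yy
  have l1 : Y ≤ T' := le_trans (le_inf hY (mem_cent_iff.1 hy.1.2)) k5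
  have l2 : K ⊓ C1[t] ≤ K ⊓ C1[u] := le_inf inf_le_left (le_trans (le_inf inf_le_left
    (hn.trans (PG.norm_le_norm_of_isCyclic (cyc_of_le k1.cyc l1) (zpowers_le.2 hy.1.1)))) k6)
  have l3 := card_dvd_of_le l2
  have c1 := h.card_cent ht
  have c2 := h.card_cent u2
  have l4 : Nat.card ↥(K ⊓ C1[u]) ≤ Nat.card ↥(K ⊓ C1[t]) := by
    have := h.two_le; have := h.r3
    by_cases a : t ∈ K <;> by_cases b : u ∈ K
    · rw [c1.1 a, c2.1 b]
    · rw [c1.1 a, c2.2 b] at l3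
      have := h.cop.eq_one_of_dvd (Nat.dvd_of_mul_dvd_mul_left two_pos l3); omega
    · rw [c1.2 a, c2.1 b] at l3
      have := h.cop.symm.eq_one_of_dvd (Nat.dvd_of_mul_dvd_mul_left two_pos l3); omega
    · rw [c1.2 a, c2.2 b]
  exact l1.trans (k1.le.trans ((eq_of_le_of_card_ge l2 l4).ge.trans inf_le_right))

theorem AT.four (h : AT (⊤ : Subgroup G)) (hG : DG G) (ht : orderOf t = 2) :
    ∃ v, orderOf v = 2 ∧ v ≠ t ∧ v * t = t * v ∧ O[C1[t]] ≤ C1[v] ∧ O[C1[v]] = O[C1[t]] ∧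
      O[C1[t * v]] = O[C1[t]] := by
  obtain ⟨-, c3, ⟨v, -, v2, vt, cv, vU⟩, -⟩ := h t (mem_top _) ht
  rw [top_inf_eq] at c3 vU
  have key : ∀ u, orderOf u = 2 → O[C1[t]] ≤ C1[u] → O[C1[u]] = O[C1[t]] := fun u hu hl =>
    (eq_of_le_of_card_ge (hG.le_O hu hl (O_odd _)) (by
      have := (h u (mem_top _) hu).2.1
      rw [top_inf_eq] at this
      rw [this, c3])).symm
  exact ⟨v, v2, vt, cv, mem_cent_iff.1 vU, key v v2 (mem_cent_iff.1 vU), key _ (ord2_mul ht v2 vt cv)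
    fun x hx => c1_mul (O_le _ hx) (mem_cent_iff.1 vU hx)⟩

theorem AT.le_cent (h : AT (⊤ : Subgroup G)) (hG : DG G) (ht : orderOf t = 2)
    (ho : Odd (Nat.card W)) (hn : C1[t] ≤ N[W]) : W ≤ C1[t] := by
  obtain ⟨v, v2, vt, cv, -, e1, e2⟩ := h.four hG ht
  exact gen3 ht v2 vt cv ho (hn (self_mem_cent1 t)) (hn (mem_cent1.2 cv)) inf_le_right
    ((hG.le_O v2 inf_le_right (odd_card_of_le ho inf_le_left)).trans (e1.le.trans (O_le _)))
    ((hG.le_O (ord2_mul ht v2 vt cv) inf_le_right (odd_card_of_le ho inf_le_left)).trans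
      (e2.le.trans (O_le _)))

theorem K1d (hp : p.Prime) (hH : Odd (Nat.card H)) (h0 : piCoreOf {p} H = ⊥) (t2 : t * t = 1)
    (ht : t ∈ N[H]) (hW : W ≤ H) (hWp : IsPGroup p W) (htW : t ∈ N[W]) (hn : H ⊓ C1[t] ≤ N[W]) :
    W ≤ C1[t] := fun w hw => by
  have ho := odd_card_of_le hH hW
  obtain ⟨c, hc, a, ha, e, rfl⟩ := dec2 t2 htW ho hw
  have haW := commutator_le_of_le_norm_left (zp_norm htW) ha
  have hF : IsPiSubgroup {p}ᶜ (fittingOf H) := (isPiSubgroup_single_compl_iff hp).2 fun e =>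
    piCoreOf_ne_bot_of_nil (π := {p}) (fittingOf_nilpotent H) hp rfl e (by
      rw [piCoreOf_single_fittingOf hp, h0])
  have cop := hF.coprime' (isPi_of_isPGroup hp hWp)
  have h1 := lem_inv (fittingOf_nilpotent H) (odd_card_of_le hH (fittingOf_le H)) t2
    (norm_le_norm_fittingOf H ht) (self_le_norm_fittingOf H (hW haW))
    (cop.coprime_dvd_right (orderOf_dvd_card_of_mem haW)) e (odd_ord ho haW)
    (le_trans (le_cent_iff_commutator_eq_bot.2 (eq_bot_of_le_of_coprime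
      ((commutator_mono inf_le_left le_rfl).trans (commutator_le_of_le_norm_left
        (hW.trans (self_le_norm_fittingOf H))))
      (commutator_le_of_le_norm_right ((inf_le_inf_right _ (fittingOf_le H)).trans hn)) cop))
      (cent_le_cent1 haW))
  have : a ∈ fittingOf H ⊓ W := ⟨inf_cent_fittingOf_le (solv_odd hH) ⟨hW haW, h1⟩, haW⟩
  rw [GT.inf_eq_bot_of_coprime cop, mem_bot] at this
  rw [this, mul_one]
  exact hc.2

theorem im_cent1 {X : Type u} [Group X] [Finite X] {f : L →* X} (hf : Function.Surjective f)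
    (hk : Odd (Nat.card (kr f))) (ht : orderOf t = 2) (htL : t ∈ L) :
    im f (L ⊓ C1[t]) = C1[f ⟨t, htL⟩] := by
  rw [im_inf_cent1_of_coprime le_rfl htL (le_normalizer htL) (by
    rw [ht]; exact Nat.coprime_two_right.2 (odd_card_of_le hk inf_le_right)), im_dom_of_surj hf,
    top_inf_eq]

theorem im_ord2 {X : Type u} [Group X] [Finite X] {f : L →* X}
    (hk : Odd (Nat.card (kr f))) (ht : orderOf t = 2) (htL : t ∈ L) : orderOf (f ⟨t, htL⟩) = 2 :=
  ord2 (by rw [← map_mul, ← map_one f]; exact congrArg f (Subtype.ext (sq1 ht))) fun e =>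
    ne1 ht (eq1_of_odd (odd_ord hk ((mem_kr' htL).2 e)) (sq1 ht))

theorem K1' (pp : PP.{u}) (hG : DG G) (ih : IH.{u} (Nat.card G)) (hL : L ≠ ⊤) (ht : orderOf t = 2)
    (htL : t ∈ L) (hp : p.Prime) (hp2 : p ≠ 2) (hW : IsPGroup p W) (hWL : W ≤ L)
    (hn : L ⊓ C1[t] ≤ N[W]) : ⁅W, zpowers t⁆ ≤ piCoreOf {p} L := by
  have ho := odd_p hp hp2 hW
  have tW : t ∈ N[W] := hn ⟨htL, self_mem_cent1 t⟩
  have tL := zpowers_le.2 htL
  have W1 : ⁅W, zpowers t⁆ ≤ W := commutator_le_of_le_norm_left (zp_norm tW)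
  have n1 : L ⊓ C1[t] ≤ N[⁅W, zpowers t⁆] := le_norm_commutator hn (le_norm_of_cent (by
    rw [cent_zpowers]; exact inf_le_right))
  have h1 : ⁅W, zpowers t⁆ ≤ O[L] := by
    have key : ∀ {X : Type u} [Group X] [Finite X] {f : L →* X}, kr f = O[L] →
        im f ⁅W, zpowers t⁆ ≤ C1[f ⟨t, htL⟩] → ⁅W, zpowers t⁆ ≤ O[L] := fun {X} _ _ f hk h => by
      rw [← comm_comm2 ht tW ho, ← hk, ← im_le_cent_iff (W1.trans hWL) tL, im_zpowers htL,
        cent_zpowers]
      exact h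
    by_cases hs : Group.IsSolvable L
    · obtain ⟨X, _, _, f, hf, hk⟩ := exists_quo' L O[L] (O_le _) (O_norm _)
      have ok : Odd (Nat.card (kr f)) := hk ▸ O_odd L
      refine key hk ((im_mono W1).trans (K1a (hG.of_surj hf) (im_dom_of_surj hf ▸
        piCoreOf_im_eq_bot le_rfl hk) (im_dom_of_surj hf ▸ solvable_im hs) (im_ord2 ok ht htL)
        (odd_im ho) (im_cent1 hf ok ht htL ▸ im_norm hn) ▸ bot_le))
    · obtain ⟨X, _, _, f, K, h⟩ := exists_sec' pp hG ih hL hs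
      have ok : Odd (Nat.card (kr f)) := h.ker ▸ O_odd L
      have n2 : C1[f ⟨t, htL⟩] ≤ N[im f ⁅W, zpowers t⁆] := im_cent1 h.surj ok ht htL ▸ im_norm n1
      have o1 : Odd (Nat.card (im f ⁅W, zpowers t⁆)) := odd_im (odd_card_of_le ho W1)
      refine key h.ker ?_
      rcases h.ty with ⟨n, r, h'⟩ | ⟨rfl, h'⟩
      · exact h'.le_cent (im_ord2 ok ht htL) (by rw [im_commutator hWL tL]; exact h.comm_le _ _) o1
          (nilpotent_im (nilpotent_of_isPGroup hp (hW.to_le W1))) (n2 (self_mem_cent1 _))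
          (inf_le_right.trans n2)
      · exact h'.le_cent h.dg (im_ord2 ok ht htL) o1 n2
  obtain ⟨Q, _, _, f, hf, hk⟩ := exists_quo' L (piCoreOf {p} L) (piCoreOf_le _ _)
    (self_le_norm_piCoreOf _ _)
  have m : f ⟨t, htL⟩ ∈ im f (zpowers t) := mem_im_of_mem htL (mem_zpowers t)
  rw [← comm_comm2 ht tW ho, ← hk, ← im_le_cent_iff (W1.trans hWL) tL, im_zpowers htL, cent_zpowers]
  refine K1d hp (odd_im (O_odd L)) (piCoreOf_eq_bot_of_normal (im_mono (O_le L)) (im_norm (O_norm L))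
    (piCoreOf_im_eq_bot le_rfl hk)) (by
      rw [← map_mul, ← map_one f]; exact congrArg f (Subtype.ext (sq1 ht)))
    (im_norm (tL.trans (O_norm L)) m) (im_mono h1) (isPGroup_im (hW.to_le W1))
    (im_norm (zp_norm (n1 ⟨htL, self_mem_cent1 t⟩)) m) ?_
  rw [← im_inf_cent1_of_coprime (O_le L) htL (O_norm L htL) (by
    rw [ht]; exact Nat.coprime_two_right.2 (odd_card_of_le (O_odd L) inf_le_left))]
  exact im_norm ((inf_le_inf_right _ (O_le L)).trans n1)

end Cfsg.Agent.GW
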