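import Cfsg.Agent.Cls.BSW7
import Cfsg.Agent.TT.Comp

/-! Gorenstein-Walter: definitions (interface between the parts). -/

set_option autoImplicit false
set_option linter.unusedSectionVars false
set_option linter.unusedVariables false

namespace Cfsg.Agent.GW

open Cfsg Subgroup Cfsg.Agent.GT Cfsg.Agent.Cls

universe u

/-- `O[L]`: largest normal subgroup of odd order of `L`. -/
scoped notation3 "O[" L "]" => Cfsg.piCoreOf (({2} : Set ℕ)ᶜ) L

section
variable {G : Type u} [Group G]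

/-- cyclic or dihedral. -/
def Dih' (P : Subgroup G) : Prop :=
  ∃ A : Subgroup G, IsCyclic A ∧ A ≤ P ∧ Nat.card P ≤ 2 * Nat.card A ∧ ∀ s ∈ P, s ∉ A → s ^ 2 = 1

/-- all 2-subgroups are cyclic or dihedral. -/
def DG (G : Type u) [Group G] : Prop := ∀ P : Subgroup G, IsPGroup 2 P → Dih' P

/-- Standing data: dihedral Sylow 2-subgroup `S`, cyclic `A` of index 2, central involution
`t ∈ A`, one class of involutions. -/
structure St (S A : Subgroup G) (t : G) : Prop where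
  dih : Dih S A
  syl : IsPiHallOf {2} S ⊤
  four : 4 ≤ Nat.card S
  ord : orderOf t = 2
  mem : t ∈ A
  cen : S ≤ C1[t]
  one : ∀ u : G, orderOf u = 2 → ∃ g : G, g * t * g⁻¹ = u

/-- Bender's Theorem 2.6 for the subgroup `K`. -/
def T26 (K : Subgroup G) : Prop :=
  ∀ z ∈ K, orderOf z = 2 → ∀ M : Subgroup G, M ≤ K → M ≠ K → K ⊓ C1[z] ≤ M → z ∈ piCoreOf {2} M

/-- involution centralizers as in `A₇`. -/
def AT (K : Subgroup G) : Prop :=
  ∀ z ∈ K, orderOf z = 2 → Nat.card ↥(K ⊓ C1[z]) = 24 ∧ Nat.card O[K ⊓ C1[z]] = 3 ∧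
    (∃ v ∈ K, orderOf v = 2 ∧ v ≠ z ∧ v * z = z * v ∧ v ∈ C[O[K ⊓ C1[z]]]) ∧
    ∃ v ∈ K, orderOf v = 2 ∧ v * z = z * v ∧ v ∉ C[O[K ⊓ C1[z]]]

/-- What is used about `K = L₂(q) ⊴ G ≤ Aut K`, `q = n + r`. -/
structure LT (K : Subgroup G) (n r : ℕ) : Prop where
  comm : ⁅(⊤ : Subgroup G), (⊤ : Subgroup G)⁆ ≤ K
  even : Even n
  ar : r = n + 1 ∨ n = r + 1
  r3 : 3 ≤ r
  pp : IsPrimePow (n + r)
  card : Nat.card K = 2 * n * (n + r) * r
  tor : ∀ z : G, orderOf z = 2 → ∃ T : Subgroup G, Dih (K ⊓ C1[z]) T ∧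
    (z ∈ K → z ∈ T ∧ Nat.card T = n) ∧ (z ∉ K → Nat.card T = r) ∧
    ∀ y ∈ T, y * y ≠ 1 → K ⊓ C1[y] ≤ T ∧ K ⊓ N[zpowers y] ≤ C1[z]
  l4 : ∀ z : G, orderOf z = 2 → ∀ p : ℕ, p.Prime → p ≠ 2 → ∀ Y : Subgroup G, IsPGroup p Y →
    Y ≤ C1[z] → C1[z] ≤ N[Y] → Y ≤ K

def L2 (G : Type u) [Group G] : Prop :=
  ∃ (F : Type) (_ : Field F) (_ : Fintype F), Odd (Fintype.card F) ∧ 3 < Fintype.card F ∧
    Nonempty (G ≃* Matrix.ProjectiveSpecialLinearGroup (Fin 2) F)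

def Good (G : Type u) [Group G] : Prop :=
  T26 (⊤ : Subgroup G) ∧ (L2 G ∨ (AT (⊤ : Subgroup G) ∧ Nonempty (G ≃* alternatingGroup (Fin 7))))

/-- induction hypothesis. -/
def IH (N : ℕ) : Prop :=
  ∀ (K : Type u) [Group K] [Finite K] [IsSimpleGroup K], ¬ IsMulCommutative K → DG K →
    Nat.card K < N → Good K

/-- `X = L / O(L)` with its simple normal subgroup `K`. -/
structure Sec (L : Subgroup G) {X : Type u} [Group X] (f : L →* X) (K : Subgroup X) : Prop where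
  surj : Function.Surjective f
  ker : kr f = O[L]
  dg : DG X
  nrm : K.Normal
  cent : C[K] = ⊥
  simple : IsSimpleGroup K
  nc : ¬ IsMulCommutative K
  t26 : T26 K
  ty : (∃ n r, LT K n r) ∨ (K = ⊤ ∧ AT K)

/-- `L` is constrained. -/
def Con (L : Subgroup G) : Prop := L ⊓ C[fittingOf L] ≤ fittingOf L

/-- `E` is the component of `L`. -/
structure ET (L E : Subgroup G) {X : Type u} [Group X] (f : L →* X) (K : Subgroup X) : Prop
    extends Sec L f K where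
  le : E ≤ L
  norm : L ≤ N[E]
  per : ⁅E, E⁆ = E
  imE : im f E = K
  cO : E ≤ C[O[L]]
  uniq : ∀ D : Subgroup G, D ≤ L → ⁅D, D⁆ = D → D ≤ E

/-- The minimal counterexample. -/
structure Min (S A : Subgroup G) (t : G) : Prop extends St S A t where
  nc : ¬ IsMulCommutative G
  dg : DG G
  ih : IH.{u} (Nat.card G)

end

end Cfsg.Agent.GW
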