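import Cfsg.Agent.GW.EDef

/-! Gorenstein-Walter, part Ib: choice of the component `E`. -/

set_option autoImplicit false
set_option linter.unusedSectionVars false
set_option linter.unusedVariables false

namespace Cfsg.Agent.GW

open Cfsg Subgroup Cfsg.Agent.GT Cfsg.Agent.Cls Cfsg.Agent.GW.Ia
open scoped commutatorElement

universe u

variable {G : Type u} [Group G] [Finite G] {p q n r : ℕ} {A B D E H K L M P R S T W X Y Z : Subgroup G}
  {t s u v w x y z g : G}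

theorem St.coatom (h : St S A t) (hm : IsCoatom C1[t]) (hu : orderOf u = 2) : IsCoatom C1[u] := by
  obtain ⟨g, rfl⟩ := h.one u hu
  rw [← conj_cent1]; exact isCoatom_conj g hm

theorem nil_le (hD : Group.IsNilpotent D) (hX : X ≤ D) (h : D ⊓ N[X] ≤ X) : D ≤ X := by
  by_contra e
  exact (lt_inf_norm_of_nilpotent hD (lt_of_le_of_ne hX fun a => e a.ge)).not_ge h

theorem F_nil (t : G) : Group.IsNilpotent F[t] := fittingOf_nilpotent _

theorem F_le' (t : G) : F[t] ≤ C1[t] := (F_le t).trans (U_le t)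

theorem nofour [IsSimpleGroup G] (h : St S A t) (hm : IsCoatom C1[t]) (hu : orderOf u = 2)
    (hv : orderOf v = 2) (hvu : v ≠ u) (c : v * u = u * v) (hF : F[u] ≠ ⊥) (hc : F[u] ≤ C1[v]) :
    False := by
  have h1 : zpowers v ≤ C[U[u]] := coprime_le_cent_of_le_cent_fittingOf (O_solv _)
    (zp_norm (norm_U u (mem_cent1.2 c))) (cop2 (O_odd _) hv) (le_cent_symm (by rwa [cent_zpowers]))
  obtain ⟨g, hg, -⟩ := h.cyc3' hu hv hvu c
  have h2 : U[u] = U[v] := eq_of_le_of_card_ge (h.dg.le_O hv (mem_cent_iff.1 (h1 (mem_zpowers v)))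
    (O_odd _)) (by rw [← hg, ← conj_U, card_conj])
  have hU : U[u] ≠ ⊥ := ne_bot_of_le hF (F_le u)
  have h3 : C1[v] = C1[u] := by
    rw [← norm_eq_of_coatom (h.coatom hm hu) hU (U_le u) (norm_U u), h2,
      norm_eq_of_coatom (h.coatom hm hv) (h2 ▸ hU) (U_le v) (norm_U v)]
  have h4 : g ∈ C1[u] := by
    rw [← norm_eq_of_coatom (h.coatom hm hu) (ne_bot_of_le hU (U_le u)) le_rfl le_normalizer,
      ← conj_eq_self_iff, conj_cent1, hg, h3]
  exact hvu (by rw [← hg, mem_cent1.1 h4, mul_inv_cancel_right])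

theorem _root_.Cfsg.Agent.Cls.Dih.odd_mem (h : Dih D T) (hx : x ∈ D) (ho : Odd (orderOf x)) : x ∈ T := by
  by_contra e
  rw [h.ord hx e] at ho
  exact absurd ho (by decide)

theorem zp2 (ha : orderOf x = 2) (hb : y ∈ zpowers x) : y = 1 ∨ y = x := by
  classical
  rw [mem_zpowers_iff_mem_range_orderOf, ha] at hb
  obtain ⟨k, hk, rfl⟩ := Finset.mem_image.1 hb
  have : k = 0 ∨ k = 1 := by simp at hk; omega
  rcases this with rfl | rfl <;> simp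

theorem comm_cent_of_inv (hn : L ≤ N[R]) (hu : orderOf u = 2) (h : ∀ y ∈ R, u * y * u⁻¹ = y⁻¹) :
    ⁅L, zpowers u⁆ ≤ C[R] := by
  rw [commutator_le]
  intro g hg a ha
  rcases zp2 hu ha with rfl | rfl
  · simp
  refine mem_cent_iff.2 fun y hy => mem_cent1.2 ?_
  have e1 := h _ (R.inv_mem hy)
  have e2 := h _ (conj_mem_of_le_norm' hn hg hy)
  rw [commutatorElement_def, inv2 hu] at *
  calc y * (g * a * g⁻¹ * a) = g * (a * (g⁻¹ * y * g) * a)⁻¹ * (a * g⁻¹ * a) := by rw [e2]; group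
    _ = g * a⁻¹ * g⁻¹ * (y⁻¹ * (g * (a⁻¹ * a) * g⁻¹) * a) := by group
    _ = g * a * g⁻¹ * (a * (a * y⁻¹ * a)) := by
      rw [inv2 hu, sq1 hu, mul_assoc a y⁻¹, tt (sq1 hu)]; group
    _ = _ := by rw [e1]; group

theorem cyc_uniq (hT : IsCyclic T) (hx : x ∈ T) (hy : y ∈ T) (h1 : orderOf x = 2) (h2 : orderOf y = 2) :
    x = y := by
  have := PG.eq_of_isCyclic_of_card_eq Nat.prime_two hT (zpowers_le.2 hx) (zpowers_le.2 hy)
    (by rwa [Nat.card_zpowers]) (by rwa [Nat.card_zpowers])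
  exact (zp2 h2 (this ▸ mem_zpowers x)).resolve_left (ne1 h1)

theorem LT.inv_outer [K.Normal] (h : LT K n r) (hz : orderOf z = 2) (hw : orderOf w = 2) (zK : z ∈ K)
    (wK : w ∉ K) (c : w ∈ C1[z]) (hy : y ∈ K ⊓ C1[z]) (ho : Odd (orderOf y)) : w * y * w⁻¹ = y⁻¹ := by
  obtain ⟨T, h1, -⟩ := h.tor z hz
  refine inv_of_fpf (H := O[K ⊓ C1[z]]) (sq1 hw) (norm_le_norm_piCoreOf _ _ (le_norm_inf
    le_norm_of_normal (le_norm_cent1 le_rfl) c)) (O_odd _) ?_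
    (le_O (zpowers_le.2 hy) (h1.norm (zpowers_le.2 (h1.odd_mem hy ho))) (by rwa [Nat.card_zpowers])
      (mem_zpowers y))
  have a := card_dvd_of_le ((inf_le_left.trans (O_le _)) : O[K ⊓ C1[z]] ⊓ C1[w] ≤ K ⊓ C1[z])
  have b := card_dvd_of_le (inf_le_inf_right C1[w] ((O_le (K ⊓ C1[z])).trans inf_le_left))
  rw [(h.card_cent hz).1 zK] at a
  rw [(h.card_cent hw).2 wK] at b
  have o := Nat.coprime_two_right.2 (odd_card_of_le (O_odd _)
    (inf_le_left : O[K ⊓ C1[z]] ⊓ C1[w] ≤ _))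
  exact card_eq_one.1 (Nat.eq_one_of_dvd_coprimes h.cop (o.dvd_of_dvd_mul_left a)
    (o.dvd_of_dvd_mul_left b))

section
variable {Q : Type u} [Group Q] [Finite Q] {f : L →* Q} {K : Subgroup Q}

theorem Sec.ok (h : Sec L f K) : Odd (Nat.card (kr f)) := h.ker ▸ O_odd L

theorem Sec.ord (h : Sec L f K) (hu : orderOf u = 2) (uL : u ∈ L) : orderOf (f ⟨u, uL⟩) = 2 :=
  im_ord2 h.ok hu uL

theorem Sec.cent1 (h : Sec L f K) (hu : orderOf u = 2) (uL : u ∈ L) :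
    im f (L ⊓ C1[u]) = C1[f ⟨u, uL⟩] := im_cent1 h.surj h.ok hu uL

theorem Sec.mem_O (h : Sec L f K) (xL : x ∈ L) : f ⟨x, xL⟩ = 1 ↔ x ∈ O[L] := by
  rw [← h.ker, mem_kr' xL]

theorem Sec.ne_bot (h : Sec L f K) : K ≠ ⊥ := fun e =>
  h.nc (comm_iff_le_cent.2 (e.le.trans bot_le))

theorem fmul (f : L →* Q) (hx : x ∈ L) (hy : y ∈ L) :
    f ⟨x * y, L.mul_mem hx hy⟩ = f ⟨x, hx⟩ * f ⟨y, hy⟩ := (map_mul f ⟨x, hx⟩ ⟨y, hy⟩)

theorem finv (f : L →* Q) (hx : x ∈ L) : f ⟨x⁻¹, L.inv_mem hx⟩ = (f ⟨x, hx⟩)⁻¹ := (map_inv f ⟨x, hx⟩)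

theorem fcent (f : L →* Q) (hx : x ∈ L) (hy : y ∈ L) (h : x ∈ C1[y]) : f ⟨x, hx⟩ ∈ C1[f ⟨y, hy⟩] := by
  rw [mem_cent1, ← fmul, ← fmul]; exact congrArg f (Subtype.ext (mem_cent1.1 h))

theorem ford (f : L →* Q) (hx : x ∈ L) : orderOf (f ⟨x, hx⟩) ∣ orderOf x := by
  rw [← orderOf_mk x hx]; exact orderOf_map_dvd f _

theorem Sec.lift (h : Sec L f K) (hu : orderOf u = 2) (uL : u ∈ L) {a : Q} (ha : orderOf a = 2)
    (c : a ∈ C1[f ⟨u, uL⟩]) : ∃ z, ∃ zL : z ∈ L, z ∈ C1[u] ∧ orderOf z = 2 ∧ f ⟨z, zL⟩ = a := by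
  rw [← h.cent1 hu uL] at c
  obtain ⟨x, xL, hx, rfl⟩ := mem_im.1 c
  have h1 : x * x ∈ O[L] := (h.mem_O (L.mul_mem xL xL)).1 (by rw [fmul f xL xL, sq1 ha])
  obtain ⟨k, hk⟩ := odd_ord (O_odd L) h1
  have h2 : f ⟨x ^ (2 * k + 1), L.pow_mem xL _⟩ = f ⟨x, xL⟩ := by
    have : f ⟨x ^ (2 * k + 1), L.pow_mem xL _⟩ = f ⟨x, xL⟩ ^ (2 * k + 1) := map_pow f ⟨x, xL⟩ _
    rw [this, pow_succ, pow_mul, pow_two, sq1 ha, one_pow, one_mul]
  refine ⟨x ^ (2 * k + 1), L.pow_mem xL _, Subgroup.pow_mem _ hx.2 _, ord2 ?_ fun e => ne1 ha ?_, h2⟩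
  · rw [← (Commute.refl x).mul_pow, ← hk, pow_orderOf_eq_one]
  · rw [← h2, ← map_one f]; exact congrArg f (Subtype.ext e)

theorem ET.le2 (h : ET L E f K) (hP : IsPGroup 2 P) (hl : P ≤ E ⊔ O[L]) : P ≤ E :=
  PG.le_of_normal_of_not_dvd_relIndex Nat.prime_two hl hP ((sup_le h.le (O_le L)).trans h.norm) (by
    rw [sup_comm, relIndex_sup_of_le_norm ((O_le L).trans h.norm)]
    exact ((O_odd L).of_dvd_nat (relIndex_dvd_card' _ _)).not_two_dvd_nat)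

theorem ET.mem_iff (h : ET L E f K) (hu : orderOf u = 2) (uL : u ∈ L) : f ⟨u, uL⟩ ∈ K ↔ u ∈ E := by
  rw [← h.imE, mem_im_iff_mem_sup uL h.le, h.ker]
  exact ⟨fun e => h.le2 (pg2 hu) (zpowers_le.2 e) (mem_zpowers u), fun e => mem_sup_left e⟩

theorem ET.ne_bot (h : ET L E f K) : E ≠ ⊥ := fun e => h.toSec.ne_bot (by rw [← h.imE, e, im_bot])

theorem ET.ns (h : ET L E f K) (hl : E ≤ M) : ¬ Group.IsSolvable M := fun e =>
  h.ne_bot (eq_bot_of_perf h.per (solv_of_le e hl))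

/-- a coprime subgroup of `E` acting trivially on `Y` modulo `O(L)` centralises `Y`. -/
theorem ET.cent_of (h : ET L E f K) (hY : Y ≤ L) (hA : A ≤ E) (hn : A ≤ N[Y])
    (hc : (Nat.card Y).Coprime (Nat.card A)) (h1 : im f Y ≤ C[im f A]) : Y ≤ C[A] :=
  coprime_le_cent_of_commutator_le_cent hn hc (((im_le_cent_iff hY (hA.trans h.le)).1 h1).trans
    (h.ker.le.trans ((le_cent_symm h.cO).trans (cent_anti hA))))

theorem Sec.imF (h : Sec L f K) (lt : LT K n r) (hu : orderOf u = 2) (uL : u ∈ L) :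
    im f (F[u] ⊓ L) ≤ K ⊓ C1[f ⟨u, uL⟩] := by
  have h1 : im f (F[u] ⊓ L) ≤ C1[f ⟨u, uL⟩] :=
    h.cent1 hu uL ▸ im_mono (le_inf inf_le_right (inf_le_left.trans (F_le' u)))
  have h2 : C1[f ⟨u, uL⟩] ≤ N[im f (F[u] ⊓ L)] := h.cent1 hu uL ▸ im_norm
    (le_norm_inf (inf_le_right.trans (norm_F u)) (le_norm_self inf_le_left))
  refine le_inf (nil_le_of_forall_piCoreOf_le (nilpotent_im (nil_of_le (F_nil u) inf_le_left))
    fun p hp hd => lt.l4 _ (h.ord hu uL) p hp ?_ _ (piCoreOf_isPGroup hp _)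
      ((piCoreOf_le _ _).trans h1) (le_norm_piCoreOf h2)) h1
  rintro rfl
  exact (odd_im (odd_card_of_le (odd_F u) inf_le_left)).not_two_dvd_nat hd

theorem ns_ncon [IsSimpleGroup G] (co : IsCoatom C1[u]) (dg : DG G) (h : Sec L f K) (hu : orderOf u = 2)
    (hX : X ≠ ⊥) (hXF : X ≤ F[u]) (hL : N[X] ≤ L) : ¬ Con L := by
  intro hc
  have := h.nrm
  have := h.simple
  have uL : u ∈ L := hL (cent_le_norm _ (mem_cent_iff.2 (hXF.trans (F_le' u))))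
  have o2 : piCoreOf {2} L = ⊥ := by
    have a1 : (⊤ : Subgroup Q) ≤ N[im f (piCoreOf {2} L)] :=
      im_dom_of_surj h.surj ▸ im_norm (self_le_norm_piCoreOf _ _)
    have a2 : IsPGroup 2 (im f (piCoreOf {2} L)) := isPGroup_im (piCoreOf_isPGroup Nat.prime_two _)
    have a3 : im f (piCoreOf {2} L) ⊓ K = ⊥ := (sub_simple h.nc inf_le_right
      (le_norm_inf (le_top.trans a1) le_normalizer)).resolve_right fun e => h.ne_bot
        (eq_bot_of_perf (sub_perf h.nc) (solvable_of_isPGroup Nat.prime_two (a2.to_le (inf_eq_right.1 e))))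
    have a4 := le_cent_of_norm_of_inf_eq_bot le_norm_of_normal (le_top.trans a1) a3
    rw [h.cent, le_bot_iff, im_eq_bot_iff (piCoreOf_le _ _)] at a4
    exact eq_bot_of_le_of_coprime a4 le_rfl (cop2' h.ok (piCoreOf_isPGroup Nat.prime_two _))
  have key : ∀ p, p.Prime → ⁅L, zpowers u⁆ ≤ C[piCoreOf {p} L] := by
    intro p hp
    by_cases p2 : p = 2
    · rw [p2, o2, cent_bot]; exact le_top
    have nR : u ∈ N[piCoreOf {p} L] := self_le_norm_piCoreOf _ _ uL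
    have pR := piCoreOf_isPGroup hp L
    by_cases h0 : piCoreOf {p} U[u] = ⊥
    · have b1 : piCoreOf {p} L ⊓ C1[u] ≤ U[u] :=
        dg.le_O hu inf_le_right (odd_card_of_le (odd_p hp p2 pR) inf_le_left)
      have b2 : (Nat.card F[u]).Coprime (Nat.card ↥(piCoreOf {p} L ⊓ C1[u])) :=
        IsPiSubgroup.coprime' ((isPiSubgroup_single_compl_iff hp).2 fun e => piCoreOf_ne_bot_of_nil
          (F_nil u) hp (Set.mem_singleton p) e ((piCoreOf_single_fittingOf hp).trans h0))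
          (isPi_of_isPGroup hp (pR.to_le inf_le_left))
      have b3 : piCoreOf {p} L ⊓ C1[u] = ⊥ := eq_bot_of_le_of_coprime (le_fittingOf_of_le_cent
        (O_solv _) b1 (axb (F_nil u) hXF (le_normalizer.trans hL)
          (inf_le_right.trans ((cent_le_norm _).trans hL)) (inf_le_right.trans (norm_F u)) b2
          (le_cent_of_norm_of_coprime (le_norm_inf (inf_le_right.trans (norm_F u))
            (le_norm_self (inf_le_left.trans (piCoreOf_le _ _))))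
            (le_norm_inf (inf_le_right.trans (self_le_norm_piCoreOf _ _))
              (le_norm_self (inf_le_left.trans (F_le' u))))
            (coprime_card_of_le b2.symm le_rfl inf_le_left)))) le_rfl b2
      exact comm_cent_of_inv (self_le_norm_piCoreOf _ _) hu fun y hy =>
        inv_of_fpf (sq1 hu) nR (odd_p hp p2 pR) b3 hy
    · have nZ := norm_eq_of_coatom co (ZOp_ne hp h0) (inf_le_left.trans (Ia.O_le p u))
        (le_norm_inf (norm_O p u) (le_norm_cent (norm_O p u)))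
      refine commutator_le_cent_of_norm_of_cent (self_le_norm_piCoreOf _ _)
        (thompson_AxB_pgroup hp pR ((piCoreOf_isPGroup hp U[u]).to_le inf_le_left)
          ((isPiSubgroup_single_compl_iff hp).2 (by
            rw [Nat.card_zpowers, hu]; exact fun e => p2 ((Nat.prime_dvd_prime_iff_eq hp Nat.prime_two).1 e)))
          (zp_norm nR) (((ZOp_le hp).trans ((cent_anti hXF).trans ((cent_le_norm _).trans hL))).trans
            (self_le_norm_piCoreOf _ _))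
          (le_cent_symm (by rw [cent_zpowers]; exact inf_le_left.trans (Ia.O_le p u))) ?_)
      rw [cent_zpowers]; exact inf_le_right.trans ((cent_le_norm _).trans nZ.le)
  have h1 : ⁅L, zpowers u⁆ ≤ kr f := by
    refine (le_inf (commutator_le_of_le_norm_left (le_norm_self (zpowers_le.2 uL)))
      (fittingOf_le_cent_of_forall key)).trans (hc.trans (h.ker ▸ fittingOf_le_of_forall_piCoreOf
        fun p hp => ?_))
    by_cases p2 : p = 2
    · rw [p2, o2]; exact bot_le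
    · exact Op_le_O p2 L
  rw [← im_le_cent_iff le_rfl (zpowers_le.2 uL), im_dom_of_surj h.surj, im_zpowers uL, cent_zpowers] at h1
  exact ne1 (h.ord hu uL) (mem_bot.1 (h.cent ▸ mem_cent_iff.2 (le_top.trans h1)))

theorem ET.cent_F (h : ET L E f K) (hXF : X ≤ F[u]) (hL : N[X] ≤ L) (hA : A ≤ E) (hAu : A ≤ C1[u])
    (hA2 : IsPGroup 2 A) (h1 : im f (F[u] ⊓ L) ≤ C[im f A]) : A ≤ C[F[u]] :=
  axb (F_nil u) hXF (le_normalizer.trans hL) (inf_le_right.trans ((cent_le_norm _).trans hL))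
    (hAu.trans (norm_F u)) (cop2' (odd_F u) hA2) (le_cent_symm (h.cent_of inf_le_right hA
      (le_norm_inf (hAu.trans (norm_F u)) (le_norm_self (hA.trans h.le)))
      (cop2' (odd_card_of_le (odd_F u) inf_le_left) hA2) h1))

theorem ET.lt [IsSimpleGroup G] (h : ET L E f K) (st : St S A t) (hm : IsCoatom C1[t])
    (hu : orderOf u = 2) (hX : X ≠ ⊥) (hXF : X ≤ F[u]) (hL : N[X] ≤ L) : ∃ n r, LT K n r := by
  refine h.ty.resolve_right ?_
  rintro ⟨rfl, ha⟩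
  have uL : u ∈ L := hL (cent_le_norm _ (mem_cent_iff.2 (hXF.trans (F_le' u))))
  obtain ⟨a, a2, au, ca, hU, -⟩ := ha.four h.dg (h.ord hu uL)
  obtain ⟨v, vL, vu, v2, rfl⟩ := h.toSec.lift hu uL a2 (mem_cent1.2 ca)
  have vE := (h.mem_iff v2 vL).1 (mem_top _)
  refine nofour st hm hu v2 (fun e => au (by subst e; rfl)) (mem_cent1.1 vu) (ne_bot_of_le hX hXF)
    (mem_cent_iff.1 (h.cent_F hXF hL (zpowers_le.2 vE) (zpowers_le.2 vu) (pg2 v2) ?_ (mem_zpowers v)))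
  rw [im_zpowers vL, cent_zpowers]
  exact (h.dg.le_O (h.ord hu uL) (h.cent1 hu uL ▸ im_mono (le_inf inf_le_right
    (inf_le_left.trans (F_le' u)))) (odd_im (odd_card_of_le (odd_F u) inf_le_left))).trans hU

theorem Sec.imF_le (h : Sec L f K) (lt : LT K n r) (hu : orderOf u = 2) (uL : u ∈ L) {T : Subgroup Q}
    (hT : Dih (K ⊓ C1[f ⟨u, uL⟩]) T) : im f (F[u] ⊓ L) ≤ T := fun y hy =>
  hT.odd_mem (h.imF lt hu uL hy) (odd_ord (odd_im (odd_card_of_le (odd_F u) inf_le_left)) hy)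

theorem ET.FO_ne (h : ET L E f K) (lt : LT K n r) (dg : DG G) (co : IsCoatom C1[u]) (hL1 : L ≠ ⊤)
    (hu : orderOf u = 2) (hXF : X ≤ F[u]) (hL : N[X] ≤ L) : F[u] ⊓ O[L] ≠ ⊥ := by
  intro e
  have uL : u ∈ L := hL (cent_le_norm _ (mem_cent_iff.2 (hXF.trans (F_le' u))))
  obtain ⟨T, hT, -⟩ := lt.tor _ (h.ord hu uL)
  obtain ⟨φ⟩ := nonempty_equiv_im (f := f) (inf_le_right : F[u] ⊓ L ≤ L) (by
    rw [h.ker, eq_bot_iff, ← e]; exact inf_le_inf_right _ inf_le_left)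
  have c1 : IsCyclic ↥(F[u] ⊓ L) := isCyclic_of_equiv φ.symm (cyc_of_le hT.cyc (h.imF_le lt hu uL hT))
  have n1 : N[F[u] ⊓ L] ≤ L :=
    (PG.norm_le_norm_of_isCyclic c1 (le_inf hXF (le_normalizer.trans hL))).trans hL
  have e1 : F[u] ⊓ L = F[u] := le_antisymm inf_le_left (nil_le (F_nil u) inf_le_left (inf_le_inf_left _ n1))
  rw [e1] at n1
  have := co.le_iff.1 ((norm_F u).trans n1)
  exact h.ns le_rfl (solv_of_le (dg.solv_cent hu) (h.le.trans (this.resolve_left hL1).le))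

theorem ET.switch [IsSimpleGroup G] (h : ET L E f K) (lt : LT K n r) (st : St S A t) (hu : orderOf u = 2) (uL : u ∈ L)
    (uE : u ∉ E) (h1 : F[u] ⊓ O[L] ≠ ⊥)
    (mx : ∀ X1, X1 ≠ ⊥ → X1 ≤ F[u] → E ≤ N[X1] → N[X1] ≤ L) :
    ∃ z ∈ E, orderOf z = 2 ∧ F[z] ⊓ O[L] ≠ ⊥ := by
  have := h.nrm
  have uK := mt (h.mem_iff hu uL).1 uE
  obtain ⟨T, hT, -⟩ := lt.tor _ (h.ord hu uL)
  obtain ⟨a, ha, haT⟩ := hT.ex
  obtain ⟨z, zL, zu, z2, rfl⟩ := h.toSec.lift hu uL (hT.ord ha haT) ha.2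
  have zE := (h.mem_iff z2 zL).1 ha.1
  refine ⟨z, zE, z2, fun e => ?_⟩
  have zu' : z ≠ u := fun e => uE (e ▸ zE)
  have w2 := ord2_mul hu z2 zu' (mem_cent1.1 zu)
  have wL := L.mul_mem uL zL
  have wK : f ⟨u * z, wL⟩ ∉ K := fun e => uE ((E.mul_mem_cancel_right zE).1 ((h.mem_iff w2 wL).1 e))
  have wz : u * z ∈ C1[z] := Subgroup.mul_mem _ (mem_cent1_comm.1 zu) (self_mem_cent1 z)
  obtain ⟨B, hB, hp⟩ := exists_le_card_prime h1
  have pB : IsPGroup (Nat.card B) B := isPGroup_of_card_eq_prime rfl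
  have BE : E ≤ C[B] := h.cO.trans (cent_anti (hB.trans inf_le_right))
  have BL := mx B (ne_bot_of_card_prime hp) (hB.trans inf_le_left) (le_norm_of_cent BE)
  have Bz : B ≤ C1[z] := mem_cent_iff.1 (BE zE)
  have Bw : B ≤ C1[u * z] := fun x hx => c1_mul (F_le' u (hB hx).1) (Bz hx)
  have hD : piCoreOf {Nat.card B} U[z] ⊓ C1[u * z] = ⊥ := by
    by_contra hD
    obtain ⟨y, hy, y1⟩ := exists_ne_one_of_ne_bot (inf_cent_ne_bot_of_isPGroup hp
      ((piCoreOf_isPGroup hp _).to_le inf_le_left) pB (le_norm_inf (Bz.trans (norm_O _ z))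
        (le_norm_cent1 Bw)) hD)
    have yL : y ∈ L := BL (cent_le_norm _ hy.2)
    have yF : y ∈ F[z] := O_le_F hp z hy.1.1
    have yo : Odd (orderOf (f ⟨y, yL⟩)) := (odd_ord (odd_F z) yF).of_dvd_nat (ford f yL)
    have := eq1_of_inv_fix yo (lt.inv_outer (h.ord z2 zL) (h.ord w2 wL) ha.1 wK (fcent f wL zL wz)
      (h.imF lt z2 zL (mem_im_of_mem yL ⟨yF, yL⟩)) yo) (fcent f yL wL hy.1.2)
    exact y1 (mem_bot.1 (e ▸ (⟨yF, (h.mem_O yL).1 this⟩ : y ∈ F[z] ⊓ O[L])))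
  obtain ⟨g, g1, g2⟩ := st.cyc3' hu z2 zu' (mem_cent1.1 zu)
  refine ne_bot_of_card_prime hp (conj_eq_bot_iff.1 (eq_bot_iff.2 (hD ▸ le_inf ?_ ?_ : cj[g] B ≤ ⊥)))
  · rw [← g1, ← conj_U, ← conj_piCoreOf]
    exact conj_mono g (le_piCoreOf_of_le_fittingOf (hB.trans inf_le_left) (isPi_of_isPGroup hp pB))
  · rw [← g2, ← conj_cent1]; exact conj_mono g Bz

end

/-- The chosen component. -/
structure Eg (S A L E : Subgroup G) (t : G) {Q : Type u} [Group Q] (f : L →* Q) (K : Subgroup Q)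
    (n r : ℕ) : Prop extends Min S A t where
  max : IsCoatom C1[t]
  co : IsCoatom L
  et : ET L E f K
  lt : LT K n r
  tE : t ∈ E
  mx : ∀ u X1, orderOf u = 2 → X1 ≠ ⊥ → X1 ≤ F[u] → E ≤ N[X1] → N[X1] ≤ L
  X1 : F[t] ⊓ O[L] ≠ ⊥
  sylL : IsPiHallOf {2} (S ⊓ L) (L ⊓ C1[t])

theorem Min.exists_Eg [IsSimpleGroup G] (h : Min S A t) (pp : PP.{u}) (hm : IsCoatom C1[t])
    (hE : ¬ NoE t) : ∃ (S A L E : Subgroup G) (t : G) (Q : Type u) (_ : Group Q) (_ : Finite Q)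
      (f : L →* Q) (K : Subgroup Q) (n r : ℕ), Eg S A L E t f K n r := by
  obtain ⟨X0, L0, h1, h2, h3, h4, h5⟩ : ∃ X L : Subgroup G, X ≠ ⊥ ∧ X ≤ F[t] ∧ IsCoatom L ∧
      N[X] ≤ L ∧ ¬ Con L := by
    by_contra! e
    exact hE e
  obtain ⟨Q0, _, _, f0, K0, E0, e0⟩ := exists_ET' pp h.dg h.ih h3.1 h5
  obtain ⟨D, ⟨hD, u, X, L, u2, X1, XF, co, XL, DL⟩, hl, hmx⟩ := exists_maximal_ge
    (S := {D : Subgroup G | ⁅D, D⁆ = D ∧ ∃ (u : G) (X L : Subgroup G), orderOf u = 2 ∧ X ≠ ⊥ ∧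
      X ≤ F[u] ∧ IsCoatom L ∧ N[X] ≤ L ∧ D ≤ L}) ⟨e0.per, t, X0, L0, h.ord, h1, h2, h3, h4, e0.le⟩
  have key : ∀ (u : G) (X L : Subgroup G), orderOf u = 2 → X ≠ ⊥ → X ≤ F[u] → IsCoatom L →
      N[X] ≤ L → D ≤ L → ∃ (Q : Type u) (_ : Group Q) (_ : Finite Q) (f : L →* Q) (K : Subgroup Q),
        ET L D f K := fun u X L u2 X1 XF co XL DL => by
    obtain ⟨Q, _, _, f, K, s⟩ := exists_sec' pp h.dg h.ih co.1 (e0.ns (hl.trans DL))
    obtain ⟨Q, _, _, f, K, E, e⟩ := exists_ET' pp h.dg h.ih co.1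
      (ns_ncon (h.coatom hm u2) h.dg s u2 X1 XF XL)
    exact ⟨Q, _, ‹_›, f, K, hmx E ⟨e.per, u, X, L, u2, X1, XF, co, XL, e.le⟩ (e.uniq D DL hD) ▸ e⟩
  obtain ⟨Q, _, _, f, K, e⟩ := key u X L u2 X1 XF co XL DL
  have nD := norm_eq_of_coatom co e.ne_bot e.le e.norm
  have mx : ∀ u X1, orderOf u = 2 → X1 ≠ ⊥ → X1 ≤ F[u] → D ≤ N[X1] → N[X1] ≤ L :=
    fun u X u2 X1 XF DX => by
    obtain ⟨M, hM, XM⟩ := exists_coatom_ge (norm_ne_top X1 (solv_of_le (fittingOf_solvable _) XF) h.nc)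
    obtain ⟨Q, _, _, f, K, e⟩ := key u X M u2 X1 XF hM XM (DX.trans XM)
    exact XM.trans (nD ▸ e.norm)
  obtain ⟨n, r, lt⟩ := e.lt h.toSt hm u2 X1 XF XL
  obtain ⟨z, zE, z2, hz⟩ : ∃ z ∈ D, orderOf z = 2 ∧ F[z] ⊓ O[L] ≠ ⊥ := by
    have := e.FO_ne lt h.dg (h.coatom hm u2) co.1 u2 XF XL
    by_cases uE : u ∈ D
    · exact ⟨u, uE, u2, this⟩
    · exact e.switch lt h.toSt u2 (XL (cent_le_norm _ (mem_cent_iff.2 (XF.trans (F_le' u))))) uE this
        fun X => mx u X u2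
  obtain ⟨P, hP⟩ := exists_syl Nat.prime_two (L ⊓ C1[z])
  have pP := syl_isPGroup Nat.prime_two hP
  obtain ⟨S', A', st, PS, -⟩ := h.exists_ge z2 pP (hP.le.trans inf_le_right)
  refine ⟨S', A', L, D, z, Q, _, ‹_›, f, K, n, r, ⟨st, h.nc, h.dg, h.ih⟩, h.coatom hm z2, co, e, lt, zE,
    mx, hz, ?_⟩
  rwa [syl_eq_of_le Nat.prime_two hP (st.pg.to_le inf_le_left)
    (le_inf inf_le_right (inf_le_left.trans st.cen)) (le_inf PS (hP.le.trans inf_le_left))]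

end Cfsg.Agent.GW
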