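import Cfsg.Agent.GW.E1
import Cfsg.Agent.Cl.DicksonCount

/-! Gorenstein-Walter, part Ib: the structure of `F(O(C(t))) ∩ L`. -/

set_option autoImplicit false
set_option linter.unusedSectionVars false
set_option linter.unusedVariables false

namespace Cfsg.Agent.GW

open Cfsg Subgroup Cfsg.Agent.GT Cfsg.Agent.Cls Cfsg.Agent.GW.Ia
open scoped commutatorElement

universe u

variable {G : Type u} [Group G] [Finite G] {p q n r : ℕ} {A B D E H L M P R S W X Y Z : Subgroup G}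
  {t s u v w x y z g σ : G}

theorem two_count (h : ∀ a ∈ H, ∀ b ∈ H, ∀ e ∈ E, a ∉ L → b ∉ L → b⁻¹ * e * a ∈ L → e ∈ H) :
    (L.relIndex H - 1) * H.relIndex E ≤ L.index := by
  classical
  have := Fintype.ofFinite (H ⧸ L.subgroupOf H)
  have c1 : Nat.card {c : H ⧸ L.subgroupOf H // ¬ c = ((1 : H) : H ⧸ L.subgroupOf H)} =
      L.relIndex H - 1 := by
    rw [Nat.card_eq_fintype_card, Fintype.card_subtype_compl, Fintype.card_subtype_eq,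
      ← Nat.card_eq_fintype_card]; rfl
  have nm : ∀ c : {c : H ⧸ L.subgroupOf H // ¬ c = ((1 : H) : H ⧸ L.subgroupOf H)},
      (c.1.out : G) ∉ L := fun c e => c.2 (by
    rw [← c.1.out_eq, eq_comm]
    exact QuotientGroup.eq.2 (by simpa [mem_subgroupOf] using e))
  rw [← c1, relIndex, index, index, ← Nat.card_prod]
  refine Nat.card_le_card_of_injective
    (fun x => (((x.2.out : G) * (x.1.1.out : G) : G) : G ⧸ L)) fun x y e => ?_
  have e1 := QuotientGroup.eq.1 e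
  have e2 : x.2 = y.2 := by
    rw [← x.2.out_eq, ← y.2.out_eq]
    refine QuotientGroup.eq.2 (mem_subgroupOf.2 (h _ y.1.1.out.2 _ x.1.1.out.2 _
      (x.2.out⁻¹ * y.2.out).2 (nm _) (nm _) ?_))
    simpa [mul_assoc] using e1
  refine Prod.ext (Subtype.ext ?_) e2
  rw [← x.1.1.out_eq, ← y.1.1.out_eq]
  refine QuotientGroup.eq.2 (mem_subgroupOf.2 ?_)
  rw [e2] at e1
  simpa [mul_assoc] using e1

theorem ord_dvd_relIndex (hW : Odd (Nat.card W)) (hn : σ ∈ N[W]) (hx : x ∈ W)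
    (hi : σ * x * σ⁻¹ = x⁻¹) : orderOf x ∣ C1[σ].relIndex W := by
  have := Cl.card_dvd_ncard_of_free (H := zpowers (⟨x, hx⟩ : W)) (X := W ⧸ C1[σ].subgroupOf W)
    Set.univ (fun _ _ _ => trivial) fun a c _ e => ?_
  · rwa [Nat.card_zpowers, orderOf_mk, Set.ncard_univ] at this
  obtain ⟨k, rfl⟩ := QuotientGroup.mk_surjective c
  obtain ⟨⟨a, aW⟩, ha⟩ := a
  have e1 : ((⟨a, aW⟩ * k : W) : W ⧸ C1[σ].subgroupOf W) = k := e
  have e2 := mem_cent1.1 (mem_subgroupOf.1 (QuotientGroup.eq.1 e1))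
  obtain ⟨j, hj⟩ := mem_zpowers_iff.1 ha
  have e3 : x ^ j = a := congrArg Subtype.val hj
  have e4 : σ * a * σ⁻¹ = a⁻¹ := by rw [← e3, ← conj_zpow, hi, inv_zpow]
  simp only [coe_mul, coe_inv] at e2
  have e6 : σ⁻¹ * a * σ = a⁻¹ := by
    calc σ⁻¹ * a * σ = σ⁻¹ * (σ * a * σ⁻¹)⁻¹ * σ := by rw [e4, inv_inv]
      _ = _ := by group
  have e5 : ((k : G) * σ * (k : G)⁻¹ * σ⁻¹) * a * ((k : G) * σ * (k : G)⁻¹ * σ⁻¹)⁻¹ = a⁻¹ := by
    calc _ = (k : G) * σ * (k : G)⁻¹ * (σ⁻¹ * a * σ) * (k * σ⁻¹ * (k : G)⁻¹) := by group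
      _ = (k : G) * (σ * ((a * k)⁻¹ * k)) * (σ⁻¹ * (k : G)⁻¹) := by rw [e6]; group
      _ = _ := by rw [← e2]; group
  have e7 := PG.commute_of_odd_of_conj_eq_inv (odd_ord hW (by
    rw [mul_assoc, mul_assoc, ← mul_assoc σ]
    exact W.mul_mem k.2 (conj_mem_of_mem_norm hn (W.inv_mem k.2)))) e5
  rw [e7, mul_inv_cancel_right] at e5
  exact Subtype.ext (Subtype.ext (eq1_of_inv (odd_ord hW aW) e5.symm))

variable {Q : Type u} [Group Q] [Finite Q] {f : L →* Q} {K T : Subgroup Q}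

theorem ET.inj2 (h : ET L E f K) (hu : orderOf u = 2) (hv : orderOf v = 2) (uL : u ∈ L) (vE : v ∈ E)
    (e : f ⟨u, uL⟩ = f ⟨v, h.le vE⟩) : u = v := by
  have h1 : u * v⁻¹ ∈ O[L] := (h.mem_O (L.mul_mem uL (L.inv_mem (h.le vE)))).1 (by
    rw [fmul f uL (L.inv_mem (h.le vE)), finv f (h.le vE), e, mul_inv_cancel])
  have h2 := h.cO vE _ h1
  refine mul_inv_eq_one.1 (eq1_of_odd (odd_ord (O_odd L) h1) ?_)
  rw [inv_mul_cancel_right, inv2 hv] at h2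
  rw [inv2 hv, mul_assoc, ← mul_assoc v, mul_assoc v, ← h2, sq1 hu]

namespace Eg
variable [IsSimpleGroup G] (h : Eg S A L E t f K n r)
include h

theorem tL : t ∈ L := h.et.le h.tE

theorem OU : O[L] ≤ U[t] := h.dg.le_O h.ord (mem_cent_iff.1 (h.et.cO h.tE)) (O_odd L)

theorem EX : E ≤ C[F[t] ⊓ O[L]] := h.et.cO.trans (cent_anti inf_le_right)

theorem NX_le (h1 : X ≤ F[t] ⊓ O[L]) (h2 : X ≠ ⊥) : N[X] ≤ L :=
  h.mx t X h.ord h2 (h1.trans inf_le_left) (le_norm_of_cent (h.EX.trans (cent_anti h1)))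

theorem NX : N[F[t] ⊓ O[L]] ≤ L := h.NX_le le_rfl h.X1

theorem HL : ¬ C1[t] ≤ L := fun e => h.et.ns le_rfl (solv_of_le (h.dg.solv_cent h.ord)
  (h.et.le.trans ((h.max.le_iff.1 e).resolve_left h.co.1).le))

theorem nE : N[E] = L := norm_eq_of_coatom h.co h.et.ne_bot h.et.le h.et.norm

theorem XY : F[t] ⊓ O[L] ≤ F[t] ⊓ L := inf_le_inf_left _ (O_le L)

theorem Yk : F[t] ⊓ L ⊓ kr f = F[t] ⊓ O[L] := by
  rw [h.et.ker, inf_assoc, inf_eq_right.2 (O_le L)]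

theorem nY : L ⊓ C1[t] ≤ N[F[t] ⊓ L] :=
  le_norm_inf (inf_le_right.trans (norm_F t)) (le_norm_self inf_le_left)

theorem nX : L ⊓ C1[t] ≤ N[F[t] ⊓ O[L]] :=
  le_norm_inf (inf_le_right.trans (norm_F t)) (inf_le_left.trans (O_norm L))

theorem disj (hg : g ∉ L) : F[t] ⊓ O[L] ⊓ cj[g] (F[t] ⊓ O[L]) = ⊥ := by
  by_contra e
  refine hg (h.nE ▸ mem_normalizer_of_conj_le (h.et.uniq _ (le_trans ?_ ((cent_le_norm _).trans
    (h.NX_le inf_le_left e))) (by rw [← conj_commutator, h.et.per])))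
  exact (conj_mono g h.EX).trans ((conj_centralizer _ _).le.trans (cent_anti inf_le_right))

theorem exists_h : ∃ g ∈ C1[t], g ∉ L ∧ g ∈ N[F[t] ⊓ L] := by
  by_cases e : F[t] ≤ L
  · obtain ⟨g, h1, h2⟩ := SetLike.not_le_iff_exists.1 h.HL
    exact ⟨g, h1, h2, by rw [inf_eq_left.2 e]; exact norm_F t h1⟩
  · obtain ⟨g, h1, h2⟩ := SetLike.exists_of_lt (lt_inf_norm_of_nilpotent (F_nil t)
      (inf_lt_left.2 e : F[t] ⊓ L < F[t]))
    exact ⟨g, F_le' t h1.1, fun a => h2 ⟨h1.1, a⟩, h1.2⟩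

theorem imY : IsCyclic (im f (F[t] ⊓ L)) ∧ Nat.card (im f (F[t] ⊓ L)) ∣ n := by
  obtain ⟨T, hT, h2, -⟩ := h.lt.tor _ (h.et.ord h.ord h.tL)
  have := h.et.imF_le h.lt h.ord h.tL hT
  exact ⟨cyc_of_le hT.cyc this, (h2 ((h.et.mem_iff h.ord h.tL).2 h.tE)).2 ▸ card_dvd_of_le this⟩

theorem emb (hD : D ≤ F[t] ⊓ L) (e : F[t] ⊓ O[L] ⊓ D = ⊥) :
    IsCyclic D ∧ Nat.card D = Nat.card (im f D) := by
  have e1 : D ⊓ kr f = ⊥ := by
    rw [eq_bot_iff, ← e, ← h.Yk]; exact le_inf (inf_le_inf_right _ hD) inf_le_left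
  obtain ⟨φ⟩ := nonempty_equiv_im (f := f) (hD.trans inf_le_right) e1
  exact ⟨isCyclic_of_equiv φ.symm (cyc_of_le h.imY.1 (im_mono hD)), Nat.card_congr φ.toEquiv⟩

theorem cycX : IsCyclic ↥(F[t] ⊓ O[L]) ∧ Nat.card ↥(F[t] ⊓ O[L]) ∣ Nat.card (im f (F[t] ⊓ L)) := by
  obtain ⟨g, h1, h2, h3⟩ := h.exists_h
  have l : cj[g] (F[t] ⊓ O[L]) ≤ F[t] ⊓ L := (conj_mono g h.XY).trans (conj_eq_self h3).le
  obtain ⟨a, b⟩ := h.emb l (h.disj h2)
  rw [card_conj] at b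
  exact ⟨isCyclic_conj_iff.1 a, b ▸ card_dvd_of_le (im_mono l)⟩

theorem piF (hp : p.Prime) (hd : p ∣ Nat.card F[t]) : p ∣ n := by
  have h0 : piCoreOf {p} U[t] ≠ ⊥ := piCoreOf_single_fittingOf (H := U[t]) hp ▸
    piCoreOf_ne_bot_of_nil (F_nil t) hp (Set.mem_singleton p) hd
  have h1 := (prime_dvd_card_of_isPGroup hp ((piCoreOf_isPGroup hp _).to_le inf_le_left)
    (ZOp_ne hp h0)).trans (card_dvd_of_le (le_inf (inf_le_left.trans (piCoreOf_single_le_fittingOf hp))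
      ((ZOp_le hp).trans ((cent_anti inf_le_left).trans ((cent_le_norm _).trans h.NX)))))
  rw [card_eq_card_inf_kr_mul (f := f) inf_le_right, h.Yk] at h1
  exact ((hp.dvd_mul.1 h1).elim (fun a => a.trans h.cycX.2) id).trans h.imY.2

theorem LE : E ⊔ (L ⊓ C1[t]) = L := by
  have := h.et.nrm
  have := h.et.simple
  refine le_antisymm (sup_le h.et.le inf_le_left) fun x xL => ?_
  have xE := conj_mem_of_le_norm h.et.norm xL h.tE
  have x2 := ord2_conj h.ord x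
  obtain ⟨k, hk, e⟩ := sub_conj h.et.dg h.et.nc ((h.et.mem_iff h.ord h.tL).2 h.tE)
    ((h.et.mem_iff x2 (h.et.le xE)).2 xE) (h.et.ord h.ord h.tL) (h.et.ord x2 (h.et.le xE))
  rw [← h.et.imE] at hk
  obtain ⟨a, aL, aE, rfl⟩ := mem_im.1 hk
  rw [← finv, ← fmul, ← fmul] at e
  have e1 := h.et.inj2 (ord2_conj h.ord a) x2 _ xE e
  rw [← mul_inv_cancel_left a x]
  refine mul_mem_sup aE ⟨L.mul_mem (L.inv_mem aL) xL, mem_cent1.2 ?_⟩
  calc a⁻¹ * x * t = a⁻¹ * (x * t * x⁻¹) * x := by group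
    _ = _ := by rw [← e1]; group

theorem NX_eq (h1 : X ≤ F[t] ⊓ O[L]) (h2 : X ≠ ⊥) : N[X] = L :=
  le_antisymm (h.NX_le h1 h2) (h.LE.ge.trans ((sup_le (le_norm_of_cent h.EX) h.nX).trans
    (PG.norm_le_norm_of_isCyclic h.cycX.1 h1)))

theorem idxE : C1[t].relIndex E = (n + r) * r := by
  have e1 : pre f C1[f ⟨t, h.tL⟩] = L ⊓ C1[t] := by
    rw [← h.et.cent1 h.ord h.tL, pre_im_of_le inf_le_left]
    exact h.et.ker ▸ le_inf (O_le L) (h.OU.trans (U_le t))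
  have e2 := relIndex_pre (f := f) (X := C1[f ⟨t, h.tL⟩]) h.et.le
  have e3 := card_inf_mul_relIndex C1[f ⟨t, h.tL⟩] K
  rw [e1, h.et.imE, ← inf_relIndex_right, inf_right_comm, inf_eq_right.2 h.et.le, inf_relIndex_left] at e2
  rw [inf_comm, (h.lt.card_cent (h.et.ord h.ord h.tL)).1 ((h.et.mem_iff h.ord h.tL).2 h.tE), h.lt.card,
    ← e2, mul_assoc (2 * n)] at e3
  have := h.lt.two_le
  exact Nat.eq_of_mul_eq_mul_left (by omega) e3

theorem idxL : C1[t].index * L.relIndex C1[t] = L.index * ((n + r) * r) := by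
  have e1 := relIndex_sup_eq_of_norm_or (H := L ⊓ C1[t]) (K := E) (.inl (inf_le_left.trans h.et.norm))
  rw [sup_comm, h.LE, ← inf_relIndex_right _ E, inf_right_comm, inf_eq_right.2 h.et.le,
    inf_relIndex_left E, h.idxE] at e1
  rw [← e1, mul_comm L.index, relIndex_mul_index inf_le_left, mul_comm, ← inf_relIndex_right,
    relIndex_mul_index inf_le_right]

theorem key (a : G) (ha : a ∈ C1[t]) (b : G) (hb : b ∈ C1[t]) (e : G) (he : e ∈ E) (aL : a ∉ L)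
    (bL : b ∉ L) (c : b⁻¹ * e * a ∈ L) : e ∈ C1[t] := by
  by_contra e1
  have uE := conj_mem_of_le_norm h.et.norm (h.et.le he) h.tE
  have uL := h.et.le uE
  have u2 := ord2_conj h.ord e
  have ut : e * t * e⁻¹ ≠ t := fun c => e1 (mem_cent1.2 (mul_inv_eq_iff_eq_mul.1 c))
  obtain ⟨T, hT, h2, -, h4⟩ := h.lt.tor _ (h.et.ord h.ord h.tL)
  have h5 : F[t] ⊓ F[e * t * e⁻¹] ⊓ N[F[t] ⊓ O[L]] ≤ F[t] ⊓ O[L] := fun y hy => by
    have yL := h.NX hy.2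
    refine ⟨hy.1.1, (h.et.mem_O yL).1 ?_⟩
    by_contra y1
    have := (h4 _ (h.et.imF_le h.lt h.ord h.tL hT (mem_im_of_mem yL ⟨hy.1.1, yL⟩)) fun c => y1
      (eq1_of_odd ((odd_ord (odd_F t) hy.1.1).of_dvd_nat (ford f yL)) c)).1
        ⟨(h.et.mem_iff u2 uL).2 uE, fcent f uL yL (mem_cent1_comm.1 (F_le' _ hy.1.2))⟩
    exact ut (h.et.inj2 u2 h.ord uL h.tE (cyc_uniq hT.cyc this
      (h2 ((h.et.mem_iff h.ord h.tL).2 h.tE)).1 (h.et.ord u2 uL) (h.et.ord h.ord h.tL)))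
  have cF : ∀ x ∈ C1[t], cj[x] (F[t] ⊓ O[L]) ≤ F[t] := fun x hx =>
    (conj_mono x inf_le_left).trans (conj_eq_self (norm_F t hx)).le
  have h6 := nil_le (nil_of_le (F_nil t) inf_le_left) (le_inf inf_le_left (by
    rw [← conj_F, ← conj_eq_self_of_mem_cent (h.EX he)]; exact conj_mono e inf_le_left)) h5
  have h7 : cj[b] (F[t] ⊓ O[L]) ≤ F[e * t * e⁻¹] := by
    rw [← conj_F, ← conj_eq_self ((h.NX_eq le_rfl h.X1).ge c), ← mul_conj,
      show b * (b⁻¹ * e * a) = e * a by group, mul_conj]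
    exact conj_mono e (cF a ha)
  exact h.X1 (conj_eq_bot_iff.1 (eq_bot_iff.2 (h.disj bL ▸ le_inf ((le_inf (cF b hb) h7).trans h6) le_rfl)))

theorem big : (L.relIndex C1[t] - 1) * ((n + r) * r) ^ 2 ≤ C1[t].index * L.relIndex C1[t] := by
  rw [h.idxL, pow_two, ← mul_assoc]
  exact Nat.mul_le_mul_right _ (h.idxE ▸ two_count h.key)

theorem imE : im f (E ⊓ C1[t]) = K ⊓ C1[f ⟨t, h.tL⟩] := by
  rw [im_inf_cent1_of_coprime h.et.le h.tL (le_normalizer h.tE) (by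
    rw [h.ord]; exact Nat.coprime_two_right.2 (odd_card_of_le h.et.ok inf_le_right)), h.et.imE]

theorem exists_s : ∃ s ∈ S ⊓ E, s ∉ A := by
  obtain ⟨T, hT, h2, -⟩ := h.lt.tor _ (h.et.ord h.ord h.tL)
  obtain ⟨a, ha, haT⟩ := hT.ex
  obtain ⟨v, vL, vt, v2, rfl⟩ := h.et.toSec.lift h.ord h.tL (hT.ord ha haT) ha.2
  obtain ⟨g, hg, e⟩ := syl_exists_conj_le Nat.prime_two h.sylL (pg2 v2) (zpowers_le.2 ⟨vL, vt⟩)
  rw [conj_zpowers, zpowers_le] at e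
  refine ⟨_, ⟨e.1, conj_mem_of_le_norm h.et.norm hg.1 ((h.et.mem_iff v2 vL).1 ha.1)⟩,
    h.not_mem (ord2_conj v2 g) fun c => haT ?_⟩
  have : v = t := by
    calc v = g⁻¹ * (g * v * g⁻¹) * g := by group
      _ = t := by rw [c, mul_assoc, ← mem_cent1.1 hg.2, inv_mul_cancel_left]
  subst this
  exact (h2 ha.1).1

section
variable (sS : s ∈ S) (sE : s ∈ E) (sA : s ∉ A)
include sS sE sA

theorem invT {y : Q} (hy : y ∈ K ⊓ C1[f ⟨t, h.tL⟩]) (ho : Odd (orderOf y)) :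
    f ⟨s, h.et.le sE⟩ * y * (f ⟨s, h.et.le sE⟩)⁻¹ = y⁻¹ := by
  obtain ⟨T, hT, h2, -⟩ := h.lt.tor _ (h.et.ord h.ord h.tL)
  have s2 := h.refl_ord sS sA
  exact hT.inv ⟨(h.et.mem_iff s2 _).2 sE, fcent f _ _ (h.cen sS)⟩ (fun c => h.refl_ne sA
    (h.et.inj2 s2 h.ord _ h.tE (cyc_uniq hT.cyc c (h2 ((h.et.mem_iff h.ord h.tL).2 h.tE)).1
      (h.et.ord s2 _) (h.et.ord h.ord h.tL)))) (hT.odd_mem hy ho)

theorem CX : F[t] ⊓ C1[s] = F[t] ⊓ O[L] := by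
  have l : F[t] ⊓ O[L] ≤ F[t] ⊓ C1[s] := le_inf inf_le_left (mem_cent_iff.1 (h.EX sE))
  refine le_antisymm (nil_le (nil_of_le (F_nil t) inf_le_left) l fun y hy => ?_) l
  have yL := h.NX hy.2
  have o := (odd_ord (odd_F t) hy.1.1).of_dvd_nat (ford f yL)
  exact ⟨hy.1.1, (h.et.mem_O yL).1 (eq1_of_inv_fix o (h.invT sS sE sA (h.et.imF h.lt h.ord h.tL
    (mem_im_of_mem yL ⟨hy.1.1, yL⟩)) o) (fcent f yL _ hy.1.2))⟩

theorem sN : zpowers s ≤ N[F[t] ⊓ L] := zp_norm (h.nY ⟨h.et.le sE, h.cen sS⟩)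

theorem Y1E : ⁅F[t] ⊓ L, zpowers s⁆ ≤ E :=
  (commutator_mono le_rfl (zpowers_le.2 sE)).trans
    (commutator_le_of_le_norm_right (inf_le_right.trans h.et.norm))

theorem Ysup : ⁅F[t] ⊓ L, zpowers s⁆ ⊔ (F[t] ⊓ O[L]) = F[t] ⊓ L := by
  have := coprime_commutator_sup_cent (.inl (solv_odd (odd_card_of_le (odd_F t) inf_le_left)))
    (h.sN sS sE sA) (cop2 (odd_card_of_le (odd_F t) inf_le_left) (h.refl_ord sS sA))
  rwa [cent_zpowers, inf_right_comm, h.CX sS sE sA, inf_eq_left.2 (h.XY.trans inf_le_right)] at this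

theorem ab : IsMulCommutative ↥(F[t] ⊓ L) :=
  PG.isMulCommutative_of_isCyclic_im inf_le_right h.imY.1 (by
    rw [h.Yk]
    refine le_cent_symm ((h.Ysup sS sE sA).ge.trans (sup_le ((h.Y1E sS sE sA).trans h.EX) ?_))
    exact comm_iff_le_cent.1 (isMulCommutative_of_isCyclic h.cycX.1))

theorem Y1 : IsCyclic ↥⁅F[t] ⊓ L, zpowers s⁆ ∧
    Nat.card ↥⁅F[t] ⊓ L, zpowers s⁆ = Nat.card (im f (F[t] ⊓ L)) := by
  have l := commutator_le_of_le_norm_left (h.sN sS sE sA)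
  have e := coprime_comm_commutator_inf_cent (h.ab sS sE sA) (h.sN sS sE sA)
    (cop2 (odd_card_of_le (odd_F t) inf_le_left) (h.refl_ord sS sA))
  obtain ⟨a, b⟩ := h.emb l (by
    rw [eq_bot_iff, ← e, cent_zpowers, ← h.CX sS sE sA]
    exact le_inf inf_le_right (inf_le_left.trans inf_le_right))
  refine ⟨a, b.trans ?_⟩
  conv_rhs => rw [← h.Ysup sS sE sA, im_sup (l.trans inf_le_right) (h.XY.trans inf_le_right),
    im_eq_bot_of_le (h.et.ker ▸ inf_le_right : F[t] ⊓ O[L] ≤ kr f), sup_bot_eq]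

end

end Eg

end Cfsg.Agent.GW
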