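import Cfsg.Agent.GW.E2

/-! Gorenstein-Walter, part Ib: the configuration `Cf`. -/

set_option autoImplicit false
set_option linter.unusedSectionVars false
set_option linter.unusedVariables false

namespace Cfsg.Agent.GW

open Cfsg Subgroup Cfsg.Agent.GT Cfsg.Agent.Cls Cfsg.Agent.GW.Ia
open scoped commutatorElement

universe u

variable {G : Type u} [Group G] [Finite G] {p q n r : ℕ} {A B D E H L M P R S W X Y Z : Subgroup G}
  {t s u v w x y z g σ : G}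
variable {Q : Type u} [Group Q] [Finite Q] {f : L →* Q} {K T : Subgroup Q}

namespace Eg
variable [IsSimpleGroup G] (h : Eg S A L E t f K n r)
include h

theorem AC (SE : S ≤ E) : A ≤ C[U[t]] := by
  obtain ⟨T, hT, h2, -⟩ := h.lt.tor _ (h.et.ord h.ord h.tL)
  have AE := h.dih.le.trans SE
  have At := h.dih.le.trans h.cen
  have A2 := h.pg.to_le h.dih.le
  have l : im f A ≤ T := fun y hy => by
    obtain ⟨a, aL, aA, rfl⟩ := mem_im.1 hy
    by_contra e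
    have e1 := hT.ord (h.imE ▸ mem_im_of_mem aL ⟨AE aA, At aA⟩) e
    have e2 : a * a ∈ O[L] ⊓ A := ⟨(h.et.mem_O (L.mul_mem aL aL)).1 (by rw [fmul f aL aL, sq1 e1]),
      A.mul_mem aA aA⟩
    rw [GT.inf_eq_bot_of_coprime (cop2' (O_odd L) A2), mem_bot] at e2
    have := h.uniq aA e2 fun c => ne1 e1 (by subst c; exact map_one f)
    subst this
    exact e (h2 ((h.et.mem_iff h.ord h.tL).2 h.tE)).1
  exact coprime_le_cent_of_le_cent_fittingOf (O_solv _) (At.trans (norm_U t)) (cop2' (O_odd _) A2)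
    (h.et.cent_F inf_le_left h.NX AE At A2 ((h.et.imF_le h.lt h.ord h.tL hT).trans
      ((comm_iff_le_cent.1 (isMulCommutative_of_isCyclic hT.cyc)).trans (cent_anti l))))

theorem imW : im f (U[t] ⊓ L) = O[C1[f ⟨t, h.tL⟩]] := by
  have a := ((h.dg.hall_cent h.ord).normal_inf (O_norm _) (inf_le_right : L ⊓ C1[t] ≤ _)).im
    (f := f) inf_le_left
  rw [h.et.cent1 h.ord h.tL, ← inf_assoc, inf_eq_left.2 (inf_le_left.trans (U_le t))] at a
  exact (h.et.dg.hall_cent (h.et.ord h.ord h.tL)).eq_of_normal (O_norm _) a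

theorem kk (SE : S ≤ E) (sS : s ∈ S) (sA : s ∉ A) :
    Nat.card A * C1[s].relIndex U[t] = L.relIndex U[t] * n := by
  have := h.et.nrm
  have sE := SE sS
  have sL := h.et.le sE
  have s2 := h.refl_ord sS sA
  have t2 := h.et.ord h.ord h.tL
  have l1 : C1[s] ⊓ U[t] ≤ L := (le_norm_inf (inf_le_right.trans ((U_le t).trans (norm_F t)))
    (le_norm_cent1 inf_le_left)).trans (h.CX sS sE sA ▸ h.NX)
  have e1 : C1[s].relIndex U[t] = C1[s].relIndex (L ⊓ U[t]) * L.relIndex U[t] := by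
    rw [relIndex_inf_mul_relIndex, ← inf_relIndex_right, ← inf_relIndex_right (C1[s] ⊓ L),
      inf_right_comm, inf_eq_left.2 l1]
  have e2 : pre f C1[f ⟨s, sL⟩] = L ⊓ C1[s] := by
    rw [← h.et.cent1 s2 sL, pre_im_of_le inf_le_left]
    exact h.et.ker ▸ le_inf (O_le L) (mem_cent_iff.1 (h.et.cO sE))
  have e3 := relIndex_pre (f := f) (X := C1[f ⟨s, sL⟩]) (inf_le_right : U[t] ⊓ L ≤ L)
  rw [e2, h.imW, ← inf_relIndex_right, inf_right_comm, inf_eq_right.2 inf_le_right, inf_relIndex_left,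
    inf_comm] at e3
  have nO : zpowers (f ⟨s, sL⟩) ≤ N[O[C1[f ⟨t, h.tL⟩]]] := zp_norm (O_norm _ (fcent f sL _ (h.cen sS)))
  have e4 : ⁅O[C1[f ⟨t, h.tL⟩]], zpowers (f ⟨s, sL⟩)⁆ = O[C1[f ⟨t, h.tL⟩]] ⊓ (K ⊓ C1[f ⟨t, h.tL⟩]) :=
    le_antisymm (le_inf (commutator_le_of_le_norm_left nO) (le_inf (h.et.comm_le _ _)
      ((commutator_le_of_le_norm_left nO).trans (O_le _)))) fun y hy =>
      mem_comm_of_inv hy.1 (odd_ord (O_odd _) hy.1) (h.invT sS sE sA hy.2 (odd_ord (O_odd _) hy.1))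
  have e5 := (isComplIn_of_norm (.inr (le_norm_commutator (le_norm_self inf_le_left)
    (le_norm_of_cent inf_le_right))) (by
      rw [e4, cent_zpowers, eq_bot_iff]
      exact fun y hy => eq1_of_inv_fix (odd_ord (O_odd _) hy.1.1) (h.invT sS sE sA hy.1.2
        (odd_ord (O_odd _) hy.1.1)) hy.2.2) (coprime_commutator_sup_cent (.inl (O_solv _)) nO
      (cop2 (O_odd _) (h.et.ord s2 sL)))).relIndex_right
  rw [inf_relIndex_left, cent_zpowers, e4, ← e3] at e5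
  have a1 := (h.sylH.of_le (le_inf SE h.cen) inf_le_right).im (f := f) (inf_le_left.trans h.et.le)
  rw [h.imE] at a1
  have e6 := (a1.isComplIn ((h.et.dg.hall_cent t2).normal_inf (O_norm _) inf_le_right)).card_mul
  rw [card_im_of_inf_eq_bot (SE.trans h.et.le) (GT.inf_eq_bot_of_coprime (cop2' h.et.ok h.pg).symm),
    h.dih.card, (h.lt.card_cent t2).1 ((h.et.mem_iff h.ord h.tL).2 h.tE), ← e5, mul_assoc] at e6
  rw [e1, ← mul_assoc, Nat.eq_of_mul_eq_mul_left two_pos e6, mul_comm]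

theorem exists_outer (sS : s ∈ S) (sE : s ∈ E) (sA : s ∉ A) (SE : ¬ S ≤ E) :
    ∃ σ ∈ S ⊓ L, σ ∉ A ∧ σ ∉ E := by
  obtain ⟨a, ha, aE⟩ := SetLike.exists_of_lt (lt_inf_norm_of_isPGroup Nat.prime_two h.pg
    (inf_lt_left.2 SE : S ⊓ E < S))
  have e : F[t] ⊓ C[S ⊓ E] = F[t] ⊓ O[L] := le_antisymm
    ((inf_le_inf_left _ (cent_le_cent1 (mem_inf.2 ⟨sS, sE⟩))).trans (h.CX sS sE sA).le)
    (le_inf inf_le_left ((le_cent_symm h.EX).trans (cent_anti inf_le_right)))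
  have aL : a ∈ L := h.NX (e ▸ le_norm_inf (inf_le_left.trans (h.cen.trans (norm_F t)))
    (le_norm_cent inf_le_right) ha)
  by_cases aA : a ∈ A
  · exact ⟨a * s, ⟨S.mul_mem ha.1 sS, L.mul_mem aL (h.et.le sE)⟩,
      fun c => sA ((A.mul_mem_cancel_left aA).1 c), fun c => aE ⟨ha.1, (E.mul_mem_cancel_right sE).1 c⟩⟩
  · exact ⟨a, ⟨ha.1, aL⟩, aA, fun c => aE ⟨ha.1, c⟩⟩

theorem cop_r (sS : s ∈ S) (sE : s ∈ E) (sA : s ∉ A) (hσ : orderOf σ = 2) (σL : σ ∈ L)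
    (σt : σ ∈ C1[t]) : r.Coprime (C1[σ].relIndex (L ⊓ U[t])) := by
  refine coprime_of_forall_prime fun p hp h1 h2 => ?_
  have p2 : p ≠ 2 := by rintro rfl; exact h.lt.odd.not_two_dvd_nat h1
  have pn := not_dvd_of_coprime h.lt.cop.symm hp h1
  have oW : Odd (Nat.card ↥(L ⊓ U[t])) := odd_card_of_le (O_odd _) inf_le_right
  obtain ⟨R, hR, nR⟩ := coprime_exists_syl hp (.inl (solv_odd oW))
    (zp_norm (le_norm_inf (le_norm_self inf_le_left) (inf_le_right.trans (norm_U t)) ⟨σL, σt⟩))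
    (cop2 oW hσ)
  have l1 := commutator_le_of_le_norm_left nR
  have pR := (syl_isPGroup hp hR).to_le l1
  have RL := hR.le.trans inf_le_left
  have RU := l1.trans (hR.le.trans inf_le_right)
  have l2 : ⁅R, zpowers σ⁆ ≤ O[L] := by
    rw [← h.et.ker, ← im_eq_bot_iff (l1.trans RL)]
    by_contra e
    have := (prime_dvd_card_of_isPGroup hp (isPGroup_im pR) e).trans (card_dvd_of_le (le_inf
      ((im_commutator RL (zpowers_le.2 σL)).le.trans (h.et.comm_le _ _)) (h.et.cent1 h.ord h.tL ▸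
        im_mono (le_inf (l1.trans RL) (RU.trans (U_le t))))))
    rw [(h.lt.card_cent (h.et.ord h.ord h.tL)).1 ((h.et.mem_iff h.ord h.tL).2 h.tE)] at this
    exact (hp.dvd_mul.1 this).elim (fun a => p2 ((Nat.prime_dvd_prime_iff_eq hp Nat.prime_two).1 a)) pn
  have nX := (h.NX_eq le_rfl h.X1).ge
  have c1 : (Nat.card F[t]).Coprime (Nat.card ↥⁅R, zpowers σ⁆) := IsPiSubgroup.coprime'
    ((isPiSubgroup_single_compl_iff hp).2 fun e => pn (h.piF hp e)) (isPi_of_isPGroup hp pR)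
  have l3 : ⁅R, zpowers σ⁆ = ⊥ := eq_bot_of_le_of_coprime (le_fittingOf_of_le_cent (O_solv _) RU
    (axb (F_nil t) inf_le_left (h.XY.trans inf_le_right) (inf_le_right.trans ((cent_le_norm _).trans h.NX))
      (RU.trans ((U_le t).trans (norm_F t))) c1 (by
        rw [← h.Ysup sS sE sA, cent_sup]
        exact le_inf (l2.trans ((le_cent_symm h.et.cO).trans (cent_anti (h.Y1E sS sE sA))))
          (PG.commutator_le_cent_of_isCyclic h.cycX.1 (RL.trans nX) ((zpowers_le.2 σL).trans nX)))))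
    le_rfl c1
  exact syl_not_dvd hp hR (h2.trans (relIndex_dvd_of_le_left _ (comm_eq_bot_iff.1 l3)))

theorem r_dvd (sS : s ∈ S) (sE : s ∈ E) (sA : s ∉ A) (SE : ¬ S ≤ E) : r ∣ L.relIndex U[t] := by
  obtain ⟨σ, ⟨σS, σL⟩, σA, σE⟩ := h.exists_outer sS sE sA SE
  have σ2 := h.refl_ord σS σA
  have tσ : t ∈ C1[σ] := mem_cent1_comm.1 (h.cen σS)
  have t2 := h.et.ord h.ord h.tL
  obtain ⟨T, hT, -, h3, -⟩ := h.lt.tor _ (h.et.ord σ2 σL)
  have cT := h3 (mt (h.et.mem_iff σ2 σL).1 σE)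
  obtain ⟨a, rfl⟩ := PG.isCyclic_iff_exists.1 hT.cyc
  rw [Nat.card_zpowers] at cT
  have i1 := hT.inv ⟨(h.et.mem_iff h.ord h.tL).2 h.tE, fcent f h.tL σL tσ⟩ (fun e => by
    have := orderOf_dvd_of_mem_zpowers e
    rw [t2, cT] at this
    exact h.lt.odd.not_two_dvd_nat this) (inv_mem (mem_zpowers a))
  have ha := (hT.le (mem_zpowers a)).2
  rw [← h.et.cent1 σ2 σL] at ha
  obtain ⟨y, yL, hy, rfl⟩ := mem_im.1 ha
  have dL : y * (t * y⁻¹ * t⁻¹) ∈ L := L.mul_mem yL (conj_mem_of_mem_norm (le_normalizer h.tL) (L.inv_mem yL))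
  have fd : f ⟨_, dL⟩ = f ⟨y, yL⟩ ^ 2 := by
    rw [inv_inv, ← finv, ← finv, ← fmul, ← fmul] at i1
    rw [pow_two]
    nth_rewrite 2 [← i1]
    exact fmul f _ _
  have od : orderOf (f ⟨_, dL⟩) = r := by
    rw [fd, ← cT, (Nat.coprime_two_right.2 (cT ▸ h.lt.odd)).orderOf_pow]
  have o1 : Odd (orderOf (y * (t * y⁻¹ * t⁻¹))) := by
    have : (y * (t * y⁻¹ * t⁻¹)) ^ r ∈ O[L] := (h.et.mem_O (L.pow_mem dL r)).1
      ((map_pow f ⟨_, dL⟩ r).trans (by rw [← od, pow_orderOf_eq_one]))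
    exact (h.lt.odd.mul (odd_ord (O_odd L) this)).of_dvd_nat (orderOf_dvd_of_pow_eq_one (by
      rw [pow_mul, pow_orderOf_eq_one]))
  obtain ⟨g, g1, g2⟩ := h.cyc3' σ2 h.ord (h.refl_ne σA).symm (mem_cent1.1 tσ)
  have w2 := ord2_mul σ2 h.ord (h.refl_ne σA).symm (mem_cent1.1 tσ)
  have wt : σ * t ∈ C1[t] := Subgroup.mul_mem _ (h.cen σS) (self_mem_cent1 t)
  have d1 := ord_dvd_relIndex (O_odd _) (norm_U t wt) (x := g * (y * (t * y⁻¹ * t⁻¹)) * g⁻¹)
    (h.dg.mem_O h.ord (by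
      rw [← g1, ← conj_cent1, conj_mem_conj, g1]
      exact Subgroup.mul_mem _ hy.2 (conj_mem_of_mem_norm (le_normalizer tσ) (Subgroup.inv_mem _ hy.2)))
      (by rwa [GT.orderOf_conj])) (by
      rw [← g2]
      calc _ = g * (t * y * (t * y⁻¹) * (t * t)⁻¹) * g⁻¹ := by group
        _ = g * (t * y * (t⁻¹ * y⁻¹)) * g⁻¹ := by rw [sq1 h.ord, inv2 h.ord]; group
        _ = _ := by group)
  rw [GT.orderOf_conj] at d1
  refine (h.cop_r sS sE sA w2 (L.mul_mem σL h.tL) wt).dvd_of_dvd_mul_left ?_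
  rw [relIndex_inf_mul_relIndex]
  exact ((od ▸ ford f dL).trans d1).trans (relIndex_dvd_of_le_left _ inf_le_left)

end Eg

theorem Min.exists_Cf [IsSimpleGroup G] (h : Min S A t) (pp : PP.{u}) (hm : IsCoatom C1[t])
    (hE : ¬ NoE t) : ∃ (S A L X : Subgroup G) (t s : G) (n r : ℕ), Cf S A L X t s n r := by
  obtain ⟨S, A, L, E, t, Q, _, _, f, K, n, r, h⟩ := h.exists_Eg pp hm hE
  obtain ⟨s, ⟨sS, sE⟩, sA⟩ := h.exists_s
  have Y1 := h.Y1 sS sE sA
  refine ⟨S, A, L, _, t, s, n, r, h.toMin, h.max, sS, sA, h.X1, h.cycX.1, h.CX sS sE sA,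
    fun _ => h.NX_eq, h.HL, h.ab sS sE sA, Y1.1, Y1.2 ▸ h.cycX.2, Y1.2 ▸ h.imY.2, h.lt.even, h.lt.ar,
    h.lt.pp, h.big, h.idxL ▸ (dvd_mul_right _ _).mul_left _, ?_⟩
  by_cases SE : S ≤ E
  · exact .inr ⟨SE.trans h.et.le, h.AC SE, h.kk SE sS sA⟩
  · exact .inl (h.r_dvd sS sE sA SE)

end Cfsg.Agent.GW
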