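import Cfsg.Agent.GW.EDef

/-! Gorenstein-Walter, part Ib, step E4: preliminaries. -/

set_option autoImplicit false
set_option linter.unusedSectionVars false
set_option linter.unusedVariables false

namespace Cfsg.Agent.GW.E4

open Cfsg Subgroup Cfsg.Agent.GT Cfsg.Agent.Cls Cfsg.Agent.GW.Ia
open scoped commutatorElement

universe u

variable {G : Type u} [Group G] [Finite G] {S A B D I K L N W X Z : Subgroup G}
  {t s v x y : G} {n r p : ℕ}

theorem card_not_mem (h : N ≤ D) : Nat.card {x : G // x ∈ D ∧ x ∉ N} + Nat.card N = Nat.card D := by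
  have := Set.ncard_diff_add_ncard_of_subset (s := (N : Set G)) (t := (D : Set G)) h
  rwa [← Nat.card_coe_set_eq, ← Nat.card_coe_set_eq, ← Nat.card_coe_set_eq] at this

/-- At most `p + 1` conjugates of a subgroup between two normal subgroups of index `p ^ 2`. -/
theorem count (hp : p.Prime) (hW : K ≤ N[W]) (hN : K ≤ N[N]) (h1 : N ≤ D) (h2 : D ≤ W)
    (c1 : Nat.card D = p * Nat.card N) (c2 : Nat.card W = p * Nat.card D) :
    N[D].relIndex K ≤ p + 1 := by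
  have key : Nat.card ((K ⧸ N[D].subgroupOf K) × {x : G // x ∈ D ∧ x ∉ N}) ≤
      Nat.card {x : G // x ∈ W ∧ x ∉ N} := by
    refine Nat.card_le_card_of_injective (fun q => ⟨q.1.out * q.2 * (q.1.out : G)⁻¹,
      conj_mem_of_le_norm hW q.1.out.2 (h2 q.2.2.1), fun e => q.2.2.2 (by
        simpa [mul_assoc] using conj_mem_of_le_norm' hN q.1.out.2 e)⟩) ?_
    rintro ⟨a, d⟩ ⟨b, e⟩ h
    have h' : (a.out : G) * d * (a.out : G)⁻¹ = b.out * e * (b.out : G)⁻¹ := congrArg Subtype.val h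
    have hk : (a.out : G)⁻¹ * b.out ∈ K := K.mul_mem (K.inv_mem a.out.2) b.out.2
    have e1 : (a.out : G)⁻¹ * b.out * e * ((a.out : G)⁻¹ * b.out)⁻¹ = d := by
      calc _ = (a.out : G)⁻¹ * (b.out * e * (b.out : G)⁻¹) * a.out := by group
        _ = _ := by rw [← h']; group
    have e2 : cj[(a.out : G)⁻¹ * b.out] D ⊓ D = D :=
      (PG.eq_or_eq_of_card_eq_mul hp (le_inf (conj_eq_self (hN hk) ▸ conj_mono _ h1) h1)
        inf_le_right c1).resolve_left fun e' =>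
          d.2.2 (e'.le ⟨e1 ▸ conj_mem_conj.2 e.2.1, d.2.1⟩)
    have e3 : a = b := by
      rw [← a.out_eq', ← b.out_eq', QuotientGroup.eq, mem_subgroupOf]
      exact conj_eq_self_iff.1 (eq_of_le_of_card_ge (inf_eq_right.1 e2) (card_conj _ _).le).symm
    subst e3
    exact Prod.ext rfl (Subtype.ext (by simpa using h'))
  have a1 := card_not_mem h1
  have a2 := card_not_mem (h1.trans h2)
  rw [Nat.card_prod] at key
  have h0 := card_pos' N
  have h3 := hp.two_le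
  by_contra hlt
  have h4 : (p + 2) * Nat.card {x : G // x ∈ D ∧ x ∉ N} ≤ Nat.card {x : G // x ∈ W ∧ x ∉ N} :=
    (Nat.mul_le_mul_right _ (show p + 2 ≤ N[D].relIndex K by omega)).trans key
  rw [c2, c1] at a2
  rw [c1] at a1
  nlinarith

theorem card_V (ht : orderOf t = 2) (hv : orderOf v = 2) (hvt : v ≠ t) (c : v * t = t * v) :
    Nat.card ↥(zpowers t ⊔ zpowers v) = 4 := by
  rw [PG.card_sup_zpowers Nat.prime_two (cent_le_norm _ (by rwa [cent_zpowers, mem_cent1]))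
    (by rw [← hv, pow_orderOf_eq_one]; exact one_mem _) fun e => ?_, Nat.card_zpowers, ht]
  rcases (TT.mem_zpowers_of_sq (sq1 ht)).1 e with e | e
  exacts [ne1 hv e, hvt e]

theorem rel2 (h : St S A t) (hv : v ∈ S) (hvA : v ∉ A) :
    2 * C1[v].relIndex C1[t] = Nat.card A * C1[v].relIndex U[t] := by
  obtain ⟨v2, vt, c⟩ := st_refl h hv hvA
  have sd := st_sd h
  have e1 := sd.card_mul
  have e2 := card_inf_mul_relIndex C1[v] C1[t]
  have e3 := cent_sup_of_inf_eq_bot (A := zpowers v) (zpowers_le.2 (norm_U t (h.cen hv)))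
    (zpowers_le.2 (le_normalizer hv)) sd.inf_eq (.inr sd.right_norm)
  rw [sd.sup_eq, cent_zpowers, inf_comm] at e3
  have e4 : Nat.card ↥(U[t] ⊓ C1[v] ⊔ S ⊓ C1[v]) = _ := card_sup_of_inf_eq_bot
    (.inr (le_norm_inf (inf_le_left.trans sd.right_norm) (le_norm_self inf_le_right)))
    (eq_bot_iff.2 (sd.inf_eq ▸ inf_le_inf inf_le_left inf_le_left))
  have e5 := card_inf_mul_relIndex C1[v] U[t]
  have e6 : S ⊓ C1[v] = zpowers t ⊔ zpowers v := le_antisymm (fun x hx => (mem_V h.ord v2 c).2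
    (h.dg.cent_V h.ord v2 vt c (h.pg.to_le (zpowers_le.2 hx.1)) (h.cen hx.1) hx.2))
    (V_le ⟨h.memS, mem_cent1.2 c.symm⟩ ⟨hv, self_mem_cent1 v⟩)
  rw [inf_comm] at e5
  rw [e3, e4, ← e1, ← e5, e6, card_V h.ord v2 vt c, h.dih.card] at e2
  refine Nat.eq_of_mul_eq_mul_left (card_pos' (U[t] ⊓ C1[v])) ?_
  linarith

theorem arith {c i q : ℕ} (h6 : 6 ≤ n) (h3 : 3 ≤ c) (hc : 2 * c ≤ n) (hr : n ≤ r + 1)
    (hq : q = n + r) (h1 : 4 * i ≤ 15 * (c * n) ^ 2) (h2 : (c - 1) * (q * r) ^ 2 ≤ i * c) :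
    False := by
  obtain ⟨c, rfl⟩ : ∃ d, c = d + 1 := ⟨c - 1, by omega⟩
  rw [Nat.add_sub_cancel] at h2
  have a1 : 3 * n ^ 2 ≤ 2 * (q * r) := by subst hq; nlinarith
  have a2 : (3 * n ^ 2) ^ 2 ≤ (2 * (q * r)) ^ 2 := Nat.pow_le_pow_left a1 2
  have a3 : n ^ 2 * (9 * c * n ^ 2) ≤ n ^ 2 * (15 * (c + 1) ^ 3) := by
    calc n ^ 2 * (9 * c * n ^ 2) = c * (3 * n ^ 2) ^ 2 := by ring
      _ ≤ c * (2 * (q * r)) ^ 2 := Nat.mul_le_mul_left _ a2
      _ = 4 * (c * (q * r) ^ 2) := by ring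
      _ ≤ 4 * (i * (c + 1)) := Nat.mul_le_mul_left _ h2
      _ = 4 * i * (c + 1) := by ring
      _ ≤ 15 * ((c + 1) * n) ^ 2 * (c + 1) := Nat.mul_le_mul_right _ h1
      _ = _ := by ring
  have a4 := Nat.le_of_mul_le_mul_left a3 (by positivity)
  have a5 : (2 * (c + 1)) ^ 2 ≤ n ^ 2 := Nat.pow_le_pow_left hc 2
  have a6 : (c + 1) ^ 2 * (36 * c) ≤ (c + 1) ^ 2 * (15 * (c + 1)) := by
    calc (c + 1) ^ 2 * (36 * c) = 9 * c * (2 * (c + 1)) ^ 2 := by ring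
      _ ≤ 9 * c * n ^ 2 := Nat.mul_le_mul_left _ a5
      _ ≤ _ := a4
      _ = _ := by ring
  have a7 := Nat.le_of_mul_le_mul_left a6 (by positivity)
  omega

theorem cent_eq (h : St S A t) (hv : v ∈ S) (hvA : v ∉ A) (hA : A ≤ C[U[t]]) :
    U[t] ⊓ C[S] = U[t] ⊓ C1[v] :=
  le_antisymm (inf_le_inf_left _ (cent_le_cent1 hv)) fun y hy => ⟨hy.1, fun x hx => by
    by_cases hxA : x ∈ A
    · exact (hA hxA y hy.1).symm
    · have e1 := hA (st_mul_mem h hv hvA hx hxA) y hy.1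
      rwa [mul_assoc, ← mem_cent1.1 hy.2, ← mul_assoc, ← mul_assoc, mul_left_inj, eq_comm] at e1⟩

theorem cop [IsSimpleGroup G] (h : St S A t) (hm : IsCoatom C1[t]) (hI : I ≤ U[t])
    (hn : C1[t] ≤ N[I]) (hs : ∀ y ∈ I, s * y * s⁻¹ = y⁻¹)
    (inv : ∀ x ∈ S, x ∉ A → ∀ y ∈ I, x * y * x⁻¹ = y⁻¹) :
    (C1[t].index).Coprime (Nat.card I) := coprime_of_forall_prime fun p hp h1 h2 => by
  have h3 := piCoreOf_ne_bot_of_nil (π := {p}) (nilpotent_of_comm' (comm_of_inv hs)) hp rfl h2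
  have h4 := piCoreOf_le {p} I
  exact st_gcd h hp (h4.trans hI) h3 (piCoreOf_isPGroup hp I)
    (norm_eq_of_coatom hm h3 (h4.trans (hI.trans (U_le t))) (le_norm_piCoreOf hn))
    (fun x hx hxA y hy => inv x hx hxA y (h4 hy)) h1

section
variable (h : Cf S A L X t s n r)
include h

theorem s2 : orderOf s = 2 := h.toSt.refl_ord h.sS h.sA

theorem sH : s ∈ C1[t] := h.cen h.sS

theorem XF : X ≤ F[t] := h.CX ▸ inf_le_left

theorem Xs : X ≤ C1[s] := h.CX ▸ inf_le_right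

theorem NL : N[X] = L := h.NX X le_rfl h.X1

theorem CL (hB : B ≤ X) (h1 : B ≠ ⊥) : C[B] ≤ L := h.NX B hB h1 ▸ cent_le_norm B

theorem XY : X ≤ F[t] ⊓ L := le_inf (XF h) (NL h ▸ le_normalizer)

theorem sL : s ∈ L := CL h le_rfl h.X1 (mem_cent_iff.2 (Xs h))

theorem nY : C1[t] ⊓ L ≤ N[F[t] ⊓ L] :=
  le_norm_inf (inf_le_left.trans (norm_F t)) (le_norm_self inf_le_right)

theorem sY : s ∈ N[F[t] ⊓ L] := nY h ⟨sH h, sL h⟩

theorem oddY : Odd (Nat.card ↥(F[t] ⊓ L)) := odd_card_of_le (odd_F t) inf_le_left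

theorem CUL : U[t] ⊓ C1[s] ≤ L := by
  rw [← NL h, ← h.CX]
  exact le_norm_inf (inf_le_left.trans ((U_le t).trans (norm_F t))) (le_norm_self inf_le_right)

theorem Y1le : ⁅F[t] ⊓ L, zpowers s⁆ ≤ F[t] ⊓ L := commutator_le_of_le_norm_left (zp_norm (sY h))

theorem Y1inf : ⁅F[t] ⊓ L, zpowers s⁆ ⊓ X = ⊥ := by
  have := coprime_comm_commutator_inf_cent h.ab (zp_norm (sY h)) (GW.cop2 (oddY h) (s2 h))
  rw [cent_zpowers] at this
  exact eq_bot_iff.2 (this ▸ inf_le_inf_left _ (Xs h))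

theorem nums (hp : p.Prime) (hd : p ∣ Nat.card X) : p ≠ 2 ∧ 3 ≤ p ∧ p ∣ n ∧ 2 * p ≤ n ∧
    n ≤ r + 1 ∧ ¬ p ∣ r := by
  have p2 := PG.ne_two_of_odd_of_dvd (odd_card_of_le (odd_F t) (XF h)) hd
  have pn := hd.trans (h.dvd1.trans h.dvd2)
  have := hp.two_le
  have n0 : n ≠ 0 := by
    rintro rfl
    have := h.pp
    rcases h.ar with e | e
    · rw [e] at this; exact not_isPrimePow_one this
    · omega
  have h2 := Nat.le_of_dvd (Nat.pos_of_ne_zero n0) (Nat.Coprime.mul_dvd_of_dvd_of_dvd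
    ((Nat.coprime_primes Nat.prime_two hp).2 p2.symm) h.even.two_dvd pn)
  refine ⟨p2, by omega, pn, h2, by rcases h.ar with e | e <;> omega, fun e => hp.one_lt.ne' ?_⟩
  rcases h.ar with e' | e'
  · exact Nat.dvd_one.1 ((Nat.dvd_add_right pn).1 (e' ▸ e))
  · exact Nat.dvd_one.1 ((Nat.dvd_add_right e).1 (e' ▸ pn))

theorem memA : y ∈ omegaOne p (F[t] ⊓ L) ↔ y ∈ F[t] ⊓ L ∧ y ^ p = 1 :=
  PG.mem_omegaOne_iff_of_comm h.ab

theorem cardA (hp : p.Prime) (hB : B ≤ X) (cB : Nat.card B = p) :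
    Nat.card (omegaOne p (F[t] ⊓ L)) = p * p := by
  have hd : p ∣ Nat.card X := cB ▸ card_dvd_of_le hB
  have c1 := PG.card_omegaOne_of_isCyclic_of_dvd hp h.cyc hd
  have c2 := PG.card_omegaOne_of_isCyclic_of_dvd hp h.cycY (hd.trans h.dvd1)
  have cm := isMulCommutative_iff_forall.1 h.ab
  have e : omegaOne p (F[t] ⊓ L) = omegaOne p X ⊔ omegaOne p ⁅F[t] ⊓ L, zpowers s⁆ := by
    refine le_antisymm (PG.omegaOne_le_iff.2 fun y hy e => ?_)
      (sup_le (PG.omegaOne_mono (XY h)) (PG.omegaOne_mono (Y1le h)))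
    obtain ⟨c, hc, a, ha, -, rfl⟩ := dec2 (sq1 (s2 h)) (sY h) (oddY h) hy
    have hc' : c ∈ X := h.CX ▸ ⟨hc.1.1, hc.2⟩
    rw [(show Commute c a from cm c hc.1 a (Y1le h ha)).mul_pow] at e
    have h1 : a ^ p ∈ ⁅F[t] ⊓ L, zpowers s⁆ ⊓ X := ⟨pow_mem ha p, by
      rw [eq_inv_of_mul_eq_one_right e]; exact X.inv_mem (X.pow_mem hc' p)⟩
    rw [Y1inf h, mem_bot] at h1
    rw [h1, mul_one] at e
    exact mul_mem (mem_sup_left (PG.mem_omegaOne hc' e)) (mem_sup_right (PG.mem_omegaOne ha h1))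
  rw [e, card_sup_of_inf_eq_bot (.inl (le_norm_of_cent fun x hx y hy =>
    cm y (Y1le h (PG.omegaOne_le _ _ hy)) x (XY h (PG.omegaOne_le _ _ hx))))
    (eq_bot_iff.2 (Y1inf h ▸ le_inf (inf_le_right.trans (PG.omegaOne_le _ _))
      (inf_le_left.trans (PG.omegaOne_le _ _)))), c1, c2]

theorem BA (hB : B ≤ X) (cB : Nat.card B = p) : B ≤ omegaOne p (F[t] ⊓ L) :=
  PG.le_omegaOne_of_card_eq cB (hB.trans (XY h))

theorem relU (hS : S ≤ L) : L.relIndex C1[t] = L.relIndex U[t] := by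
  have sd := st_sd h.toSt
  have := relIndex_sup_eq_of_norm_or (H := L ⊓ C1[t]) (K := U[t])
    (.inl (inf_le_right.trans (norm_U t)))
  rw [show L ⊓ C1[t] ⊔ U[t] = C1[t] from le_antisymm (sup_le inf_le_right (U_le t))
    (sd.sup_eq.ge.trans (sup_le le_sup_right ((le_inf hS h.cen).trans le_sup_left))),
    inf_relIndex_right, ← inf_relIndex_right _ U[t], inf_assoc, inf_eq_right.2 (U_le t),
    inf_relIndex_right] at this
  exact this

/-- Case (i). -/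
theorem not_norm (pf1 : PF1 G) (hp : p.Prime) (hB : B ≤ X) (cB : Nat.card B = p) :
    ¬ C1[t] ≤ N[omegaOne p (F[t] ⊓ L)] := fun hn => by
  obtain ⟨p2, p3, pn, n2, nr, pr⟩ := nums h hp (cB ▸ card_dvd_of_le hB)
  have c1 := count hp ((U_le t).trans hn) (N := ⊥) (D := B) (by rw [norm_bot]; exact le_top) bot_le
    (BA h hB cB) (by rw [cB, card_bot, mul_one]) (by rw [cardA h hp hB cB, cB])
  rw [h.NX B hB (ne_bot_of_card_prime (cB ▸ hp))] at c1
  have c0 := relIndex_pos L U[t]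
  rcases h.dich with e | ⟨hS, hA, e⟩
  · have := Nat.le_of_dvd c0 e
    omega
  obtain ⟨σ, hσ⟩ := PG.isCyclic_iff_exists.1 h.dih.cyc
  have hσA : σ ∈ A := hσ ▸ mem_zpowers σ
  have k1 := pf1 S A t s σ h.toSt h.sS h.sA hσ
  have k2 := rel2 h.toSt h.sS h.sA
  have hw := S.mul_mem h.sS (h.dih.le hσA)
  have hwA : s * σ ∉ A := fun e => h.sA ((A.mul_mem_cancel_right hσA).1 e)
  have k3 := rel2 h.toSt hw hwA
  rw [← inf_relIndex_right _ U[t], inf_comm, ← cent_eq h.toSt hw hwA hA,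
    cent_eq h.toSt h.sS h.sA hA, inf_comm, inf_relIndex_right] at k3
  have big := h.big
  rw [relU h hS] at big
  obtain ⟨k, hk⟩ := (odd_O C1[t]).of_dvd_nat (relIndex_dvd_card' L U[t])
  obtain ⟨k', hk'⟩ := hp.odd_of_ne_two p2
  have c2 : L.relIndex U[t] ≠ 1 := fun e => h.HL (relIndex_eq_one.1 (relU h hS ▸ e))
  refine arith (by omega) (by omega) (by omega) nr rfl ?_ big
  rw [e] at k2 k3
  calc 4 * C1[t].index ≤ 4 * (15 * (C1[s].relIndex C1[t] * C1[s * σ].relIndex C1[t])) :=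
        Nat.mul_le_mul_left _ k1
    _ = 15 * (2 * C1[s].relIndex C1[t] * (2 * C1[s * σ].relIndex C1[t])) := by ring
    _ = _ := by rw [k2, k3, pow_two]

end

end Cfsg.Agent.GW.E4
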