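import Cfsg.Agent.GW.E4a

/-! Gorenstein-Walter, part Ib, step E4. -/

set_option autoImplicit false
set_option linter.unusedSectionVars false
set_option linter.unusedVariables false

namespace Cfsg.Agent.GW

open Cfsg Subgroup Cfsg.Agent.GT Cfsg.Agent.Cls Cfsg.Agent.GW.Ia
open scoped commutatorElement

universe u

variable {G : Type u} [Group G] [Finite G] [IsSimpleGroup G] {S A B D I K L N W X Z : Subgroup G}
  {t s v x y b : G} {n r p : ℕ}

namespace E4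

local notation3 "P[" p ", " t "]" => piCoreOf ({p} : Set ℕ) U[t]
local notation3 "F'[" p ", " t "]" => piCoreOf ({p} : Set ℕ)ᶜ F[t]
local notation3 "Z[" p ", " t "]" => omegaOne p (P[p, t] ⊓ C[P[p, t]])
local notation3 "W[" p ", " t "]" => omegaOne p (PG.z2 P[p, t])

theorem memP (hp : p.Prime) (hy : y ∈ F[t]) (e : y ^ p = 1) : y ∈ P[p, t] :=
  le_piCoreOf_of_le_fittingOf (zpowers_le.2 hy) (isPi_of_isPGroup hp
    (PG.isPGroup_zpowers_of_pow_eq_one (k := 1) (by rwa [pow_one]))) (mem_zpowers y)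

theorem FP (hp : p.Prime) : F'[p, t] ≤ C[P[p, t]] :=
  piCoreOf_single_fittingOf (H := U[t]) hp ▸ piCoreOf_compl_le_cent

theorem supF (hp : p.Prime) : P[p, t] ⊔ F'[p, t] = F[t] :=
  piCoreOf_single_fittingOf (H := U[t]) hp ▸ nil_piCoreOf_sup_compl (fittingOf_nilpotent _) _

theorem nF' : C1[t] ≤ N[F'[p, t]] := le_norm_piCoreOf (norm_F t)

theorem nZ : C1[t] ≤ N[Z[p, t]] :=
  PG.le_norm_omegaOne (le_norm_inf (norm_O p t) (le_norm_cent (norm_O p t)))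

theorem nW : C1[t] ≤ N[W[p, t]] := PG.le_norm_omegaOne (PG.le_norm_z2 (norm_O p t))

theorem ZP : Z[p, t] ≤ P[p, t] ⊓ C[P[p, t]] := PG.omegaOne_le _ _

theorem WP : W[p, t] ≤ P[p, t] := (PG.omegaOne_le _ _).trans (PG.z2_le _)

theorem ZW : Z[p, t] ≤ W[p, t] := PG.omegaOne_mono (PG.center_le_z2 _)

theorem II_mul (hx : ∀ y ∈ K, x * y * x⁻¹ = y⁻¹) (hz : ∀ y ∈ K, v * y * v⁻¹ = y⁻¹) :
    x * v ∈ C[K] := fun y hy => by
  have : x * v * y * (x * v)⁻¹ = y := by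
    rw [show x * v * y * (x * v)⁻¹ = x * (v * y * v⁻¹) * x⁻¹ by group, hz y hy,
      hx _ (K.inv_mem hy), inv_inv]
  exact (mul_inv_eq_iff_eq_mul.1 this).symm

/-- The data of step E4 once the prime is chosen. -/
structure Dt (S A L X B : Subgroup G) (t s : G) (n r p : ℕ) : Prop extends Cf S A L X t s n r where
  pr : p.Prime
  BX : B ≤ X
  cB : Nat.card B = p
  nn : ¬ C1[t] ≤ N[omegaOne p (F[t] ⊓ L)]

namespace Dt

variable (h : Dt S A L X B t s n r p)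
include h

theorem B1 : B ≠ ⊥ := ne_bot_of_card_prime (h.cB ▸ h.pr)

theorem p2 : p ≠ 2 := (nums h.toCf h.pr (h.cB ▸ card_dvd_of_le h.BX)).1

theorem Xp : IsPGroup p X := (isPiSubgroup_single_iff h.pr).1 fun q hq hd => by
  by_contra hne
  obtain ⟨B', h1, h2⟩ := exists_le_card_eq_prime hq hd
  have h3 : P[p, t] ≤ L := ((Op_cent h.pr hq (Ne.symm hne)).trans (cent_anti
    (le_piCoreOf_of_le_fittingOf (h1.trans (XF h.toCf)) (isPi_of_isPGroup hq
      (isPGroup_of_card_eq_prime h2))))).trans (CL h.toCf h1 (ne_bot_of_card_prime (h2 ▸ hq)))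
  refine h.nn (le_norm_iff.2 fun a ha y hy => ?_)
  rw [memA h.toCf] at hy ⊢
  have h4 := conj_mem_of_le_norm (norm_O p t) ha (memP h.pr hy.1.1 hy.2)
  exact ⟨⟨O_le_F h.pr t h4, h3 h4⟩, by rw [conj_pow, hy.2]; simp⟩

theorem XP : X ≤ P[p, t] := le_piCoreOf_of_le_fittingOf (XF h.toCf) (isPi_of_isPGroup h.pr h.Xp)

theorem FL : F'[p, t] ≤ L := ((FP h.pr).trans (cent_anti h.XP)).trans (CL h.toCf le_rfl h.X1)

theorem invF : ∀ y ∈ F'[p, t], s * y * s⁻¹ = y⁻¹ := fun y hy =>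
  inv_of_fpf (sq1 (s2 h.toCf)) (nF' (sH h.toCf)) (odd_card_of_le (odd_F t) (piCoreOf_le _ _))
    (IsPiSubgroup.eq_bot ((isPi_of_isPGroup h.pr h.Xp).of_le
      (h.CX ▸ inf_le_inf_right _ (piCoreOf_le _ _))) (piCoreOf_isPi _ _).inf_left) hy

theorem cycF : IsCyclic F'[p, t] := isCyclic_of_le h.cycY fun y hy =>
  mem_comm_of_inv ⟨piCoreOf_le _ _ hy, h.FL hy⟩ (Ia.odd_ord (odd_F t) (piCoreOf_le _ _ hy))
    (h.invF y hy)

theorem om (hy : y ∈ P[p, t]) (hL : y ∈ L) (e : y ^ p = 1) : y ∈ omegaOne p (F[t] ⊓ L) :=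
  (memA h.toCf).2 ⟨⟨O_le_F h.pr t hy, hL⟩, e⟩

theorem ZA : Z[p, t] ≤ omegaOne p (F[t] ⊓ L) := PG.omegaOne_le_iff.2 fun y hy e =>
  h.om hy.1 (CL h.toCf h.BX h.B1 (cent_anti (h.BX.trans h.XP) hy.2)) e

theorem cA : Nat.card (omegaOne p (F[t] ⊓ L)) = p * p := cardA h.toCf h.pr h.BX h.cB

theorem cZ : Nat.card Z[p, t] = p := by
  have := Fact.mk h.pr
  have h1 : Z[p, t] ≠ ⊥ := PG.omegaOne_ne_bot (piCoreOf_isPGroup h.pr _).to_inf_left
    (ZOp_ne h.pr (ne_bot_of_le h.X1 h.XP))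
  have h2 := card_dvd_of_le h.ZA
  rw [h.cA, ← pow_two, Nat.dvd_prime_pow h.pr] at h2
  obtain ⟨k, hk, e⟩ := h2
  interval_cases k
  · exact absurd (card_eq_one.1 e) h1
  · rw [e, pow_one]
  · exact absurd (eq_of_le_of_card_ge h.ZA (by rw [h.cA, e, pow_two]) ▸ nZ) h.nn

theorem BZ : B ⊓ Z[p, t] = ⊥ :=
  (le_or_inf_eq_bot_of_card_prime (h.cB ▸ h.pr) _).resolve_left fun e => h.HL (by
    rw [← h.NX B h.BX h.B1, eq_of_le_of_card_ge e (h.cZ.trans h.cB.symm).le]; exact nZ)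

theorem BX' (hK : K ≤ X) (h1 : K ≠ ⊥) : B ≤ K := by
  have := Fact.mk h.pr
  rw [PG.eq_omegaOne_of_isCyclic h.pr h.cyc h.BX h.cB]
  exact PG.omegaOne_le_of_isCyclic h.cyc h.Xp hK h1

theorem inv_of (hK : K ≤ F[t]) (hn : s ∈ N[K]) (hB : ¬ B ≤ K) : ∀ y ∈ K, s * y * s⁻¹ = y⁻¹ :=
  fun y hy => inv_of_fpf (sq1 (s2 h.toCf)) hn (odd_card_of_le (odd_F t) hK) (by_contra fun e =>
    hB ((h.BX' (h.CX ▸ inf_le_inf_right _ hK) e).trans inf_le_left)) hy

theorem eA : B ⊔ Z[p, t] = omegaOne p (F[t] ⊓ L) :=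
  eq_of_le_of_card_ge (sup_le (BA h.toCf h.BX h.cB) h.ZA) (by
    rw [card_sup_of_inf_eq_bot (.inr (le_norm_of_cent ((ZP.trans inf_le_right).trans
      (cent_anti (h.BX.trans h.XP))))) h.BZ, h.cA, h.cB, h.cZ])

theorem cAZ : Nat.card (omegaOne p (F[t] ⊓ L)) = p * Nat.card Z[p, t] := by rw [h.cA, h.cZ]

theorem expW : ∀ w ∈ W[p, t], w ^ p = 1 := PG.forall_pow_omegaOne_z2 h.pr h.p2 _

theorem cWP : ⁅W[p, t], P[p, t]⁆ ≤ Z[p, t] := PG.commutator_omegaOne_z2_le h.pr h.p2 _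

theorem AP : omegaOne p (F[t] ⊓ L) ≤ P[p, t] :=
  h.eA ▸ sup_le (h.BX.trans h.XP) (ZP.trans inf_le_left)

theorem leW : p ^ 2 ≤ Nat.card W[p, t] := by
  have := Fact.mk h.pr
  refine PG.sq_le_card_omegaOne_z2 h.p2 (piCoreOf_isPGroup h.pr _) fun e => ?_
  have h1 := PG.card_dvd_of_isCyclic_of_forall_pow (isCyclic_of_le e h.AP)
    fun x hx => ((memA h.toCf).1 hx).2
  have h2 := Nat.le_of_dvd h.pr.pos h1
  have := h.pr.two_le
  rw [h.cA] at h2
  nlinarith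

theorem WB : W[p, t] ⊓ C[B] ≤ omegaOne p (F[t] ⊓ L) := fun y hy =>
  h.om (WP hy.1) (CL h.toCf h.BX h.B1 hy.2) (h.expW y hy.1)

theorem relW : C[B].relIndex W[p, t] ∣ p := by
  obtain ⟨b, hb, hb1⟩ := exists_ne_one_of_ne_bot h.B1
  rw [cent_eq_cent1_of_card_prime (h.cB ▸ h.pr) hb hb1]
  nth_rw 3 [← h.cZ]
  exact PG.relIndex_cent1_dvd (fun x hx => PG.commutator_mem_comm.1
    (h.cWP (commutator_mem_commutator hx (h.XP (h.BX hb)))))
    (le_cent_symm ((ZP.trans inf_le_right).trans (cent_anti WP)))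

/-- Case (ii). -/
theorem BW (tc : TC G) : B ≤ W[p, t] := by
  by_contra hBW
  have := Fact.mk h.pr
  have hP := piCoreOf_isPGroup h.pr U[t]
  have e1 : C[B] ⊓ W[p, t] = Z[p, t] := by
    rw [inf_comm]
    refine (PG.eq_or_eq_of_card_eq_mul h.pr (le_inf ZW ((ZP.trans inf_le_right).trans
      (cent_anti (h.BX.trans h.XP)))) h.WB h.cAZ).resolve_right fun e => hBW ?_
    exact (BA h.toCf h.BX h.cB).trans (e ▸ inf_le_left)
  have c1 := card_inf_mul_relIndex C[B] W[p, t]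
  rw [e1, h.cZ] at c1
  have c2 : Nat.card W[p, t] = p * Nat.card Z[p, t] := by
    have := h.leW
    have := h.pr.two_le
    rcases (Nat.dvd_prime h.pr).1 h.relW with e | e <;> rw [e] at c1
    · nlinarith
    · rw [h.cZ, c1]
  have Wc := isMulCommutative_iff_le_cent.1 (PG.isMulCommutative_of_card_dvd_sq (p := p)
    (H := W[p, t]) (by rw [c2, h.cZ, pow_two]))
  have nA : C1[t] ≤ N[P[p, t] ⊓ C[W[p, t]]] := le_norm_inf (norm_O p t) (le_norm_cent nW)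
  have AF : P[p, t] ⊓ C[W[p, t]] ≤ F[t] := inf_le_left.trans (O_le_F h.pr t)
  have iA := h.inv_of AF (nA (sH h.toCf)) fun e => by
    rw [inf_eq_right.2 (le_cent_symm (e.trans inf_le_right))] at e1
    rw [e1] at c2
    have := h.pr.two_le
    have := card_pos' Z[p, t]
    nlinarith
  have WA : W[p, t] ≤ P[p, t] ⊓ C[W[p, t]] := le_inf WP Wc
  have AP' : P[p, t] ⊓ C[W[p, t]] ≤ P[p, t] := inf_le_left
  have self : P[p, t] ⊓ C[P[p, t] ⊓ C[W[p, t]]] ≤ P[p, t] ⊓ C[W[p, t]] :=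
    inf_le_inf_left _ (cent_anti WA)
  have WA' := WA
  generalize P[p, t] ⊓ C[W[p, t]] = A0 at nA AF iA AP' self WA'
  have FA : F'[p, t] ≤ C[A0] := (FP h.pr).trans (cent_anti AP')
  have nI : C1[t] ≤ N[A0 ⊔ F'[p, t]] := le_norm_sup nA nF'
  have IF : A0 ⊔ F'[p, t] ≤ F[t] := sup_le AF (piCoreOf_le _ _)
  have iI : ∀ y ∈ A0 ⊔ F'[p, t], s * y * s⁻¹ = y⁻¹ := fun y hy => by
    obtain ⟨a, ha, f, hf, rfl⟩ := (mem_sup_of_le_norm' (le_norm_of_cent FA)).1 hy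
    rw [show s * (a * f) * s⁻¹ = s * a * s⁻¹ * (s * f * s⁻¹) by group, iA a ha, h.invF f hf,
      ← mul_inv_rev, FA hf a ha]
  have FC : F'[p, t] ≤ U[t] ⊓ C[A0 ⊔ F'[p, t]] := le_inf ((piCoreOf_le _ _).trans (F_le t)) (by
    rw [cent_sup]; exact le_inf FA (isMulCommutative_iff_le_cent.1 (comm_of_inv h.invF)))
  have hall : IsPiHallOf ({p} : Set ℕ)ᶜ F'[p, t] (U[t] ⊓ C[A0 ⊔ F'[p, t]]) := by
    refine isPiHallOf_of_forall_syl_le FC (piCoreOf_isPi _ _) fun q hq hqp _ => ?_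
    obtain ⟨R, hR⟩ := exists_syl hq (U[t] ⊓ C[A0 ⊔ F'[p, t]])
    have Rq := syl_isPGroup hq hR
    have RU : R ≤ U[t] := hR.le.trans inf_le_left
    have RC : R ≤ C[A0] ⊓ C[F'[p, t]] := cent_sup A0 _ ▸ hR.le.trans inf_le_right
    have h1 : R ≤ C[P[p, t]] := coprime_nil_le_cent (nilpotent_of_isPGroup h.pr hP)
      (RU.trans (self_le_norm_piCoreOf _ _)) (cop_pq h.pr hq (Ne.symm hqp) hP Rq)
      (((inf_le_inf_left _ (cent_anti (le_inf AP' (le_cent_symm (RC.trans inf_le_left))))).trans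
        self).trans (le_cent_symm (RC.trans inf_le_left)))
    have h2 : R ≤ F[t] := le_fittingOf_of_le_cent (solv_O _) RU (by
      rw [← supF h.pr, cent_sup]; exact le_inf h1 (RC.trans inf_le_right))
    exact ⟨R, hR, nil_le_piCoreOf (fittingOf_nilpotent _) h2 (isPi_of_isPGroup_mem hq Rq hqp)⟩
  have CI : U[t] ⊓ C[A0 ⊔ F'[p, t]] ≤ A0 ⊔ F'[p, t] := by
    obtain ⟨R, hR⟩ := exists_syl h.pr (U[t] ⊓ C[A0 ⊔ F'[p, t]])
    have e := hR.sup_eq hall
    have h1 : U[t] ⊓ C[A0 ⊔ F'[p, t]] ≤ F[t] := le_fittingOf inf_le_left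
      (le_norm_inf le_normalizer (le_norm_cent ((U_le t).trans nI))) (by
        rw [← e]
        exact nilpotent_sup_of_le_cent (nilpotent_of_isPGroup h.pr (syl_isPGroup h.pr hR))
          (nilpotent_of_le_fittingOf (piCoreOf_le _ _))
          (hR.le.trans (inf_le_right.trans (cent_anti le_sup_right))))
    rw [← e]
    exact sup_le_sup_right ((le_inf (le_piCoreOf_of_le_fittingOf (hR.le.trans h1) hR.isPi)
      (hR.le.trans (inf_le_right.trans (cent_anti le_sup_left)))).trans self) _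
  have hU : A0 ⊔ F'[p, t] ⊔ U[t] ⊓ C1[s] = U[t] := by
    refine le_antisymm (sup_le (IF.trans (F_le t)) inf_le_left) fun u hu => ?_
    obtain ⟨x, hx, c, hc, -, -, e2, e3⟩ :=
      exists_inv_mul (odd_O _) (sq1 (s2 h.toCf)) (norm_U t (sH h.toCf)) hu
    rw [e3]
    refine mul_mem (mem_sup_left (zpowers_le.2 (CI ⟨?_, ?_⟩) hx))
      (mem_sup_right ⟨hc, mem_cent1.2 e2.symm⟩)
    · rw [show u * s * u⁻¹ * s⁻¹ = u * (s * u⁻¹ * s⁻¹) by group]
      exact mul_mem hu (conj_mem_of_mem_norm (norm_U t (sH h.toCf)) (inv_mem hu))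
    · refine II_mul (fun y hy => ?_) fun y hy => ?_
      · have := iI _ (conj_mem_of_le_norm' nI (U_le t hu) hy)
        calc u * s * u⁻¹ * y * (u * s * u⁻¹)⁻¹ = u * (s * (u⁻¹ * y * u) * s⁻¹) * u⁻¹ := by group
          _ = _ := by rw [this]; group
      · rw [inv2 (s2 h.toCf)]; rw [← iI y hy, inv2 (s2 h.toCf)]
  obtain ⟨p2, p3, pn, n2, nr, pr⟩ := nums h.toCf h.pr (h.cB ▸ card_dvd_of_le h.BX)
  rcases h.dich with e | ⟨hS, hA, -⟩
  · have e1 := relIndex_sup_eq_of_norm_or (H := L ⊓ U[t]) (K := A0)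
      (.inl (inf_le_right.trans ((U_le t).trans nA)))
    rw [show L ⊓ U[t] ⊔ A0 = U[t] from le_antisymm (sup_le inf_le_right (AF.trans (F_le t)))
      (hU.ge.trans (sup_le (sup_le le_sup_right ((le_inf h.FL ((piCoreOf_le _ _).trans
        (F_le t))).trans le_sup_left)) ((le_inf (CUL h.toCf) inf_le_left).trans le_sup_left))),
      inf_relIndex_right] at e1
    obtain ⟨k, hk⟩ := PG.exists_relIndex_eq_pow (hP.to_le AP') (L ⊓ U[t])
    rw [e1, hk] at e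
    have := Nat.Coprime.eq_one_of_dvd (((Nat.Prime.coprime_iff_not_dvd h.pr).2 pr).symm.pow_right k) e
    omega
  · have inv := st_inv h.toSt h.sS h.sA (hA.trans (cent_anti (IF.trans (F_le t)))) iI
    have := tc S A _ t h.toSt hA (IF.trans (F_le t)) (ne_bot_of_le (fun e => by
      rw [e, card_bot] at c2
      have := h.pr.two_le
      have := card_pos' Z[p, t]
      nlinarith) (WA'.trans le_sup_left)) nI inv (by rw [cent_eq h.toSt h.sS h.sA hA, hU])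
      (cop h.toSt h.max (IF.trans (F_le t)) nI iI inv)
    rw [cent_eq h.toSt h.sS h.sA hA] at this
    exact h.X1 (eq_bot_iff.2 (this ▸ le_inf ((XF h.toCf).trans (F_le t)) (Xs h.toCf)))

/-- Case (iii). -/
theorem cg (tc : TC G) : Cg S A L X B Z[p, t] W[p, t] t s n r p := by
  obtain ⟨p2, p3, pn, n2, nr, pr⟩ := nums h.toCf h.pr (h.cB ▸ card_dvd_of_le h.BX)
  have hBW := h.BW tc
  have AW : omegaOne p (F[t] ⊓ L) ≤ W[p, t] := h.eA ▸ sup_le hBW ZW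
  have e1 : W[p, t] ⊓ C[B] = omegaOne p (F[t] ⊓ L) := le_antisymm h.WB (le_inf AW
    (((PG.omegaOne_le _ _).trans (isMulCommutative_iff_le_cent.1 h.ab)).trans
      (cent_anti (h.BX.trans (XY h.toCf)))))
  have r1 : C[B].relIndex W[p, t] = p :=
    ((Nat.dvd_prime h.pr).1 h.relW).resolve_left fun e => h.nn (by
      rw [← e1, inf_eq_left.2 (relIndex_eq_one.1 e)]; exact nW)
  have c1 := card_inf_mul_relIndex C[B] W[p, t]
  rw [inf_comm, e1, r1] at c1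
  have HA : C1[t] ⊓ L ≤ N[omegaOne p (F[t] ⊓ L)] := PG.le_norm_omegaOne (nY h.toCf)
  have UA : U[t] ⊓ L ≤ N[omegaOne p (F[t] ⊓ L)] := (inf_le_inf_right _ (U_le t)).trans HA
  have d1 := count h.pr (K := N[omegaOne p (F[t] ⊓ L)] ⊓ U[t]) inf_le_left (N := ⊥) (D := B)
    (by rw [norm_bot]; exact le_top) bot_le (BA h.toCf h.BX h.cB)
    (by rw [h.cB, card_bot, mul_one]) (by rw [h.cA, h.cB])
  rw [h.NX B h.BX h.B1] at d1
  have d2 := count h.pr ((U_le t).trans nW) ((U_le t).trans nZ) h.ZA AW h.cAZ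
    (by rw [← c1, mul_comm])
  have WK : W[p, t] ≤ N[omegaOne p (F[t] ⊓ L)] ⊓ U[t] := le_inf (le_norm_of_commutator_le
    ((commutator_mono AW WP).trans h.cWP) h.ZA) (WP.trans (piCoreOf_le _ _))
  have d3 := relIndex_dvd_relIndex_of_norm_or (H := L ⊓ (N[omegaOne p (F[t] ⊓ L)] ⊓ U[t]))
    inf_le_right WK (.inl (inf_le_right.trans (inf_le_right.trans ((U_le t).trans nW))))
  rw [inf_relIndex_right, ← inf_relIndex_right _ W[p, t], inf_assoc, inf_eq_right.2 WK,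
    show L ⊓ W[p, t] = C[B] ⊓ W[p, t] from le_antisymm (le_inf (fun y hy =>
      (e1.ge (h.om (WP hy.2) hy.1 (h.expW y hy.2))).2) inf_le_right)
      (inf_le_inf_right _ (CL h.toCf h.BX h.B1)), inf_relIndex_right, r1] at d3
  have d4 : L.relIndex (N[omegaOne p (F[t] ⊓ L)] ⊓ U[t]) = p := by
    obtain ⟨k, hk⟩ := d3
    have := relIndex_pos L (N[omegaOne p (F[t] ⊓ L)] ⊓ U[t])
    rw [hk] at d1 this ⊢
    rcases k with _ | _ | k
    · omega
    · omega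
    · nlinarith
  have cc : L.relIndex U[t] = p * N[omegaOne p (F[t] ⊓ L)].relIndex U[t] := by
    have := relIndex_mul_relIndex (L ⊓ U[t]) (N[omegaOne p (F[t] ⊓ L)] ⊓ U[t]) U[t]
      (le_inf ((inf_comm _ _).le.trans UA) inf_le_right) inf_le_right
    rw [inf_relIndex_right, inf_relIndex_right, ← inf_relIndex_right _ (_ ⊓ U[t]), inf_assoc,
      inf_eq_right.2 (inf_le_right : _ ⊓ U[t] ≤ U[t]), inf_relIndex_right, d4] at this
    exact this.symm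
  have c0 := relIndex_pos N[omegaOne p (F[t] ⊓ L)] U[t]
  obtain ⟨hS, hA, kk⟩ := h.dich.resolve_left fun e => by
    rw [cc] at e
    have := Nat.le_of_dvd c0
      (((Nat.Prime.coprime_iff_not_dvd h.pr).2 pr).symm.dvd_of_dvd_mul_left e)
    omega
  have c2 : N[omegaOne p (F[t] ⊓ L)].relIndex U[t] ≠ 1 := fun e => h.nn
    ((st_sd h.toSt).sup_eq.ge.trans (sup_le (relIndex_eq_one.1 e) ((le_inf h.cen hS).trans HA)))
  rw [← h.eA] at e1 UA cc d2 c0 c2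
  exact ⟨h.toCf, hS, hA, kk, h.pr, p2, h.Xp, h.BX, h.cB, h.cZ, by rw [← c1, h.cA]; ring, hBW, ZW,
    WP, nZ, nW, h.inv_of (ZP.trans (inf_le_left.trans (O_le_F h.pr t))) (nZ (sH h.toCf))
      fun e => h.B1 (by rw [← h.BZ, inf_eq_left.2 e]), ZP.trans inf_le_right, h.cWP, h.expW, e1,
    fun y hy e => h.eA ▸ h.om hy.1 hy.2 e, h.cycF, h.invF, UA, cc, d2, by omega⟩

end Dt

end E4

theorem Cf.toCg (h : Cf S A L X t s n r) (pf1 : PF1 G) (tc : Ia.TC G) :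
    ∃ (B Z W : Subgroup G) (p : ℕ), Cg S A L X B Z W t s n r p := by
  obtain ⟨p, hp, hd⟩ := exists_prime_dvd_card h.X1
  obtain ⟨B, hB, cB⟩ := exists_le_card_eq_prime hp hd
  exact ⟨B, _, _, p, E4.Dt.cg ⟨h, hp, hB, cB, E4.not_norm h pf1 hp hB cB⟩ tc⟩

end Cfsg.Agent.GW
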