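import Cfsg.Agent.GW.EDef
import Cfsg.Agent.PG.GL2

/-! Gorenstein-Walter, part Ib: the structure of `O(C(t))` in the last case. -/

set_option autoImplicit false
set_option linter.unusedSectionVars false
set_option linter.unusedVariables false

namespace Cfsg.Agent.GW

open Cfsg Subgroup Cfsg.Agent.GT Cfsg.Agent.Cls Cfsg.Agent.GW.Ia
open scoped commutatorElement

universe u

variable {G : Type u} [Group G] [Finite G] [IsSimpleGroup G] {S A L X B Z W K R : Subgroup G} {t s y : G}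
  {n r p : ℕ}

theorem F_le_sup (hp : p.Prime) (t : G) : F[t] ≤ piCoreOf {p} U[t] ⊔ piCoreOf ({p} : Set ℕ)ᶜ F[t] := by
  have := fittingOf_le_sup_piCoreOf (H := F[t]) {p}
  rwa [fittingOf_eq_self (fittingOf_nilpotent _), piCoreOf_single_fittingOf hp] at this

theorem mem_F_of_cent (hp : p.Prime) (hy : y ∈ U[t]) (h1 : y ∈ C[piCoreOf {p} U[t]])
    (h2 : y ∈ C[piCoreOf ({p} : Set ℕ)ᶜ F[t]]) : y ∈ F[t] :=
  inf_cent_fittingOf_le (O_solv _) ⟨hy, cent_anti (F_le_sup hp t) (by rw [cent_sup]; exact ⟨h1, h2⟩)⟩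

theorem norm_F' (p : ℕ) (t : G) : C1[t] ≤ N[piCoreOf ({p} : Set ℕ)ᶜ F[t]] := le_norm_piCoreOf (norm_F t)

/-- A normal subgroup of `U` centralising `F'` whose `p'`-elements lie in `F` lies in `F`. -/
theorem le_F_of (hp : p.Prime) (h1 : K ≤ U[t]) (h2 : U[t] ≤ N[K]) (h3 : K ≤ C[piCoreOf ({p} : Set ℕ)ᶜ F[t]])
    (h4 : ∀ y ∈ K, ¬ p ∣ orderOf y → y ∈ F[t]) : K ≤ F[t] := by
  have hs := solv_of_le (O_solv C1[t]) h1
  obtain ⟨R, hR⟩ := exists_hall {p} hs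
  obtain ⟨Q, hQ⟩ := exists_hall ({p} : Set ℕ)ᶜ hs
  have q1 : Q ≤ F[t] := fun y hy => h4 y (hQ.le hy) fun k =>
    (piNat_single_compl_iff hp).1 (isPiSubgroup_iff.1 hQ.isPi) (k.trans (orderOf_dvd_card_of_mem hy))
  have q2 : Q ≤ piCoreOf ({p} : Set ℕ)ᶜ F[t] := le_piCoreOf_of_le_fittingOf
    (by rwa [fittingOf_eq_self (fittingOf_nilpotent _)]) hQ.isPi
  have e := hR.sup_eq hQ
  have q3 : K ≤ N[R] := e ▸ sup_le le_normalizer
    (le_norm_of_cent (le_cent_symm (hR.le.trans (h3.trans (cent_anti q2)))))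
  exact e ▸ sup_le ((hR.eq_piCoreOf q3).le.trans ((piCoreOf_le_of_normal h1 h2).trans (O_le_F hp t))) q1

theorem Cf.sH (h : Cf S A L X t s n r) : s ∈ C1[t] := h.cen h.sS
theorem Cf.os (h : Cf S A L X t s n r) : orderOf s = 2 := h.toSt.refl_ord h.sS h.sA
theorem Cf.XF (h : Cf S A L X t s n r) : X ≤ F[t] := h.CX ▸ inf_le_left
theorem Cf.Xs (h : Cf S A L X t s n r) : X ≤ C1[s] := h.CX ▸ inf_le_right
theorem Cf.CUL (h : Cf S A L X t s n r) : U[t] ⊓ C1[s] ≤ L := by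
  rw [← h.NX X le_rfl h.X1, ← h.CX]
  exact le_norm_inf (inf_le_left.trans ((U_le t).trans (norm_F t))) (le_norm_cent1 inf_le_right)

namespace Cg

variable (h : Cg S A L X B Z W t s n r p)
include h

theorem B1 : B ≠ ⊥ := fun e => by have := h.cB; rw [e, card_bot] at this; exact h.pr.one_lt.ne this
theorem Z1 : Z ≠ ⊥ := fun e => by have := h.cZ; rw [e, card_bot] at this; exact h.pr.one_lt.ne this
theorem NB : N[B] = L := h.NX B h.BX h.B1
theorem WU : W ≤ U[t] := h.WP.trans (piCoreOf_le _ _)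
theorem WF : W ≤ F[t] := h.WP.trans (O_le_F h.pr t)
theorem Wp : IsPGroup p W := (piCoreOf_isPGroup h.pr _).to_le h.WP
theorem cycZ : IsCyclic Z := have := Fact.mk h.pr; PG.isCyclic_of_card_le_p (h.Wp.to_le h.ZW) h.cZ.le
theorem ZcW : Z ≤ C[W] := h.ZP.trans (cent_anti h.WP)
theorem AW : B ⊔ Z ≤ W := sup_le h.BW h.ZW
theorem WWZ : ⁅W, W⁆ ≤ Z := (commutator_mono le_rfl h.WP).trans h.cWP

theorem BZ : B ⊓ Z = ⊥ := eq_bot_iff.2 ((le_inf inf_le_right (inf_le_left.trans (h.BX.trans h.Xs))).trans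
  (fpf_of_inv (odd_p h.pr h.p2 (h.Wp.to_le h.ZW)) h.invZ).le)

theorem cA : Nat.card ↥(B ⊔ Z) = p ^ 2 := by
  rw [card_sup_of_inf_eq_bot (.inr (le_norm_of_cent (h.ZcW.trans (cent_anti h.BW)))) h.BZ, h.cB, h.cZ, sq]

theorem zW : W ⊓ C[W] = Z := by
  have h1 : W ⊓ C[W] ≤ B ⊔ Z := h.cBW ▸ inf_le_inf_left _ (cent_anti h.BW)
  refine (PG.eq_or_eq_of_card_eq_mul h.pr (le_inf h.ZW h.ZcW) h1 (by rw [h.cA, h.cZ, sq])).resolve_right fun e => ?_
  have h2 : W ≤ B ⊔ Z := h.cBW ▸ le_inf le_rfl (le_cent_symm (le_sup_left.trans (e.ge.trans inf_le_right)))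
  have := card_le_of_le h2
  rw [h.cA, h.cW] at this
  exact absurd ((Nat.pow_le_pow_iff_right h.pr.one_lt).1 this) (by norm_num)

theorem FN : F[t] ≤ N[B ⊔ Z] := (F_le_sup h.pr t).trans (sup_le
  (le_norm_of_commutator_le_of_le h.AW (h.cWP.trans le_sup_right))
  (le_norm_of_cent ((by rw [← piCoreOf_single_fittingOf h.pr]; exact piCoreOf_compl_le_cent :
    _ ≤ C[piCoreOf {p} U[t]]).trans (cent_anti (h.AW.trans h.WP)))))

theorem cop (hK : IsPGroup p K) (hp : ¬ p ∣ orderOf y) : (Nat.card K).Coprime (Nat.card (zpowers y)) := by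
  have := Fact.mk h.pr
  rw [Nat.card_zpowers]
  exact (PG.coprime_card_of_coprime hK ((Nat.Prime.coprime_iff_not_dvd h.pr).2 hp).symm).symm

/-- A `p'`-element centralising `W` centralises `O_p(U)`. -/
theorem cP (hy : y ∈ U[t]) (hp : ¬ p ∣ orderOf y) (hW : y ∈ C[W]) : y ∈ C[piCoreOf {p} U[t]] := by
  have hL : C[B] ≤ L := h.NB ▸ cent_le_norm B
  have pP := piCoreOf_isPGroup h.pr U[t]
  refine zpowers_le.1 (arrow_axb h.pr (h.BW.trans h.WF) (h.NB ▸ le_normalizer) (inf_le_right.trans hL)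
    (zpowers_le.2 hy) (isPiSubgroup_zpowers_iff.2 ((piNat_single_compl_iff h.pr).2 hp))
    (coprime_comm_le_cent_of_prime_order (comm_of_le h.ab (inf_le_inf_right _ (O_le_F h.pr t)))
      (le_norm_inf (zpowers_le.2 (self_le_norm_piCoreOf _ _ hy))
        (le_norm_self (zpowers_le.2 (hL (cent_anti h.BW hW))))) (h.cop (pP.to_le inf_le_left) hp) fun x hx o => ?_))
  obtain ⟨k, hk⟩ := PG.exists_pow_eq_one pP hx.1
  have e : orderOf x = p := (Nat.prime_dvd_prime_iff_eq o h.pr).1 (o.dvd_of_dvd_pow (orderOf_dvd_of_pow_eq_one hk))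
  exact le_cent_symm (zpowers_le.2 hW) (h.AW (h.om x hx (e ▸ pow_orderOf_eq_one x)))

theorem cent (hy : y ∈ U[t]) (hp : ¬ p ∣ orderOf y)
    (hZ : y ∈ C[Z]) (hF : y ∈ C[piCoreOf ({p} : Set ℕ)ᶜ F[t]]) (hyF : y ∉ F[t]) : W ⊓ C1[y] = Z := by
  have := Fact.mk h.pr
  have h1 : Z ≤ W ⊓ C1[y] := le_inf h.ZW (cent_zpowers y ▸ le_cent_symm (zpowers_le.2 hZ))
  by_contra n
  obtain ⟨D, d1, d2, -, d3⟩ := PG.exists_card_eq_mul_of_lt (h.Wp.to_le inf_le_left) (lt_of_le_of_ne h1 (Ne.symm n))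
  have d4 : D ≤ W := d2.trans inf_le_left
  have d5 : W ⊓ C[D] = D := by
    refine (PG.eq_or_eq_of_card_eq_mul h.pr (le_inf d4 (comm_iff_le_cent.1 (PG.isMulCommutative_of_card_dvd_sq (p := p)
      (by rw [d3, h.cZ, sq])))) inf_le_left (by rw [d3, h.cZ, h.cW]; ring)).resolve_right fun e => ?_
    have := card_le_of_le (h.zW ▸ le_inf d4 (le_cent_symm (e.ge.trans inf_le_right)) : D ≤ Z)
    rw [d3, h.cZ] at this
    nlinarith [h.pr.two_le]
  refine hyF (mem_F_of_cent h.pr hy (h.cP hy hp (zpowers_le.1 (coprime_nil_le_cent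
    (PG.isNilpotent_of_isPGroup h.Wp) (zpowers_le.2 (h.nW (U_le t hy))) (h.cop h.Wp hp) ?_))) hF)
  rw [cent_zpowers]
  exact (inf_le_inf_left _ (cent_anti d2)).trans (d5.le.trans (d2.trans inf_le_right))

theorem HH_F' : ⁅C1[t], C1[t]⁆ ≤ C[piCoreOf ({p} : Set ℕ)ᶜ F[t]] :=
  PG.commutator_le_cent_of_isCyclic h.cycF (norm_F' p t) (norm_F' p t)

theorem HH_Z : ⁅C1[t], C1[t]⁆ ≤ C[Z] := PG.commutator_le_cent_of_isCyclic h.cycZ h.nZ h.nZ

theorem der : ⁅U[t], U[t]⁆ ≤ F[t] := by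
  have := Fact.mk h.pr
  have m : ⁅U[t], U[t]⁆ ≤ ⁅C1[t], C1[t]⁆ := commutator_mono (U_le t) (U_le t)
  refine le_F_of h.pr (der1_le _) (le_norm_commutator le_normalizer le_normalizer) (m.trans h.HH_F') fun y hy hp => ?_
  have yU := der1_le _ hy
  obtain ⟨Q, _, _, f, -, hk⟩ := exists_quo' U[t] Z (h.ZW.trans h.WU) ((U_le t).trans h.nZ)
  have c : Nat.card (im f W) = p ^ 2 := by
    rw [card_im h.WU, hk]
    exact PG.relIndex_eq_of_card_eq_mul h.ZW (by rw [h.cW, h.cZ]; ring)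
  have h1 := PG.le_cent_of_le_commutator_of_elemAb h.p2 (V := im f W) (A := im f U[t]) (B := im f (zpowers y))
    (PG.elemAb_of_card_le_sq (PG.forall_pow_im fun x hx => by rw [h.exp x hx]; exact one_mem _) c.le) c.le
    (im_norm ((U_le t).trans h.nW)) (solvable_im (O_solv _)) (odd_im (O_odd _))
    (by rw [← im_commutator le_rfl le_rfl]; exact im_mono (zpowers_le.2 hy))
    (Nat.Coprime.coprime_dvd_left card_im_dvd (by
      rw [Nat.card_zpowers]; exact ((Nat.Prime.coprime_iff_not_dvd h.pr).2 hp).symm))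
  rw [im_le_cent_iff (zpowers_le.2 yU) h.WU, hk, commutator_comm] at h1
  exact mem_F_of_cent h.pr yU (h.cP yU hp (zpowers_le.1 (le_cent_symm (le_cent_of_commutator_le_of_coprime h1
    (le_cent_symm (zpowers_le.2 (h.HH_Z (m hy)))) (h.cop (h.Wp.to_le h.ZW) hp))))) (h.HH_F' (m hy))

/-- A `p`-subgroup of `U` centralising `F'` lies in `F`. -/
theorem le_F (hR : R ≤ U[t]) (hRp : IsPGroup p R) : R ⊓ C[piCoreOf ({p} : Set ℕ)ᶜ F[t]] ≤ F[t] := by
  have := Fact.mk h.pr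
  have h1 : F[t] ⊔ R ≤ U[t] := sup_le (F_le t) hR
  have h2 : U[t] ≤ N[F[t]] := (U_le t).trans (norm_F t)
  refine (inf_le_inf_right _ le_sup_right).trans (le_F_of h.pr (K := (F[t] ⊔ R) ⊓ _) (inf_le_left.trans h1)
    (le_norm_inf (le_norm_of_commutator_le_of_le h1 (h.der.trans le_sup_left))
      (le_norm_cent ((U_le t).trans (norm_F' p t)))) inf_le_right fun y hy hp => ?_)
  obtain ⟨k, hk⟩ := PG.exists_relIndex_eq_pow hRp F[t]
  have := PG.pow_relIndex_mem' (h1.trans h2) hy.1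
  rw [relIndex_sup_eq_of_norm_or (.inr (hR.trans h2)), hk] at this
  exact PG.mem_of_pow_mem_of_coprime_orderOf this (((Nat.Prime.coprime_iff_not_dvd h.pr).2 hp).symm.pow_right k)

theorem ndvd : ¬ p ∣ N[B ⊔ Z].relIndex U[t] := by
  obtain ⟨R, hR, hn⟩ := coprime_exists_syl h.pr (.inl (O_solv C1[t])) (zp_norm (norm_U t h.sH))
    (GW.cop2 (O_odd _) h.os)
  have pR := syl_isPGroup h.pr hR
  have h1 : R ≤ N[B ⊔ Z] := fun y hy => by
    obtain ⟨c, hc, a, ha, -, rfl⟩ := dec2 (sq1 h.os) (hn (mem_zpowers s)) (odd_p h.pr h.p2 pR) hy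
    refine mul_mem (h.UL ⟨hR.le hc.1, h.CUL ⟨hR.le hc.1, hc.2⟩⟩) (h.FN (h.le_F hR.le pR ⟨?_, h.HH_F' ?_⟩))
    · exact commutator_le_of_le_norm_left hn ha
    · exact commutator_mono (hR.le.trans (U_le t)) (zpowers_le.2 h.sH) ha
  exact (piNat_single_compl_iff h.pr).1 (hR.idx_of_le h1)

end Cg

end Cfsg.Agent.GW
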