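import Cfsg.Agent.GW.EDef
import Cfsg.Agent.B84.Four
import Cfsg.Agent.PG.Misc
import Cfsg.Agent.PG.Critical

/-! Gorenstein-Walter, part Ib, piece E5b. -/

set_option autoImplicit false
set_option linter.unusedSectionVars false
set_option linter.unusedVariables false

namespace Cfsg.Agent.GW

open Cfsg Subgroup Cfsg.Agent.GT Cfsg.Agent.Cls Cfsg.Agent.GW.Ia
open scoped commutatorElement

universe u
variable {G : Type u} [Group G] [Finite G] {S A K L Q R X B Z W : Subgroup G}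
  {t s x y a d v : G} {n r p σ : ℕ}

namespace E5b

/-- statement of `Cg.cent`. -/
def CENT (W Z : Subgroup G) (t : G) (p : ℕ) : Prop :=
  ∀ y ∈ U[t], ¬ p ∣ orderOf y → y ∈ C[Z] → y ∈ C[piCoreOf ({p} : Set ℕ)ᶜ F[t]] → y ∉ F[t] →
    W ⊓ C1[y] = Z

theorem mem_of_sq (ho : Odd (orderOf x)) (h : x * x ∈ K) : x ∈ K := by
  obtain ⟨m, hm⟩ := ho
  have : x = (x * x) ^ (m + 1) := by
    rw [← pow_two, ← pow_mul, show 2 * (m + 1) = orderOf x + 1 by omega, pow_succ,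
      pow_orderOf_eq_one, one_mul]
  rw [this]; exact pow_mem h _

theorem cent_of_inv (hK : IsCyclic K) (ha : a ∈ N[K]) (hx : x ∈ N[K]) (hi : a * x * a⁻¹ = x⁻¹)
    (ho : Odd (orderOf x)) : x ∈ C[K] :=
  PG.commutator_le_cent_of_isCyclic hK le_rfl (zp_norm ha) (mem_comm_of_inv hx ho hi)

theorem arith1 {u u' w : ℕ} (hp : Odd p) (hu : Odd u) (hu' : Odd u') (h1 : u ≤ u') (h3 : 3 ≤ u')
    (hw : u' * w = p + 1 ∨ u' * w + 1 = p) (hp1 : p ≠ 1) (hd : (p : ℤ) ∣ u * u' - 1) : False := by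
  have hwe : Even w := by
    by_contra hn
    have := hu'.mul (Nat.not_even_iff_odd.1 hn)
    rcases this with ⟨k, hk⟩; rcases hp with ⟨l, hl⟩; omega
  have hw0 : 2 ≤ w := by
    rcases hwe with ⟨k, hk⟩
    rcases Nat.eq_zero_or_pos k with rfl | h
    · subst hk; simp at hw; omega
    · omega
  have hu0 : 1 ≤ u := hu.pos
  have par : w ≠ u := fun e => (Nat.not_even_iff_odd.2 hu) (e ▸ hwe)
  rcases hw with hw | hw
  · have e : (u' : ℤ) * w = p + 1 := by exact_mod_cast hw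
    have d : (p : ℤ) ∣ (w : ℤ) - u := by
      have : (w : ℤ) - u = u * p - w * (u * u' - 1) := by linear_combination u * e
      rw [this]; exact dvd_sub (Dvd.intro_left _ rfl) (Dvd.dvd.mul_left hd _)
    have := Int.eq_zero_of_abs_lt_dvd d (by
      rw [abs_lt]; constructor <;> nlinarith)
    exact par (by omega)
  · have e : (u' : ℤ) * w + 1 = p := by exact_mod_cast hw
    have d : (p : ℤ) ∣ (w : ℤ) + u := by
      have : (w : ℤ) + u = u * p - w * (u * u' - 1) := by linear_combination u * e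
      rw [this]; exact dvd_sub (Dvd.intro_left _ rfl) (Dvd.dvd.mul_left hd _)
    have := Int.eq_zero_of_abs_lt_dvd d (by
      rw [abs_lt]; constructor <;> nlinarith)
    omega

theorem arith2 {m e : ℕ} (hp : p.Prime) (hp2 : p ≠ 2) (hσ : σ.Prime) (hσ2 : σ ≠ 2) (hne : σ ≠ p)
    (hm : σ ^ m ∣ p ^ 3 - p) (he : 1 ≤ e) (hem : e ≤ 2 * m) (hd : σ ^ e ≡ 1 [MOD p]) : False := by
  have po := hp.odd_of_ne_two hp2
  have so := hσ.odd_of_ne_two hσ2
  have s3 : 3 ≤ σ := by have := hσ.two_le; omega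
  obtain ⟨k, rfl⟩ : ∃ k, p = k + 1 := ⟨p - 1, by have := hp.pos; omega⟩
  have e1 : (k + 1) ^ 3 - (k + 1) = (k + 1) * (k * (k + 2)) := by
    rw [Nat.sub_eq_iff_eq_add (Nat.le_self_pow (by norm_num) _)]; ring
  rw [e1] at hm
  have hm1 : σ ^ m ∣ k * (k + 2) :=
    (Nat.Coprime.pow_left m ((Nat.coprime_primes hσ hp).2 hne)).dvd_of_dvd_mul_left hm
  have hm2 : ∃ w, σ ^ m * w = k + 1 + 1 ∨ σ ^ m * w + 1 = k + 1 := by
    by_cases hk : σ ∣ k
    · have : ¬ σ ∣ k + 2 := fun h => by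
        have := (Nat.dvd_add_right hk).1 h
        have := Nat.le_of_dvd two_pos this
        omega
      obtain ⟨w, hw⟩ := (Nat.Coprime.pow_left m
        ((Nat.Prime.coprime_iff_not_dvd hσ).2 this)).dvd_of_dvd_mul_right hm1
      exact ⟨w, Or.inr (by omega)⟩
    · obtain ⟨w, hw⟩ := (Nat.Coprime.pow_left m
        ((Nat.Prime.coprime_iff_not_dvd hσ).2 hk)).dvd_of_dvd_mul_left hm1
      exact ⟨w, Or.inl (by omega)⟩
  obtain ⟨w, hw⟩ := hm2
  have hd' : ((k + 1 : ℕ) : ℤ) ∣ (σ ^ e : ℕ) - (1 : ℕ) := hd.symm.dvd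
  have big : ∀ j, 1 ≤ j → 3 ≤ σ ^ j := fun j hj => le_trans s3 (Nat.le_self_pow (by omega) _)
  by_cases hle : e ≤ m
  · obtain ⟨c, rfl⟩ : ∃ c, m = e + c := ⟨m - e, by omega⟩
    refine arith1 (u := 1) (u' := σ ^ e) (w := σ ^ c * w) po odd_one so.pow
      (le_trans (by norm_num) (big e he)) (big e he) (by rwa [← mul_assoc, ← pow_add]) hp.ne_one
      (by simpa using hd')
  · obtain ⟨c, rfl⟩ : ∃ c, e = c + m := ⟨e - m, by omega⟩
    refine arith1 (u := σ ^ c) (u' := σ ^ m) (w := w) po so.pow so.pow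
      (Nat.pow_le_pow_right hσ.pos (by omega)) (big m (by omega)) hw hp.ne_one
      (by simpa [pow_add] using hd')

theorem card_dvd_of_free (hZ : Z ≤ W) (nW : R ≤ N[W]) (nZ : R ≤ N[Z])
    (h : ∀ x ∈ R, x ≠ 1 → W ⊓ C1[x] = Z) : Nat.card R ∣ Nat.card W - Nat.card Z := by
  classical
  let Ω := {w : W // (w : G) ∉ Z}
  let _ : MulAction R Ω :=
    { smul := fun a x => ⟨⟨a * x.1 * (a : G)⁻¹, conj_mem_of_le_norm nW a.2 x.1.2⟩, fun e => x.2 (by
        simpa [mul_assoc] using conj_mem_of_le_norm' nZ a.2 e)⟩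
      one_smul := fun x => Subtype.ext (Subtype.ext (by
        change ((1 : R) : G) * x.1 * ((1 : R) : G)⁻¹ = x.1
        simp))
      mul_smul := fun a b x => Subtype.ext (Subtype.ext (by
        change ((a * b : R) : G) * x.1 * ((a * b : R) : G)⁻¹ =
          a * (b * x.1 * (b : G)⁻¹) * (a : G)⁻¹
        simp [mul_assoc])) }
  have fr : ∀ w : Ω, MulAction.stabilizer R w = ⊥ := by
    intro w
    rw [eq_bot_iff]
    intro a ha
    rw [mem_bot]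
    by_contra a1
    have e : (a : G) * w.1 * (a : G)⁻¹ = w.1 := congrArg (fun z : Ω => (z.1 : G)) ha
    apply w.2
    exact (h a a.2 (fun e => a1 (Subtype.ext e))).le
      ⟨w.1.2, mem_cent1.2 (mul_inv_eq_iff_eq_mul.1 e).symm⟩
  have e1 := Nat.card_congr (MulAction.selfEquivOrbitsQuotientProd fr)
  rw [Nat.card_prod] at e1
  have e2 : Nat.card Ω + Nat.card Z = Nat.card W := by
    rw [← Nat.card_congr (Equiv.sumCompl (fun w : W => (w : G) ∈ Z)), Nat.card_sum, add_comm,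
      ← card_subgroupOf hZ]
    rfl
  rw [← e2, Nat.add_sub_cancel, e1]
  exact Dvd.intro_left _ rfl

theorem card_le_four (hY : Odd (Nat.card Q)) (tt : t * t = 1) (ss : s * s = 1) (c : Commute t s)
    (ht : t ∈ N[Q]) (hs : s ∈ N[Q]) : Nat.card Q ≤
      Nat.card ↥(Q ⊓ C1[t]) * (Nat.card ↥(Q ⊓ C1[s]) * Nat.card ↥(Q ⊓ C1[t * s])) := by
  rw [← Nat.card_prod, ← Nat.card_prod]
  refine Nat.card_le_card_of_surjective
    (fun z : ↥(Q ⊓ C1[t]) × ↥(Q ⊓ C1[s]) × ↥(Q ⊓ C1[t * s]) =>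
      (⟨z.1 * z.2.1 * z.2.2, mul_mem (mul_mem z.1.2.1 z.2.1.2.1) z.2.2.2.1⟩ : Q)) fun y => ?_
  obtain ⟨c, hc, a, ha, i, hi, h1, h2, -, h3, -, e⟩ := B84.four hY tt ss c ht hs y.2
  exact ⟨(⟨c, hc, mem_cent1.2 h1⟩, ⟨a, ha, mem_cent1.2 h2⟩, ⟨i, hi, mem_cent1.2 h3⟩),
    Subtype.ext e.symm⟩

theorem comm_pow {b c z : G} (h : b * c * b⁻¹ = z * c) (h1 : z * b = b * z) (h2 : z * c = c * z)
    (k l : ℕ) : b ^ k * c ^ l * (b ^ k)⁻¹ = z ^ (k * l) * c ^ l := by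
  have e : b ^ k * c * (b ^ k)⁻¹ = z ^ k * c := by
    induction k with
    | zero => simp
    | succ k ih =>
      have c1 : b * z ^ k * b⁻¹ = z ^ k := by
        rw [((Commute.pow_left h1 k).symm).eq]; simp
      calc b ^ (k + 1) * c * (b ^ (k + 1))⁻¹ = b * (b ^ k * c * (b ^ k)⁻¹) * b⁻¹ := by
            rw [pow_succ']; group
        _ = (b * z ^ k * b⁻¹) * (b * c * b⁻¹) := by rw [ih]; group
        _ = _ := by rw [c1, h, pow_succ, mul_assoc]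
  rw [← conj_pow, e, (Commute.pow_left h2 k).mul_pow, pow_mul]

section
variable [IsSimpleGroup G] (h : Cg S A L X B Z W t s n r p)
include h

theorem st : St S A t := h.toCf.toMin.toSt
theorem s2 : orderOf s = 2 := (st h).refl_ord h.sS h.sA
theorem sH : s ∈ C1[t] := (st h).cen h.sS
theorem ZF : Z ≤ F[t] := h.ZW.trans (h.WP.trans (O_le_F h.pr t))
theorem cycZ : IsCyclic Z := isCyclic_of_card_prime (h.cZ ▸ h.pr)
theorem nF' : C1[t] ≤ N[piCoreOf ({p} : Set ℕ)ᶜ F[t]] := le_norm_piCoreOf (norm_F t)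

theorem cZ_of_inv (hx : x ∈ U[t]) (ha : a ∈ C1[t]) (hi : a * x * a⁻¹ = x⁻¹) :
    x ∈ C[Z] ∧ x ∈ C[piCoreOf ({p} : Set ℕ)ᶜ F[t]] :=
  ⟨cent_of_inv (cycZ h) (h.nZ ha) (h.nZ (U_le t hx)) hi (odd_ord (odd_O _) hx),
    cent_of_inv h.cycF (nF' h ha) (nF' h (U_le t hx)) hi (odd_ord (odd_O _) hx)⟩

theorem noinv (der : ⁅U[t], U[t]⁆ ≤ F[t]) (hy : y ∈ U[t]) (hi : s * y * s⁻¹ = y⁻¹) (hyF : y ∉ F[t])
    (hv : orderOf v = 2) (c1 : v ∈ C1[y]) (c2 : v ∈ C1[t]) : v = t := by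
  by_contra hvt
  obtain ⟨k, hk, hkS⟩ := st_conj_mem (st h) hv c2
  obtain ⟨b, hb, u, hu, rfl⟩ := (st h).sd.exists_mul' hk
  have h1 : u * v * u⁻¹ ∈ S := by
    have := S.mul_mem (S.mul_mem (S.inv_mem hb) hkS) hb
    convert this using 1; group
  have hut := mem_cent1.1 (U_le t hu)
  have h2 : u * v * u⁻¹ ∉ A := (st h).not_mem (ord2_conj hv u) fun e => hvt (by
    calc v = u⁻¹ * (u * v * u⁻¹) * u := by group
      _ = u⁻¹ * (t * u) := by rw [e, mul_assoc]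
      _ = t := by rw [← hut]; group)
  have h3 := st_mul_mem (st h) h.sS h.sA h1 h2
  have hy' : u * y * u⁻¹ ∈ U[t] := mul_mem (mul_mem hu hy) (inv_mem hu)
  have h4 : s * (u * y * u⁻¹) * s⁻¹ ∈ U[t] := conj_mem_of_le_norm (norm_U t) (sH h) hy'
  have h5 := h.AC h3 _ h4
  have cv := mem_cent1.1 c1
  have h6 : s * (u * y * u⁻¹) * s⁻¹ = u * y * u⁻¹ := by
    have ss := sq1 (s2 h)
    calc s * (u * y * u⁻¹) * s⁻¹
        = (s * (u * y * u⁻¹) * s⁻¹) * (u * v * u⁻¹ * s) * (u * v * u⁻¹ * s)⁻¹ := by group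
      _ = u * v * u⁻¹ * (s * s) * (u * y * u⁻¹) * (s * s)⁻¹ * (u * v * u⁻¹)⁻¹ := by rw [h5]; group
      _ = u * (v * y) * v⁻¹ * u⁻¹ := by rw [ss]; group
      _ = _ := by rw [cv]; group
  have hf : y⁻¹ * u * y * u⁻¹ ∈ F[t] := by
    simpa [commutatorElement_def] using der (commutator_mem_commutator (inv_mem hy) hu)
  have hf' := conj_mem_of_le_norm (norm_F t) (sH h) hf
  apply hyF
  apply mem_of_sq (odd_ord (odd_O _) hy)
  have := mul_mem hf' (inv_mem hf)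
  convert this using 1
  calc y * y = (s * y * s⁻¹)⁻¹ * (s * (u * y * u⁻¹) * s⁻¹) * (y⁻¹ * u * y * u⁻¹)⁻¹ := by
        rw [hi, h6]; group
    _ = _ := by group

theorem of_cent (der : ⁅U[t], U[t]⁆ ≤ F[t]) (hy : y ∈ U[t]) (hi : s * y * s⁻¹ = y⁻¹)
    (hyF : y ∉ F[t]) (hc : t ∈ C[O[C1[y]]]) : Star t y := by
  have ht := (st h).ord
  have hty : t ∈ C1[y] := mem_cent1_comm.1 (U_le t hy)
  obtain ⟨T, hT, htT⟩ := exists_syl_ge Nat.prime_two (pg2 ht) (zpowers_le.2 hty)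
  have htT' : t ∈ T := htT (mem_zpowers t)
  have hTp := syl_isPGroup Nat.prime_two hT
  have cyc : IsCyclic T := by
    rcases (h.dg T hTp).cases with e | ⟨A', hA', h4⟩
    · exact e
    exfalso
    by_cases htA : t ∈ A'
    · obtain ⟨v, hv, hvA⟩ := hA'.ex
      have := hA'.inv hv hvA htA
      rw [inv2 ht, mul_inv_eq_iff_eq_mul] at this
      exact hvA (noinv h der hy hi hyF (hA'.ord hv hvA) (hT.le hv) (mem_cent1.2 this) ▸ htA)
    · obtain ⟨v, hv, hv2⟩ : ∃ v ∈ A', orderOf v = 2 := by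
        apply exists_inv
        obtain ⟨k, hk⟩ := IsPGroup.exists_card_eq (p := 2) (hTp.to_le hA'.le)
        have := hA'.card
        rcases k with _ | k
        · omega
        · rw [hk, pow_succ]; exact even_two.mul_left _
      have := hA'.inv htT' htA hv
      rw [inv2 hv2, mul_inv_eq_iff_eq_mul] at this
      exact htA (noinv h der hy hi hyF hv2 (hT.le (hA'.le hv)) (mem_cent1.2 this.symm) ▸ hv)
  have sd := cyclic_pdiv_normal_complement Nat.prime_two hT cyc fun q hq _ => hq.two_le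
  intro v hv c1
  refine noinv h der hy hi hyF hv c1 ?_
  obtain ⟨a, ha, b, hb, rfl⟩ := sd.exists_mul c1
  refine mul_mem (mem_cent1.2 (hc a ha)) (mem_cent1.2 ?_)
  exact isMulCommutative_iff_forall.1 (isMulCommutative_of_isCyclic cyc) b hb t htT'

theorem caseb (hy : y ∈ U[t]) (hi : s * y * s⁻¹ = y⁻¹) (hσ : σ.Prime) (hσ2 : σ ≠ 2)
    (hd : σ ∣ Nat.card F[t]) (hQ : IsPGroup σ Q) (hn : C1[y] ≤ N[Q]) : t ∈ C[Q] := by
  have hty : t ∈ C1[y] := mem_cent1_comm.1 (U_le t hy)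
  obtain ⟨c1, c2⟩ := cZ_of_inv h hy (sH h) hi
  obtain ⟨Y, Y1, Yp, Yy, YH, nY⟩ : ∃ Y : Subgroup G, Y ≠ ⊥ ∧ IsPGroup σ Y ∧ Y ≤ C1[y] ∧
      Y ≤ C1[t] ∧ C1[t] ≤ N[Y] := by
    by_cases e : σ = p
    · subst e
      exact ⟨Z, ne_bot_of_card_prime (h.cZ ▸ h.pr), isPGroup_of_card_eq_prime h.cZ,
        mem_cent_iff_le_cent1.1 c1, (ZF h).trans ((F_le t).trans (U_le t)), h.nZ⟩
    · exact ⟨piCoreOf {σ} F[t], piCoreOf_ne_bot_of_nil (fittingOf_nilpotent _) hσ rfl hd,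
        piCoreOf_isPGroup hσ _, (piCoreOf_single_le (π := {p}ᶜ) e).trans
          (mem_cent_iff_le_cent1.1 c2), (piCoreOf_le _ _).trans ((F_le t).trans (U_le t)),
        le_norm_piCoreOf (norm_F t)⟩
  have nY' := norm_eq_of_coatom h.max Y1 YH nY
  refine thompson_AxB_pgroup hσ hQ Yp (A := zpowers t) ?_ (zp_norm (hn hty)) (Yy.trans hn)
    (zpowers_le.2 (mem_cent_iff_le_cent1.2 YH)) ?_ (mem_zpowers t)
  · rw [isPiSubgroup_zpowers_iff, (st h).ord]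
    intro q hq hd e
    exact hσ2 (e ▸ ((Nat.prime_dvd_prime_iff_eq hq Nat.prime_two).1 hd))
  · rw [cent_zpowers, ← nY']
    exact inf_le_right.trans (cent_le_norm _)

theorem B_not : ∃ b, b ∈ B ∧ b ∉ Z ∧ B = zpowers b ∧ orderOf b = p := by
  obtain ⟨b, hb, b1⟩ := (bot_or_exists_ne_one B).resolve_left
    (ne_bot_of_card_prime (h.cB ▸ h.pr))
  have e := eq_zpowers_of_card_prime (h.cB ▸ h.pr) hb b1
  have hb' : b ∈ F[t] ⊓ C1[s] := h.CX ▸ h.BX hb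
  refine ⟨b, hb, fun hz => b1 (eq1_of_inv_fix (odd_ord (odd_F t) hb'.1) (h.invZ b hz) hb'.2), e, ?_⟩
  rw [← Nat.card_zpowers, ← e, h.cB]

theorem c2 (hy : y ∈ U[t]) (hi : s * y * s⁻¹ = y⁻¹) (hp : ¬ p ∣ orderOf y) (hyW : W ⊓ C1[y] = Z)
    (hd : d ∈ U[t]) (hds : d ∈ C1[s]) (hdy : d ∈ C1[y]) (hdW : W ⊓ C1[d] = Z) : False := by
  obtain ⟨b, hb, hbZ, eB, ob⟩ := B_not h
  have hbs : b ∈ F[t] ⊓ C1[s] := h.CX ▸ h.BX hb
  have hdB : d ∈ N[B] := by
    refine PG.norm_le_norm_of_isCyclic h.cyc h.BX ?_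
    rw [← h.CX]
    exact le_norm_inf (A := zpowers d) (zp_norm (norm_F t (U_le t hd)))
      (le_norm_cent1 (zpowers_le.2 hds)) (mem_zpowers d)
  obtain ⟨l, hl⟩ : ∃ l : ℕ, b ^ l = d * b * d⁻¹ := by
    have := conj_mem_of_mem_norm hdB hb
    rwa [eB, ← mem_powers_iff_mem_zpowers] at this
  have hb'W : y * b * y⁻¹ ∈ W := conj_mem_of_le_norm h.nW (U_le t hy) (h.BW hb)
  have cdy := mem_cent1.1 hdy
  have hl' : (y * b * y⁻¹) ^ l = d * (y * b * y⁻¹) * d⁻¹ := by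
    rw [conj_pow, hl]
    calc y * (d * b * d⁻¹) * y⁻¹ = (y * d) * b * (y * d)⁻¹ := by group
      _ = _ := by rw [← cdy]; group
  have hz : ⁅b, y * b * y⁻¹⁆ ∈ Z := h.cWP (commutator_mem_commutator (h.BW hb) (h.WP hb'W))
  have hdZ : ∀ z ∈ Z, z * d = d * z := fun z hz => mem_cent1.1 (hdW.ge hz).2
  have hyZ : ∀ z ∈ Z, z * y = y * z := fun z hz => mem_cent1.1 (hyW.ge hz).2
  by_cases z1 : ⁅b, y * b * y⁻¹⁆ = 1
  · have hA : y * b * y⁻¹ ∈ B ⊔ Z := by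
      rw [← h.cBW, eB, cent_zpowers]
      exact ⟨hb'W, mem_cent1.2 (commutatorElement_eq_one_iff_mul_comm.1 z1).symm⟩
    obtain ⟨c, hc, z, hz, e⟩ := (mem_sup_of_le_norm ((h.BX.trans (h.CX.ge.trans inf_le_left)).trans
      ((F_le t).trans ((U_le t).trans h.nZ)))).1 hA
    have hcs := mem_cent1.1 (h.CX.ge (h.BX hc)).2
    have e2 : y⁻¹ * b * y = c * z⁻¹ := by
      calc y⁻¹ * b * y = (s * y * s⁻¹) * b * (s * y * s⁻¹)⁻¹ := by rw [hi]; group
        _ = s * y * (s⁻¹ * (b * s)) * y⁻¹ * s⁻¹ := by group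
        _ = s * (y * b * y⁻¹) * s⁻¹ := by rw [mem_cent1.1 hbs.2]; group
        _ = (s * c) * s⁻¹ * (s * z * s⁻¹) := by rw [e]; group
        _ = _ := by rw [← hcs, h.invZ z hz]; group
    have e3 : (y * y) * b * (y * y)⁻¹ = (z * z) * b := by
      have hzb : (z * z) * b = b * (z * z) := (h.ZP (mul_mem hz hz) b (h.WP (h.BW hb))).symm
      calc (y * y) * b * (y * y)⁻¹ = y * (y * b * y⁻¹) * y⁻¹ := by group
        _ = y * (c * z⁻¹) * (z * z * y⁻¹) := by rw [e]; group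
        _ = b * (y * (z * z)) * y⁻¹ := by rw [← e2]; group
        _ = _ := by rw [← hyZ _ (mul_mem hz hz), hzb]; group
    have e4 := comm_pow e3 (by
      rw [(Commute.mul_right (hyZ _ (mul_mem hz hz)) (hyZ _ (mul_mem hz hz))).eq])
      (h.ZP (mul_mem hz hz) b (h.WP (h.BW hb))).symm (orderOf y) 1
    rw [← pow_two y, ← pow_mul, mul_comm 2, pow_mul, pow_orderOf_eq_one, mul_one] at e4
    have e5 : (z * z) ^ orderOf y = 1 := by simpa using e4.symm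
    have e6 : (z * z) ^ p = 1 := h.exp _ (h.ZW (mul_mem hz hz))
    have e7 : z * z = 1 := by
      have := Nat.dvd_gcd (orderOf_dvd_of_pow_eq_one e6) (orderOf_dvd_of_pow_eq_one e5)
      rwa [(Nat.Prime.coprime_iff_not_dvd h.pr).2 hp, Nat.dvd_one, orderOf_eq_one_iff] at this
    rw [e7, one_mul, mul_inv_eq_iff_eq_mul] at e3
    exact hbZ (hyW.le ⟨h.BW hb, mem_cent1_comm.1 (mem_of_sq (odd_ord (odd_O _) hy)
      (mem_cent1.2 e3))⟩)
  · set z := ⁅b, y * b * y⁻¹⁆ with hzd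
    set b' := y * b * y⁻¹
    have e1 := comm_pow (b := b) (c := b') (z := z) (by rw [hzd, commutatorElement_def]; group)
      (h.ZP hz b (h.WP (h.BW hb))).symm (h.ZP hz b' (h.WP hb'W)).symm l l
    rw [hl, hl'] at e1
    have e2 : z ^ (l * l) = z ^ 1 := by
      calc z ^ (l * l) = d * b * d⁻¹ * (d * b' * d⁻¹) * (d * b * d⁻¹)⁻¹ * (d * b' * d⁻¹)⁻¹ := by
            rw [e1]; group
        _ = d * z * d⁻¹ := by rw [hzd, commutatorElement_def]; group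
        _ = _ := by rw [← hdZ z hz]; group
    have oz : orderOf z = p := by
      have := Fact.mk h.pr
      exact orderOf_eq_prime (h.exp z (h.ZW hz)) z1
    rw [pow_eq_pow_iff_modEq, oz, ← ob, ← pow_eq_pow_iff_modEq, pow_one, pow_mul, hl, conj_pow,
      hl] at e2
    refine hbZ (hdW.le ⟨h.BW hb, mem_cent1_comm.1 (mem_of_sq (odd_ord (odd_O _) hd)
      (mem_cent1.2 ?_))⟩)
    conv_rhs => rw [← e2]
    group

theorem ndvd_ord (hσ : σ.Prime) (hF : ¬ σ ∣ Nat.card F[t]) (hQ : IsPGroup σ Q) (hx : x ∈ Q) :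
    ¬ p ∣ orderOf x := by
  obtain ⟨k, hk⟩ := hQ ⟨x, hx⟩
  intro hd
  have : x ^ σ ^ k = 1 := congrArg Subtype.val hk
  have := (Nat.prime_dvd_prime_iff_eq h.pr hσ).1
    (h.pr.dvd_of_dvd_pow (hd.trans (orderOf_dvd_of_pow_eq_one this)))
  exact hF (this ▸ h.cZ ▸ card_dvd_of_le (ZF h))

theorem c3 (cent : CENT W Z t p) (hσ : σ.Prime) (hσ2 : σ ≠ 2) (hF : ¬ σ ∣ Nat.card F[t])
    (hR : IsPGroup σ R) (hv : orderOf v = 2) (hRv : R ≤ C1[v]) (ha : a ∈ C1[v])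
    (hi : ∀ x ∈ R, a * x * a⁻¹ = x⁻¹) : Nat.card R ∣ p ^ 3 - p := by
  obtain ⟨g, rfl⟩ := (st h).one v hv
  have hR' : IsPGroup σ (cj[g⁻¹] R) := hR.map _
  have hle : cj[g⁻¹] R ≤ C1[t] := by
    have := conj_mono g⁻¹ hRv
    rw [conj_cent1] at this
    simpa [mul_assoc] using this
  have ha' : g⁻¹ * a * g⁻¹⁻¹ ∈ C1[t] := by
    have := (conj_mem_conj (g := g⁻¹)).2 ha
    rw [conj_cent1] at this
    simpa [mul_assoc] using this
  have hU := st_le_U (st h) hle (odd_p hσ hσ2 hR')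
  rw [← card_conj g⁻¹, ← h.cW]
  conv_rhs => rw [← h.cZ]
  rw [h.cZ]
  conv_rhs => rw [← h.cZ]
  refine card_dvd_of_free h.ZW (hle.trans h.nW) (hle.trans h.nZ) fun x hx x1 => ?_
  obtain ⟨c1, c2⟩ := cZ_of_inv h (hU hx) ha' (by
    obtain ⟨x', hx', rfl⟩ := mem_conj_iff_exists.1 hx
    calc _ = g⁻¹ * (a * x' * a⁻¹) * g := by group
      _ = _ := by rw [hi x' hx']; group)
  exact cent x (hU hx) (ndvd_ord h hσ hF hR' hx) c1 c2 fun e => x1 (pgrp_ord hσ hR' hx hF e)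

theorem casec (cent : CENT W Z t p) (hy : y ∈ U[t]) (hi : s * y * s⁻¹ = y⁻¹)
    (hp : ¬ p ∣ orderOf y) (hyF : y ∉ F[t]) (hσ : σ.Prime) (hσ2 : σ ≠ 2)
    (hF : ¬ σ ∣ Nat.card F[t]) (hQ : IsPGroup σ Q) (hQy : Q ≤ C1[y]) (hn : C1[y] ≤ N[Q])
    (hs : s ∈ N[Q]) : t ∈ C[Q] := by
  have ht := (st h).ord
  have hty : t ∈ C1[y] := mem_cent1_comm.1 (U_le t hy)
  obtain ⟨c1, c2'⟩ := cZ_of_inv h hy (sH h) hi
  have hyW := cent y hy hp c1 c2' hyF
  have Qo := odd_p hσ hσ2 hQ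
  have key : ∀ K : Subgroup G, K ≤ F[t] → C1[t] ≤ N[K] → y ∈ C[K] → Q ⊓ C1[t] ≤ C[K] := by
    intro K hK nK cK d hd k hk
    have e1 : d * k * d⁻¹ * k⁻¹ ∈ K := mul_mem (conj_mem_of_le_norm nK hd.2 hk) (inv_mem hk)
    have e2 : d * (k * d⁻¹ * k⁻¹) ∈ Q := mul_mem hd.1
      (conj_mem_of_le_norm hn (mem_cent_iff_le_cent1.1 cK hk) (inv_mem hd.1))
    have := pgrp_ord hσ hQ e2 hF (by simpa only [mul_assoc] using hK e1)
    calc k * d = (d * (k * d⁻¹ * k⁻¹)) * k * d := by rw [this, one_mul]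
      _ = _ := by group
  have DZ := key Z (ZF h) h.nZ c1
  have DF := key _ (piCoreOf_le _ _) (nF' h) c2'
  have DU : Q ⊓ C1[t] ≤ U[t] := st_le_U (st h) inf_le_right (odd_card_of_le Qo inf_le_left)
  have bot : ∀ d ∈ Q, d ∈ C1[t] → d ∈ C1[s] → d = 1 := by
    intro d hd h1 h2
    by_contra d1
    exact c2 h hy hi hp hyW (DU ⟨hd, h1⟩) h2 (hQy hd) (cent d (DU ⟨hd, h1⟩) (ndvd_ord h hσ hF hQ hd)
      (DZ ⟨hd, h1⟩) (DF ⟨hd, h1⟩) fun e => d1 (pgrp_ord hσ hQ hd hF e))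
  have cst := (st h).comm h.sS
  have hsne := (st h).refl_ne h.sA
  have dv : ∀ v, orderOf v = 2 → t ∈ C1[v] → (∀ d ∈ C1[t], d ∈ C1[v] → d ∈ C1[s]) →
      Nat.card ↥(Q ⊓ C1[v]) ∣ p ^ 3 - p := by
    intro v hv htv hd
    refine c3 h cent hσ hσ2 hF (hQ.to_le inf_le_left) hv inf_le_right htv fun x hx => ?_
    refine inv_of_fpf (sq1 ht) (le_norm_inf (A := zpowers t) (zp_norm (hn hty))
      (le_norm_cent1 (zpowers_le.2 htv)) (mem_zpowers t)) (odd_card_of_le Qo inf_le_left) ?_ hx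
    rw [eq_bot_iff]
    intro d h1
    exact bot d h1.1.1 h1.2 (hd d h1.2 h1.1.2)
  have d1 := dv s (s2 h) (mem_cent1.2 cst.symm) fun d _ e => e
  have d2 := dv (t * s) (ord2_mul ht (s2 h) hsne cst)
    (mem_cent1.2 (by rw [mul_assoc, cst])) fun d e1 e2 => by
      have := c1_mul e1 e2
      rwa [tt (sq1 ht)] at this
  have le := card_le_four Qo (sq1 ht) (sq1 (s2 h)) cst.symm (hn hty) hs
  have eZ : Q ⊓ C[Z] = Q ⊓ C1[t] := by
    refine le_antisymm (inf_le_inf_left _ ?_) (le_inf inf_le_left DZ)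
    rw [← norm_eq_of_coatom h.max (ne_bot_of_card_prime (h.cZ ▸ h.pr))
      ((ZF h).trans ((F_le t).trans (U_le t))) h.nZ]
    exact cent_le_norm _
  have := Fact.mk h.pr
  have md := PG.card_modEq_card_inf_cent (isPGroup_of_card_eq_prime h.cZ)
    ((mem_cent_iff_le_cent1.1 c1).trans hn)
  rw [eZ] at md
  have := Fact.mk hσ
  obtain ⟨a, ha⟩ := hQ.exists_card_eq
  obtain ⟨b, hb⟩ := (hQ.to_le (inf_le_left : Q ⊓ C1[t] ≤ Q)).exists_card_eq
  obtain ⟨i, hi'⟩ := (hQ.to_le (inf_le_left : Q ⊓ C1[s] ≤ Q)).exists_card_eq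
  obtain ⟨j, hj⟩ := (hQ.to_le (inf_le_left : Q ⊓ C1[t * s] ≤ Q)).exists_card_eq
  have hne : σ ≠ p := fun e => hF (e ▸ h.cZ ▸ card_dvd_of_le (ZF h))
  rw [mem_cent_iff_le_cent1]
  by_contra hn'
  have lt := card_lt_of_lt (lt_of_le_of_ne (inf_le_left : Q ⊓ C1[t] ≤ Q)
    fun e => hn' (inf_eq_left.1 e))
  rw [ha, hb, hi', hj, ← pow_add, ← pow_add, Nat.pow_le_pow_iff_right hσ.one_lt] at le
  rw [ha, hb, Nat.pow_lt_pow_iff_right hσ.one_lt] at lt
  rw [hi'] at d1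
  rw [hj] at d2
  obtain ⟨e, rfl⟩ : ∃ e, a = e + b := ⟨a - b, by omega⟩
  rw [ha, hb, pow_add] at md
  have md' : σ ^ e ≡ 1 [MOD p] :=
    Nat.ModEq.cancel_right_of_coprime (c := σ ^ b)
      (((Nat.coprime_primes h.pr hσ).2 hne.symm).pow_right _) (by simpa using md)
  rcases le_total i j with hij | hij
  · exact arith2 h.pr h.p2 hσ hσ2 hne d2 (by omega) (by omega) md'
  · exact arith2 h.pr h.p2 hσ hσ2 hne d1 (by omega) (by omega) md'

end

end E5b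

open E5b in
theorem Cg.star' [IsSimpleGroup G] (h : Cg S A L X B Z W t s n r p) (cent : E5b.CENT W Z t p)
    (der : ⁅U[t], U[t]⁆ ≤ F[t]) (hy : y ∈ U[t]) (ho : (orderOf y).Prime)
    (hp : orderOf y ≠ p) (hi : s * y * s⁻¹ = y⁻¹) (hyF : y ∉ F[t]) : Star t y := by
  have ht := (st h).ord
  have hty : t ∈ C1[y] := mem_cent1_comm.1 (U_le t hy)
  have hp' : ¬ p ∣ orderOf y := fun e => hp ((Nat.prime_dvd_prime_iff_eq h.pr ho).1 e).symm
  have hs : s ∈ N[C1[y]] := by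
    rw [← cent_zpowers]
    refine norm_le_norm_cent _ (mem_normalizer_of_conj_le ?_)
    rw [conj_zpowers, hi, zpowers_inv]
  refine of_cent h der hy hi hyF ?_
  refine coprime_le_cent_of_le_cent_fittingOf (solv_O _) (zp_norm (O_norm _ hty))
    (cop2 (odd_O _) ht) (fittingOf_le_cent_of_forall fun σ hσ => zpowers_le.2 ?_) (mem_zpowers t)
  by_cases h2 : σ = 2
  · subst h2
    rw [piCoreOf_eq_bot (piCoreOf_isPi _ _)]
    simp
  have hQ := piCoreOf_isPGroup hσ O[C1[y]]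
  have hn : C1[y] ≤ N[piCoreOf {σ} O[C1[y]]] := le_norm_piCoreOf (O_norm _)
  by_cases hd : σ ∣ Nat.card F[t]
  · exact caseb h hy hi hσ h2 hd hQ hn
  · exact casec h cent hy hi hp' hyF hσ h2 hd hQ ((piCoreOf_le _ _).trans (O_le _)) hn
      (norm_le_norm_piCoreOf _ _ (norm_le_norm_piCoreOf _ _ hs))

end Cfsg.Agent.GW
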