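import Cfsg.Agent.GW.E5b1
import Cfsg.Agent.GW.E5a

set_option autoImplicit false

namespace Cfsg.Agent.GW

open Cfsg Subgroup Cfsg.Agent.GT Cfsg.Agent.Cls Cfsg.Agent.GW.Ia

universe u
variable {G : Type u} [Group G] [Finite G] [IsSimpleGroup G] {S A L X B Z W : Subgroup G}
  {t s y : G} {n r p : ℕ}

theorem Cg.star (h : Cg S A L X B Z W t s n r p) (hy : y ∈ U[t]) (ho : (orderOf y).Prime)
    (hp : orderOf y ≠ p) (hi : s * y * s⁻¹ = y⁻¹) (hyF : y ∉ F[t]) : Star t y :=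
  h.star' (fun _ h1 h2 h3 h4 h5 => h.cent h1 h2 h3 h4 h5) h.der hy ho hp hi hyF

end Cfsg.Agent.GW
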