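import Cfsg.Agent.GW.EDef

/-! Gorenstein-Walter, part Ib: the final contradiction. -/

set_option autoImplicit false
set_option linter.unusedSectionVars false
set_option linter.unusedVariables false

namespace Cfsg.Agent.GW

open Cfsg Subgroup Cfsg.Agent.GT Cfsg.Agent.Cls Cfsg.Agent.GW.Ia
open scoped commutatorElement

universe u

theorem e5c_core {p c1 l q a : ℤ} {δ e : ℤ} (hp : 5 ≤ p) (h1 : 3 ≤ c1) (h2 : c1 ≤ p - 2)
    (hl : 1 ≤ l) (hδ : δ = 1 ∨ δ = -1) (he : -2 ≤ e ∧ e ≤ 2) (hq : q = 4 * p * l + δ)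
    (h : p * c1 + e = q * a) : a = e * δ := by
  have hq1 : 4 * p - 1 ≤ q := by rcases hδ with rfl | rfl <;> nlinarith
  have ha : 1 ≤ a := by
    by_contra h0
    have : q * a ≤ 0 := mul_nonpos_of_nonneg_of_nonpos (by omega) (by omega)
    nlinarith
  have ha2 : a ≤ p - 3 := by
    by_contra h0
    have : (4 * p - 1) * (p - 2) ≤ q * a := mul_le_mul hq1 (by omega) (by omega) (by omega)
    nlinarith
  have hd : a - e * δ = p * (δ * (c1 - 4 * l * a)) := by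
    rcases hδ with rfl | rfl <;> (rw [hq] at h; linarith)
  have hb : -p < a - e * δ ∧ a - e * δ < p := by rcases hδ with rfl | rfl <;> omega
  generalize δ * (c1 - 4 * l * a) = w at hd
  have : w = 0 := by
    rcases lt_trichotomy w 0 with hw | hw | hw
    · nlinarith
    · exact hw
    · nlinarith
  rw [this] at hd
  omega

theorem e5c_arith {p c1 n r i : ℕ} {x : ℤ} (hp : p.Prime) (h2 : p ≠ 2) (hc1 : 1 < c1)
    (hc2 : c1 ≤ p + 1) (hc3 : Odd c1) (hc4 : ¬ p ∣ c1) (hn : 2 * p ∣ n)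
    (ar : r = n + 1 ∨ n = r + 1) (pp : IsPrimePow (n + r)) (hi : (i : ℤ) = (2 * x + 1) * (x + 1))
    (hx : |x| = (p * c1 * n : ℕ)) (qd : n + r ∣ i * (p * c1)) : False := by
  obtain ⟨l, rfl⟩ := hn
  obtain ⟨p', hp'⟩ := hp.odd_of_ne_two h2
  obtain ⟨c', hc'⟩ := hc3
  have hc5 : c1 ≠ p := fun e => hc4 (e ▸ dvd_rfl)
  have hl : 1 ≤ l := by
    have := pp.two_le
    by_contra h0
    rw [show l = 0 by omega] at this ar
    omega
  obtain ⟨δ, hδ, hq⟩ : ∃ δ : ℤ, (δ = 1 ∨ δ = -1) ∧ ((2 * p * l + r : ℕ) : ℤ) = 4 * p * l + δ := by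
    rcases ar with e | e
    · exact ⟨1, Or.inl rfl, by rw [e]; push_cast; ring⟩
    · refine ⟨-1, Or.inr rfl, ?_⟩
      have : (2 * p * l : ℤ) = r + 1 := by exact_mod_cast e
      push_cast; linarith
  obtain ⟨ε, hε, hx'⟩ : ∃ ε : ℤ, (ε = 1 ∨ ε = -1) ∧ x = ε * (p * c1 * (2 * p * l)) := by
    push_cast at hx
    rcases abs_cases x with ⟨e, -⟩ | ⟨e, -⟩
    · exact ⟨1, Or.inl rfl, by linarith⟩
    · exact ⟨-1, Or.inr rfl, by linarith⟩
  generalize 2 * p * l + r = q at *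
  have hi' : i = (2 * x + 1).natAbs * (x + 1).natAbs := by
    rw [← Int.natAbs_mul, ← hi, Int.natAbs_natCast]
  have k1 : IsCoprime (2 * x + 1) (x + 1) := ⟨-1, 2, by ring⟩
  have k2 : IsCoprime ((2 * x + 1) * (x + 1)) ((p * c1 : ℕ) : ℤ) :=
    IsCoprime.mul_left ⟨1, -2 * ε * (2 * p * l), by rw [hx']; push_cast; ring⟩
      ⟨1, -ε * (2 * p * l), by rw [hx']; push_cast; ring⟩
  have main : ∀ e : ℤ, -2 ≤ e ∧ e ≤ 2 → (q : ℤ) ∣ p * c1 + e → ∃ a, p * c1 + e = q * a ∧ a = e * δ :=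
    fun e he ⟨a, ha⟩ => ⟨a, ha, e5c_core (by omega) (by omega) (by omega) (by exact_mod_cast hl) hδ
      he hq ha⟩
  have pc : (p * c1 : ℤ) = 2 * (2 * p' * c' + p' + c') + 1 := by rw [hp', hc']; push_cast; ring
  rw [← hi] at k2
  rcases ((Nat.isCoprime_iff_coprime.1 k2).isPrimePow_dvd_mul pp).1 qd with h | h
  · rw [hi'] at h
    rcases (Nat.Coprime.isPrimePow_dvd_mul (Int.isCoprime_iff_gcd_eq_one.1 k1) pp).1 h with h | h
    · obtain ⟨a, h1, h3⟩ := main (-(ε * δ)) (by rcases hε with rfl | rfl <;> omega) (by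
        have := (Int.natCast_dvd.2 h).mul_left (-(ε * δ))
        have e : -(ε * δ) * (2 * x + 1) = p * c1 + -(ε * δ) - q * (δ * (p * c1)) := by
          rw [hx', hq]; rcases hε with rfl | rfl <;> rcases hδ with rfl | rfl <;> ring
        rw [e] at this
        simpa using this.add (dvd_mul_right (q : ℤ) (δ * (p * c1))))
      rw [h3, hq, pc] at h1
      generalize 2 * (p' : ℤ) * c' + p' + c' = w at h1
      rcases hε with rfl | rfl <;> rcases hδ with rfl | rfl <;> (ring_nf at h1; omega)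
    · obtain ⟨a, h1, h3⟩ := main (-(2 * ε * δ)) (by rcases hε with rfl | rfl <;> omega) (by
        have := (Int.natCast_dvd.2 h).mul_left (-(2 * ε * δ))
        have e : -(2 * ε * δ) * (x + 1) = p * c1 + -(2 * ε * δ) - q * (δ * (p * c1)) := by
          rw [hx', hq]; rcases hε with rfl | rfl <;> rcases hδ with rfl | rfl <;> ring
        rw [e] at this
        simpa using this.add (dvd_mul_right (q : ℤ) (δ * (p * c1))))
      rw [h3, pc] at h1
      rcases hε with rfl | rfl <;> rcases hδ with rfl | rfl <;> omega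
  · obtain ⟨a, h1, h3⟩ := main 0 (by omega) (by rw [add_zero]; exact_mod_cast h)
    rw [h3, pc] at h1
    omega

variable {G : Type u} [Group G] [Finite G] {S A L X B Z W R Y : Subgroup G} {t s v y g : G}
  {n r p ρ : ℕ}

theorem St.relIdx (h : St S A t) (hv : v ∈ S) (hvA : v ∉ A) :
    2 * C1[v].relIndex C1[t] = Nat.card A * C1[v].relIndex U[t] := by
  have ov := h.refl_ord hv hvA
  have hne := h.refl_ne hvA
  have c := h.comm hv
  have pV := V_pg h.ord ov c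
  have hS : IsPiHallOf {2} (zpowers t ⊔ zpowers v) (C1[v] ⊓ C1[t]) := syl_of_maximal Nat.prime_two pV
    (V_le ⟨mem_cent1.2 c.symm, self_mem_cent1 t⟩ ⟨self_mem_cent1 v, mem_cent1.2 c⟩)
    fun Q hQ h1 h2 => le_antisymm (fun x hx => (mem_V h.ord ov c).2
      (h.dg.cent_V h.ord ov hne c (hQ.to_le (zpowers_le.2 hx)) (h2 hx).2 (h2 hx).1)) h1
  have h1 := (hS.isComplIn ((st_hall h).normal_inf (norm_U t) inf_le_right)).card_mul
  have h4 : Nat.card ↥(zpowers t ⊔ zpowers v) = 4 := by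
    rw [PG.card_sup_zpowers Nat.prime_two (cent_le_norm _ (by rw [cent_zpowers]; exact mem_cent1.2 c))
      (by rw [pow_two, sq1 ov]; exact one_mem _) fun e => hvA (zpowers_le.2 h.mem e),
      Nat.card_zpowers, h.ord]
  rw [h4, show U[t] ⊓ (C1[v] ⊓ C1[t]) = C1[v] ⊓ U[t] by
    rw [inf_comm, inf_assoc, inf_eq_right.2 (U_le t)]] at h1
  have h2 := card_inf_mul_relIndex C1[v] C1[t]
  have h3 := card_inf_mul_relIndex C1[v] U[t]
  rw [← h1, ← h.sd.card_mul, ← h3, h.dih.card] at h2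
  have h5 := card_pos' (C1[v] ⊓ U[t])
  exact Nat.eq_of_mul_eq_mul_left (Nat.mul_pos h5 two_pos) (by linarith)

theorem Star.mem (h : Star t y) (ht : orderOf t = 2) (hg : g * y * g⁻¹ ∈ C1[t]) : g ∈ C1[t] := by
  have := h _ (ord2_conj ht g⁻¹) (by
    rw [← conj_mem_conj (g := g), conj_cent1, show g * (g⁻¹ * t * g⁻¹⁻¹) * g⁻¹ = t by group]
    exact mem_cent1_comm.1 hg)
  rw [mem_cent1]
  nth_rewrite 1 [← this]
  group

theorem St.starSyl (h : St S A t) (hρ : ρ.Prime) (h2 : ρ ≠ 2) (hR : IsPiHallOf {ρ} R U[t])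
    (hy : y ∈ R) (st : Star t y) : IsPiHallOf {ρ} R ⊤ :=
  syl_top_of_norm_le hρ (hR.trans_single (st_hall h) (by simpa using h2)) fun g hg =>
    st.mem h.ord (U_le t (hR.le (conj_mem_of_mem_norm hg hy)))

theorem St.starNd (h : St S A t) (hρ : ρ.Prime) (hy : y ∈ U[t]) (ho : orderOf y = ρ)
    (st : Star t y) : ¬ ρ ∣ C1[t].index := by
  have h2 : ρ ≠ 2 := fun e => by
    have := odd_ord (O_odd _) hy
    rw [ho, e] at this
    exact absurd this (by decide)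
  obtain ⟨R, hR, hle⟩ := exists_syl_ge hρ (isPGroup_of_card_eq_prime
    (by rw [Nat.card_zpowers, ho])) (zpowers_le.2 hy)
  have := (h.starSyl hρ h2 hR (hle (mem_zpowers y)) st).idx_of_le (hR.le.trans (U_le t))
  rwa [relIndex_top_right, piNat_single_compl_iff hρ] at this

theorem exists_inverted (hρ : ρ.Prime) (h2 : ρ ≠ 2) (hR : IsPGroup ρ R) (hs : s * s = 1)
    (hn : s ∈ N[R]) (h : ¬ R ≤ C1[s]) : ∃ y ∈ R, orderOf y = ρ ∧ s * y * s⁻¹ = y⁻¹ := by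
  have : Fact ρ.Prime := ⟨hρ⟩
  obtain ⟨x, hx, hx'⟩ := SetLike.not_le_iff_exists.1 h
  obtain ⟨c, hc, a, ha, e, rfl⟩ := dec2 hs hn (odd_p hρ h2 hR) hx
  replace ha := commutator_le_of_le_norm_left (zp_norm hn) ha
  obtain ⟨y, hy, h1, h3⟩ := PG.exists_mem_orderOf_eq_p (hR.to_le (zpowers_le.2 ha))
    (ne_bot_of_mem (mem_zpowers a) fun e1 => hx' (by rw [e1, mul_one]; exact hc.2))
  obtain ⟨k, rfl⟩ := mem_zpowers_iff.1 hy
  exact ⟨_, zpow_mem ha k, orderOf_eq_prime h3 h1, by rw [← conj_zpow, e, inv_zpow]⟩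

/-- the statement of `Cg.star`. -/
def STAR (t s : G) (p : ℕ) : Prop := ∀ y ∈ U[t], (orderOf y).Prime → orderOf y ≠ p →
  s * y * s⁻¹ = y⁻¹ → y ∉ F[t] → Star t y

namespace Cg
variable [IsSimpleGroup G] (h : Cg S A L X B Z W t s n r p)
include h

theorem c_s2 : s * s = 1 := sq1 (h.refl_ord h.sS h.sA)
theorem c_sH : s ∈ C1[t] := h.cen h.sS

theorem c_act (hv : v ∈ S) (hvA : v ∉ A) (hy : y ∈ U[t]) : v * y * v⁻¹ = s * y * s⁻¹ := by
  have h1 := mem_cent_iff.1 (h.AC (h.dih.mul_mem h.sS hv h.sA hvA)) hy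
  rw [show v * y * v⁻¹ = s⁻¹ * (s * v * y) * v⁻¹ by group, ← mem_cent1.1 h1,
    inv_eq_of_mul_eq_one_right h.c_s2]
  group

theorem c_rel (hv : v ∈ S) (hvA : v ∉ A) :
    2 * C1[v].relIndex C1[t] = Nat.card A * C1[s].relIndex U[t] := by
  rw [h.relIdx hv hvA, ← inf_relIndex_right C1[v], ← inf_relIndex_right C1[s]]
  congr 2
  ext y
  refine and_congr_left fun hy => ?_
  have := h.c_act hv hvA hy
  change y ∈ C1[v] ↔ y ∈ C1[s]
  rw [mem_cent1, mem_cent1, eq_comm, ← mul_inv_eq_iff_eq_mul, eq_comm (a := y * s),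
    ← mul_inv_eq_iff_eq_mul (a := s * y),
    this]

theorem c_L : L.relIndex C1[t] = L.relIndex U[t] := by
  have h1 := (h.sd.inf_of_right_le h.SL).card_mul
  have h2 := card_inf_mul_relIndex L C1[t]
  have h3 := card_inf_mul_relIndex L U[t]
  rw [inf_comm, ← h1, ← h.sd.card_mul, ← h3, inf_comm L] at h2
  exact Nat.eq_of_mul_eq_mul_left (Nat.mul_pos (card_pos' (U[t] ⊓ L)) (card_pos' S)) (by linarith)

theorem c_starN (hy : y ∈ U[t]) (h1 : y ≠ 1) (hn : C1[t] ≤ N[zpowers y])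
    (hi : s * y * s⁻¹ = y⁻¹) : Star t y := fun v hv c => by
  have hN := norm_eq_of_coatom h.max (ne_bot_of_mem (mem_zpowers y) h1)
    (zpowers_le.2 (U_le t hy)) hn
  have hvH : v ∈ C1[t] := hN ▸ cent_le_norm _ (by rwa [cent_zpowers])
  obtain ⟨k, hk, hS⟩ := st_conj_mem h.toSt hv hvH
  by_contra hne
  have hA : k * v * k⁻¹ ∉ A := h.not_mem (ord2_conj hv k) fun e => hne (by
    rw [show v = k⁻¹ * (k * v * k⁻¹) * k by group, e, mul_assoc, ← mem_cent1.1 hk]; group)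
  have h2 := conj_mem_of_le_norm hn hk (mem_zpowers y)
  have h3 := zpowers_le.2 hy h2
  refine h1 (conj_eq_one_iff.1 (eq1_of_inv_fix (t := k * v * k⁻¹) (odd_ord (O_odd _) h3) ?_ ?_))
  · rw [h.c_act hS hA h3]
    obtain ⟨j, e⟩ := mem_zpowers_iff.1 h2
    rw [← e, ← conj_zpow, hi, inv_zpow]
  · rw [← conj_cent1]; exact conj_mem_conj.2 (mem_cent1_comm.1 c)

theorem c_F' (hy : y ∈ F[t]) (ho : (orderOf y).Prime) (hp : orderOf y ≠ p) :
    s * y * s⁻¹ = y⁻¹ ∧ C1[t] ≤ N[zpowers y] := by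
  have h1 : y ∈ piCoreOf ({p} : Set ℕ)ᶜ F[t] :=
    nil_mem_piCoreOf (fittingOf_nilpotent _) hy ((piNat_prime ho).2 hp)
  exact ⟨h.invF y h1, PG.le_norm_of_isCyclic h.cycF (zpowers_le.2 h1) (le_norm_piCoreOf (norm_F t))⟩

theorem c_star (st : STAR t s p) (hy : y ∈ U[t]) (ho : (orderOf y).Prime) (hp : orderOf y ≠ p)
    (hi : s * y * s⁻¹ = y⁻¹) : Star t y := by
  by_cases hF : y ∈ F[t]
  · exact h.c_starN hy (fun e => by rw [e, orderOf_one] at ho; exact ho.ne_one rfl)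
      (h.c_F' hF ho hp).2 hi
  · exact st y hy ho hp hi hF

theorem c_syl (hρ : ρ.Prime) : ∃ R, IsPiHallOf {ρ} R U[t] ∧ s ∈ N[R] := by
  obtain ⟨R, hR, hn⟩ := coprime_exists_syl hρ (Or.inl (O_solv _)) (zp_norm (norm_U t h.c_sH))
    (cop2 (O_odd _) (h.refl_ord h.sS h.sA))
  exact ⟨R, hR, hn (mem_zpowers s)⟩

theorem c_gcd (st : STAR t s p) : (C1[s].relIndex U[t]).Coprime C1[t].index := by
  refine coprime_of_forall_prime fun ρ hρ hd => ?_
  by_cases e : ρ = p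
  · obtain ⟨y, hy, ho⟩ := exists_mem_orderOf_eq h.pr h.cZ.symm.dvd
    have hU := piCoreOf_le _ _ (h.WP (h.ZW hy))
    have h1 : y ≠ 1 := fun e => by rw [e, orderOf_one] at ho; exact h.pr.ne_one ho.symm
    exact h.starNd hρ hU (e ▸ ho) (h.c_starN hU h1 (by
      rw [← eq_zpowers_of_card_prime (h.cZ ▸ h.pr) hy h1]; exact h.nZ) (h.invZ y hy))
  · obtain ⟨R, hR, hn⟩ := h.c_syl hρ
    obtain ⟨y, hy, ho, hi⟩ := exists_inverted hρ (PG.ne_two_of_odd_of_dvd (O_odd _)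
      (hd.trans (relIndex_dvd_card' _ _))) (syl_isPGroup hρ hR) h.c_s2 hn fun hle =>
        (piNat_single_compl_iff hρ).1 (hR.idx_of_le hle) hd
    exact h.starNd hρ (hR.le hy) ho (h.c_star st (hR.le hy) (ho ▸ hρ) (ho ▸ e) hi)

theorem c_CL : U[t] ⊓ C1[s] ≤ N[B ⊔ Z] := le_trans (le_inf inf_le_left (by
  rw [← h.NX X le_rfl h.X1, ← h.CX]
  exact le_norm_inf (inf_le_left.trans (self_le_norm_fittingOf _))
    (inf_le_right.trans le_normalizer))) h.UL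

theorem c_FN : F[t] ≤ N[B ⊔ Z] := by
  have hW := sup_le h.BW h.ZW
  rw [← nil_piCoreOf_sup_compl (fittingOf_nilpotent U[t]) {p}]
  refine sup_le ?_ (le_norm_of_cent (piCoreOf_compl_le_cent.trans (cent_anti ?_))) <;>
    rw [piCoreOf_single_fittingOf h.pr]
  · exact le_norm_of_commutator_le ((commutator_mono hW le_rfl).trans h.cWP) le_sup_right
  · exact hW.trans h.WP

/-- the elements of `U` inverted by `s` modulo `F`. -/
def J (der : ⁅U[t], U[t]⁆ ≤ F[t]) : Subgroup G where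
  carrier := {u | u ∈ U[t] ∧ s * u * s⁻¹ * u ∈ F[t]}
  one_mem' := ⟨one_mem _, by simp⟩
  mul_mem' := fun {a b} ha hb => ⟨mul_mem ha.1 hb.1, by
    have := mul_mem (mul_mem ha.2 (der (commutator_mem_commutator (inv_mem ha.1)
      (conj_mem_of_mem_norm (norm_U t h.c_sH) hb.1)))) hb.2
    rwa [show s * a * s⁻¹ * a * ⁅a⁻¹, s * b * s⁻¹⁆ * (s * b * s⁻¹ * b) =
      s * (a * b) * s⁻¹ * (a * b) by simp only [commutatorElement_def]; group] at this⟩
  inv_mem' := fun {a} ha => ⟨inv_mem ha.1, by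
    have := conj_mem_of_le_norm (self_le_norm_fittingOf _) ha.1 (inv_mem ha.2)
    rwa [show a * (s * a * s⁻¹ * a)⁻¹ * a⁻¹ = s * a⁻¹ * s⁻¹ * a⁻¹ by group] at this⟩

theorem c_J (der : ⁅U[t], U[t]⁆ ≤ F[t]) (hy : y ∈ U[t]) (hg : g ∈ C1[t]) : ⁅y, g⁆ ∈ h.J der := by
  obtain ⟨u, hu, a, ha, rfl⟩ := h.sd.exists_mul hg
  have h1 := conj_mem_of_le_norm (norm_U t) (h.cen ha) hy
  have h2 := der (commutator_mem_commutator h1 hu)
  rw [show ⁅y, u * a⁆ = y * (a * y * a⁻¹)⁻¹ * ⁅a * y * a⁻¹, u⁆ by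
    simp only [commutatorElement_def]; group]
  refine mul_mem ⟨mul_mem hy (inv_mem h1), ?_⟩
    ⟨F_le t h2, mul_mem (conj_mem_of_le_norm (norm_F t) h.c_sH h2) h2⟩
  by_cases hA : a ∈ A
  · rw [← mem_cent1.1 (mem_cent_iff.1 (h.AC hA) hy)]; simp
  · rw [h.c_act ha hA hy, inv_eq_of_mul_eq_one_right h.c_s2]
    simp [mul_assoc, inv_eq_of_mul_eq_one_right h.c_s2, tt h.c_s2, h.c_s2]

theorem c_inv (der : ⁅U[t], U[t]⁆ ≤ F[t]) (hρ : ρ.Prime) (h2 : ρ ≠ 2) (hp : ρ ≠ p)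
    (hR : IsPiHallOf {ρ} R U[t]) (hn : s ∈ N[R]) (hy : y ∈ R) (hc : y ∈ C[R]) (st : Star t y) :
    R ⊓ C1[s] = ⊥ := by
  have hT := h.starSyl hρ h2 hR hy st
  have pR := syl_isPGroup hρ hR
  have hH := hR.le.trans (U_le t)
  have h1 : R ⊓ ⁅(⊤ : Subgroup G), (⊤ : Subgroup G)⁆ ≤ h.J der :=
    focal_subgroup_le hρ hT fun x hx g _ hb => by
      set b := g * x * g⁻¹ with hb'
      obtain ⟨R1, hR1, hle⟩ := exists_syl_ge hρ (pR.to_le (zpowers_le.2 hy))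
        (zpowers_le.2 (cent_le_cent1 hb hc))
      obtain ⟨k, -, hk⟩ := syl_exists_conj_le hρ hT (syl_isPGroup hρ hR1) le_top
      have k1 := st.mem h.ord (hH (hk (conj_mem_conj.2 (hle (mem_zpowers y)))))
      have h3 : R1 ≤ C1[t] := by
        have := hk.trans hH
        rwa [conj_le_iff, conj_eq_self_of_mem (inv_mem k1)] at this
      obtain ⟨d, hd, hd'⟩ := syl_exists_conj_le hρ hR1 (Q := cj[g] (zpowers y))
        (isPGroup_conj_iff.2 (pR.to_le (zpowers_le.2 hy)))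
        (by rw [hb', ← conj_cent1]; exact conj_mono g (zpowers_le.2 (cent_le_cent1 hx hc)))
      rw [← mul_conj] at hd'
      have := h.c_J der (hR.le hx) (st.mem h.ord (h3 (hd' (conj_mem_conj.2 (mem_zpowers y)))))
      rwa [show ⁅x, d * g⁆ = x * (d * b * d⁻¹)⁻¹ by simp only [commutatorElement_def, hb']; group,
        mem_cent1.1 hd, show x * (b * d * d⁻¹)⁻¹ = ⁅x, g⁆ by
          simp only [commutatorElement_def, hb']; group] at this
  rw [show ⁅(⊤ : Subgroup G), (⊤ : Subgroup G)⁆ = ⊤ from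
    ((commutator_normal ⊤ ⊤).eq_bot_or_eq_top).resolve_left fun e => h.nc
      (isMulCommutative_top_iff.1 (comm_iff_le_cent.2 (le_cent_iff_commutator_eq_bot.2 e))),
    inf_top_eq] at h1
  refine eq_bot_of_le_of_coprime inf_le_left (fun x hx => ?_) (cop_pq hρ h.pr hp pR h.Xp)
  rw [← h.CX]
  refine ⟨PG.mem_of_sq_mem_of_odd (odd_ord (O_odd _) (hR.le hx.1)) ?_, hx.2⟩
  have := (h1 hx.1).2
  rwa [← mem_cent1.1 hx.2, mul_inv_cancel_right] at this

theorem c_four (der : ⁅U[t], U[t]⁆ ≤ F[t]) (nd : ¬ p ∣ N[B ⊔ Z].relIndex U[t]) (st : STAR t s p)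
    (pf3 : PF3 G) (h4 : Nat.card S = 4) :
    ∃ j N : ℤ, (C1[t].index : ℤ) = j ^ 2 * (4 * N + 1) * (2 * N + 1) ∧
      |j * N| * 2 = C1[s].relIndex C1[t] + C1[s * t].relIndex C1[t] := by
  have hFN : F[t] ≤ U[t] ⊓ N[B ⊔ Z] := le_inf (F_le t) h.c_FN
  have nrm : ∀ Y, U[t] ⊓ N[B ⊔ Z] ≤ Y → Y ≤ U[t] → U[t] ≤ N[Y] := fun Y h1 h2 =>
    le_norm_of_commutator_le_of_le h2 (der.trans (hFN.trans h1))
  obtain ⟨Y, hY, cf⟩ := exists_chiefFactor_ge (L := U[t]) (V := U[t] ⊓ N[B ⊔ Z])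
    (lt_of_le_of_ne inf_le_left fun e => h.c1gt.ne' (relIndex_eq_one.2 (inf_eq_left.1 e))) le_rfl
    (nrm _ le_rfl inf_le_left) le_normalizer
  obtain ⟨ρ, hρ, -, hpow, -⟩ := cf.elementary (O_solv _)
  have YU := cf.lt.le
  obtain ⟨x0, hx0, hx0'⟩ := SetLike.exists_of_lt cf.lt
  have hi : Y.relIndex U[t] = ρ := PG.relIndex_eq_of_card_eq_mul YU (by
    rw [← PG.card_sup_zpowers hρ (cf.norm_bot hx0) (hpow x0 hx0) hx0',
      (cf.eq_or_eq le_sup_left (sup_le YU (zpowers_le.2 hx0)) (nrm _ (hY.trans le_sup_left)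
        (sup_le YU (zpowers_le.2 hx0)))).resolve_left fun e => hx0' (e ▸ mem_sup_right (mem_zpowers _))])
  have hp : ρ ≠ p := fun e => nd (by
    rw [← inf_relIndex_left, ← e, ← hi]; exact relIndex_dvd_of_le_left _ hY)
  have h2 : ρ ≠ 2 := PG.ne_two_of_odd_of_dvd (O_odd _) (hi ▸ relIndex_dvd_card' _ _)
  have CY : U[t] ⊓ C1[s] ≤ Y := (le_inf inf_le_left h.c_CL).trans hY
  have inv : ∀ u ∈ U[t], s * u * s⁻¹ * u ∈ Y := fun u hu => by
    obtain ⟨c, hc, a, ha, e, rfl⟩ := dec2 h.c_s2 (norm_U t h.c_sH) (O_odd _) hu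
    replace ha := commutator_le_of_le_norm_left (zp_norm (norm_U t h.c_sH)) ha
    rw [show s * (c * a) * s⁻¹ = (s * c) * s⁻¹ * (s * a * s⁻¹) by group, e, ← mem_cent1.1 hc.2,
      show c * s * s⁻¹ * a⁻¹ * (c * a) = c * (a⁻¹ * c * a) by group]
    exact mul_mem (CY hc) (conj_mem_of_le_norm' cf.norm_bot ha (CY hc))
  obtain ⟨R, hR, hn⟩ := h.c_syl hρ
  have pR := syl_isPGroup hρ hR
  have hRs : R ⊓ C1[s] = ⊥ := by
    have : Fact ρ.Prime := ⟨hρ⟩
    by_cases hF : R ⊓ F[t] = ⊥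
    · obtain ⟨y, hy, ho, hi'⟩ := exists_inverted hρ h2 pR h.c_s2 hn fun hle =>
        (piNat_single_compl_iff hρ).1 (hR.idx_of_le ((le_inf hR.le hle).trans CY)) hi.symm.dvd
      exact h.c_inv der hρ h2 hp hR hn hy (le_cent_iff_commutator_eq_bot.2 (le_bot_iff.1
        (hF ▸ le_inf (der1_le R) ((commutator_mono hR.le hR.le).trans der))) hy)
        (h.c_star st (hR.le hy) (ho ▸ hρ) (ho ▸ hp) hi')
    · obtain ⟨y, hy, h1, h3⟩ := PG.exists_mem_orderOf_eq_p (pR.to_le inf_le_left) hF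
      have ho := orderOf_eq_prime h3 h1
      obtain ⟨a1, a2⟩ := h.c_F' hy.2 (ho ▸ hρ) (ho ▸ hp)
      exact h.c_inv der hρ h2 hp hR hn hy.1 (zpowers_le.1 (le_cent_symm (PG.le_cent_of_card_eq_p pR
        (hR.le.trans ((U_le t).trans a2)) (by rw [Nat.card_zpowers, ho]))))
        (h.c_star st (hR.le hy.1) (ho ▸ hρ) (ho ▸ hp) a1)
  have UA : U[t] ⊔ A ≤ C1[t] := sup_le (U_le t) (h.dih.le.trans h.cen)
  refine pf3 S A Y t s ρ h.toSt h4 h.sS h.sA YU ?_ hρ hi inv fun x hx hx' g hg => ?_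
  · rw [← h.sd.sup_eq]
    refine sup_le cf.norm_bot (le_norm_iff.2 fun a ha y hy => ?_)
    by_cases hA : a ∈ A
    · rwa [← mem_cent1.1 (mem_cent_iff.1 (h.AC hA) (YU hy)), mul_inv_cancel_right]
    · rw [h.c_act ha hA (YU hy)]
      simpa using mul_mem (inv y (YU hy)) (inv_mem hy)
  have hd : ρ ∣ orderOf x := by
    by_contra h0
    obtain ⟨u, hu, a, ha, rfl⟩ := (mem_sup_of_le_norm' (le_norm_of_cent h.AC)).1 hx
    have c : Commute u a := le_cent_iff.1 h.AC a ha u hu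
    have h1 := pow_orderOf_eq_one (u * a)
    rw [c.mul_pow, mul_eq_one_iff_eq_inv] at h1
    have h3 : u ^ orderOf (u * a) ∈ U[t] ⊓ S :=
      mem_inf.2 ⟨pow_mem hu _, by rw [h1]; exact inv_mem (pow_mem (h.dih.le ha) _)⟩
    rw [h.sd.inf_eq, mem_bot] at h3
    exact hx' (mul_mem (mem_sup_left (PG.mem_of_pow_mem_of_coprime (hpow u hu) (h3 ▸ one_mem Y)
      ((Nat.Prime.coprime_iff_not_dvd hρ).2 h0))) (mem_sup_right ha))
  obtain ⟨x', hx1, ho⟩ := exists_mem_orderOf_eq (H := zpowers x) hρ (by rwa [Nat.card_zpowers])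
  have hU : x' ∈ U[t] := st_mem_U h.toSt (zpowers_le.2 (UA hx) hx1) (ho ▸ hρ.odd_of_ne_two h2)
  obtain ⟨d, hd, hle⟩ := syl_exists_conj_le hρ hR (isPGroup_of_card_eq_prime
    (by rw [Nat.card_zpowers, ho])) (zpowers_le.2 hU)
  have h5 := hle (conj_mem_conj.2 (mem_zpowers x'))
  have h6 := h.c_star st (hR.le h5) (by rwa [orderOf_conj, ho]) (by rwa [orderOf_conj, ho])
    (inv_of_fpf h.c_s2 hn (odd_p hρ h2 pR) hRs h5)
  have h7 := h6.mem h.ord (g := g * d⁻¹) (by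
    rw [show g * d⁻¹ * (d * x' * d⁻¹) * (g * d⁻¹)⁻¹ = g * x' * g⁻¹ by group]
    obtain ⟨j, rfl⟩ := mem_zpowers_iff.1 hx1
    rw [← conj_zpow]
    exact zpow_mem (UA hg) j)
  simpa using mul_mem h7 (U_le t hd)

theorem false' (der : ⁅U[t], U[t]⁆ ≤ F[t]) (nd : ¬ p ∣ N[B ⊔ Z].relIndex U[t]) (st : STAR t s p)
    (pf2 : PF2 G) (pf3 : PF3 G) : False := by
  have hs := h.c_rel h.sS h.sA
  have key : ∀ σ ∈ A, 2 * C1[s * σ].relIndex C1[t] = Nat.card A * C1[s].relIndex U[t] :=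
    fun σ hσ => h.c_rel (mul_mem h.sS (h.dih.le hσ)) fun e => h.sA (by
      simpa using mul_mem e (inv_mem hσ))
  obtain ⟨j, N, h1, h2⟩ : ∃ j N : ℤ, (C1[t].index : ℤ) =
      j ^ 2 * (2 * Nat.card A * N + 1) * (Nat.card A * N + 1) ∧
      |j * N| * Nat.card A = (Nat.card A * C1[s].relIndex U[t] : ℕ) := by
    rcases h.card_cases with h4 | h8
    · obtain ⟨j, N, h1, h2⟩ := h.c_four der nd st pf3 h4
      have e : Nat.card A = 2 := by have := h.dih.card; omega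
      have := key t h.mem
      rw [e] at hs this ⊢
      exact ⟨j, N, by rw [h1]; push_cast; ring, by push_cast; omega⟩
    · obtain ⟨σ, hσ⟩ := PG.isCyclic_iff_exists.1 h.dih.cyc
      obtain ⟨j, N, h1, h2⟩ := pf2 S A t s σ h.toSt h8 h.sS h.sA hσ
      have := key σ (hσ ▸ mem_zpowers σ)
      exact ⟨j, N, h1, by omega⟩
  have hA : (0 : ℤ) < Nat.card A := by exact_mod_cast card_pos' A
  have h3 : |j * N| = C1[s].relIndex U[t] := by
    push_cast at h2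
    exact mul_right_cancel₀ hA.ne' (by linarith)
  have h4 : j.natAbs = 1 := by
    refine Nat.eq_one_of_dvd_coprimes (h.c_gcd st) ?_ ?_
    · rw [← Int.natCast_dvd_natCast, ← h3, Int.natAbs_dvd, dvd_abs]; exact dvd_mul_right j N
    · rw [← Int.natCast_dvd_natCast, h1, Int.natAbs_dvd, pow_two, mul_assoc, mul_assoc]
      exact dvd_mul_right j _
  have h5 : |j| = 1 := by rw [← Int.natCast_natAbs, h4]; rfl
  have hc := h.cc
  refine e5c_arith (x := Nat.card A * N) (i := C1[t].index) h.pr h.p2 h.c1gt h.c1le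
    ((O_odd _).of_dvd_nat (relIndex_dvd_card' _ _)) nd
    (Nat.Coprime.mul_dvd_of_dvd_of_dvd ((Nat.coprime_primes Nat.prime_two h.pr).2 h.p2.symm)
      h.even.two_dvd (h.cB ▸ (card_dvd_of_le h.BX).trans (h.dvd1.trans h.dvd2))) h.ar h.pp ?_ ?_ ?_
  · rw [h1, ← sq_abs, h5]; ring
  · rw [abs_mul, h5, one_mul] at h3
    rw [abs_mul, h3, abs_of_pos hA, ← hc, ← h.kk]; push_cast; ring
  · rw [← hc, ← h.c_L]; exact h.qd

end Cg

end Cfsg.Agent.GW
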