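import Cfsg.Agent.GW.Ia2

/-! Gorenstein-Walter, part Ia: end of the proof. -/

set_option autoImplicit false
set_option linter.unusedSectionVars false
set_option linter.unusedVariables false

namespace Cfsg.Agent.GW

open Cfsg Subgroup Cfsg.Agent.GT Cfsg.Agent.Cls

universe u

variable {G : Type u} [Group G] [Finite G] {S A H I J K L P Q R X Y : Subgroup G}
  {t u v w x y g σ : G} {p q : ℕ}

namespace Ia

theorem st_mul_mem (s : St S A t) (hv : v ∈ S) (hvA : v ∉ A) (hx : x ∈ S) (hxA : x ∉ A) :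
    x * v ∈ A := mul_mem_of_card_le_two_mul s.dih.le s.dih.card.le hx hv hxA hvA

theorem st_inv (s : St S A t) (hv : v ∈ S) (hvA : v ∉ A) (hA : A ≤ C[I])
    (h : ∀ y ∈ I, v * y * v⁻¹ = y⁻¹) : ∀ x ∈ S, x ∉ A → ∀ y ∈ I, x * y * x⁻¹ = y⁻¹ :=
  fun x hx hxA y hy => by
  have e := hA (st_mul_mem s (S.inv_mem hv) (fun e => hvA (inv_mem_iff.1 e)) hx hxA) _ (I.inv_mem hy)
  calc x * y * x⁻¹ = x * v⁻¹ * (v * y * v⁻¹) * (x * v⁻¹)⁻¹ := by group
    _ = _ := by rw [h y hy, ← e, mul_inv_cancel_right]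

theorem st_norm (s : St S A t) (hU : U[t] ≤ N[I]) (hA : A ≤ C[I])
    (h : ∀ x ∈ S, x ∉ A → ∀ y ∈ I, x * y * x⁻¹ = y⁻¹) : C1[t] ≤ N[I] := by
  rw [← (st_sd s).sup_eq]
  refine sup_le hU (le_norm_iff.2 fun x hx y hy => ?_)
  by_cases hxA : x ∈ A
  · exact conj_mem_of_mem_norm (cent_le_norm _ (hA hxA)) hy
  · rw [h x hx hxA y hy]; exact I.inv_mem hy

/-- A reflection inverts `A`. -/
theorem st_refl_inv (s : St S A t) (hv : v ∈ S) (hvA : v ∉ A) (hx : x ∈ A) :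
    v * x * v⁻¹ = x⁻¹ := by
  have h1 := s.dih.sq _ (S.mul_mem hv (s.dih.le hx)) fun e => hvA ((A.mul_mem_cancel_right hx).1 e)
  have h2 := s.dih.sq _ hv hvA
  rw [pow_two] at h1 h2
  rw [TT.inv_of_sq h2, eq_inv_iff_mul_eq_one, ← h1]; group

theorem card_lt_of_reg (hn : K ≤ N[J]) (hy : y ∈ J) (hy1 : y ≠ 1)
    (h : ∀ a ∈ K, a * y = y * a → a = 1) : Nat.card K < Nat.card J := by
  have := Fintype.ofFinite K
  have := Fintype.ofFinite J
  rw [Nat.card_eq_fintype_card, Nat.card_eq_fintype_card]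
  refine Fintype.card_lt_of_injective_of_notMem
    (fun a : K => (⟨a * y * a⁻¹, conj_mem_of_le_norm hn a.2 hy⟩ : J)) (fun a b e => ?_) (b := 1) ?_
  · have e' : (a : G) * y * (a : G)⁻¹ = b * y * (b : G)⁻¹ := congrArg Subtype.val e
    have := h _ (K.mul_mem (K.inv_mem b.2) a.2) (by
      calc (b : G)⁻¹ * a * y = (b : G)⁻¹ * (a * y * (a : G)⁻¹) * a := by group
        _ = _ := by rw [e']; group)
    exact Subtype.ext (inv_mul_eq_one.1 this).symm
  · rintro ⟨a, e⟩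
    exact hy1 (conj_eq_one_iff.1 (congrArg Subtype.val e))

theorem card_four (s : St S A t) (h8 : Nat.card S = 8) (hv : v ∈ S) (hvA : v ∉ A)
    (hn : ¬ S ≤ C1[v]) : Nat.card ↥(S ⊓ C1[v]) = 4 := by
  obtain ⟨h2, hne, c⟩ := st_refl s hv hvA
  have h1 := card_lt_of_lt (lt_of_le_of_ne (inf_le_left : S ⊓ C1[v] ≤ S) fun e => hn (inf_eq_left.1 e))
  have h3 : zpowers v < S ⊓ C1[v] :=
    lt_of_le_of_ne (zpowers_le.2 ⟨hv, self_mem_cent1 v⟩) fun e => by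
      have : t ∈ zpowers v := e ▸ ⟨s.dih.le s.mem, mem_cent1.2 c.symm⟩
      rcases (TT.mem_zpowers_of_sq (TT.mul_self_of_orderOf h2)).1 this with e | e
      · exact TT.ne_one_of_orderOf s.ord e
      · exact hne e.symm
  have h4 := card_lt_of_lt h3
  have h5 := card_dvd_of_le (inf_le_left : S ⊓ C1[v] ≤ S)
  rw [Nat.card_zpowers, h2] at h4
  rw [h8] at h1 h5
  generalize Nat.card ↥(S ⊓ C1[v]) = n at *
  interval_cases n <;> omega

variable [IsSimpleGroup G]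

theorem Hy.cop (h : Hy G) (s : St S A t) (hI : I ≤ U[t]) (hc : IsMulCommutative I)
    (hn : C1[t] ≤ N[I]) (inv : ∀ x ∈ S, x ∉ A → ∀ y ∈ I, x * y * x⁻¹ = y⁻¹) :
    (C1[t].index).Coprime (Nat.card I) := coprime_of_forall_prime fun p hp h1 h2 => by
  have h3 := piCoreOf_ne_bot_of_nil (π := {p}) (nilpotent_of_comm' hc) hp rfl h2
  have h4 := piCoreOf_le {p} I
  exact st_gcd s hp (h4.trans hI) h3 (piCoreOf_isPGroup hp I)
    (h.norm s.ord h3 (h4.trans (hI.trans (U_le t))) (le_norm_piCoreOf hn))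
    (fun x hx hxA y hy => inv x hx hxA y (h4 hy)) h1

theorem Hy.sup (h : Hy G) (ht : orderOf t = 2) (hv : orderOf v = 2) (hne : v ≠ t)
    (c : v * t = t * v) : Iv t v ⊔ (U[t] ⊓ C1[v]) = U[t] :=
  le_antisymm (sup_le Iv_le_U inf_le_left) fun u hu => by
    obtain ⟨a, ha, b, hb, rfl⟩ := h.exists_mul ht hv hne c hu
    exact mul_mem (mem_sup_left ha) (mem_sup_right hb)

theorem Hy.relIndex (h : Hy G) (s : St S A t) (hv : v ∈ S) (hvA : v ∉ A) :
    C1[v].relIndex C1[t] * Nat.card ↥(S ⊓ C1[v]) = Nat.card (Iv t v) * Nat.card S := by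
  obtain ⟨h2, hne, c⟩ := st_refl s hv hvA
  have sd := st_sd s
  have e1 := sd.card_mul
  have e2 := card_inf_mul_relIndex C1[v] C1[t]
  have e3 := cent_sup_of_inf_eq_bot (A := zpowers v) (zpowers_le.2 (norm_U t (mem_cent1.2 c)))
    (zpowers_le.2 (le_normalizer hv)) sd.inf_eq (.inr sd.right_norm)
  rw [sd.sup_eq, cent_zpowers, inf_comm] at e3
  have e4 : Nat.card ↥(U[t] ⊓ C1[v] ⊔ S ⊓ C1[v]) = _ := card_sup_of_inf_eq_bot
    (.inr (le_norm_inf (inf_le_left.trans sd.right_norm) (le_norm_self inf_le_right)))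
    (eq_bot_iff.2 (sd.inf_eq ▸ inf_le_inf inf_le_left inf_le_left))
  have e5 : Nat.card ↥(Iv t v ⊔ U[t] ⊓ C1[v]) = _ := card_sup_of_inf_eq_bot
    (.inr (inf_le_left.trans (h.norm_Iv s.ord h2 hne c)))
    (eq_bot_iff.2 (Iv_inf (t := t) (v := v) ▸ inf_le_inf_left _ inf_le_right))
  rw [h.sup s.ord h2 hne c] at e5
  rw [e3, e4, ← e1, e5] at e2
  refine Nat.eq_of_mul_eq_mul_left (card_pos' (U[t] ⊓ C1[v])) ?_
  linarith

theorem Hy.reg (h : Hy G) (s : St S A t) (hv : orderOf v = 2) (hne : v ≠ t)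
    (c : v * t = t * v) (hJ : J ≤ Iv t v) (hJ1 : J ≠ ⊥) (hn : U[t] ≤ N[J]) :
    Nat.card ↥(F[t] ⊓ C1[v]) < Nat.card J := by
  obtain ⟨g, e1, e2⟩ := s.cyc3 hv hne c
  obtain ⟨y, hy, hy1⟩ := exists_ne_one_of_ne_bot hJ1
  rw [← card_conj g, conj_inf, conj_F, conj_cent1, e1, e2]
  have h1 : F[v] ⊓ C1[t * v] ≤ C1[t] := fun x hx => mem_cent1.2 (by
    have a := mem_cent1.1 (U_le v (F_le v hx.1))
    have b := mem_cent1.1 hx.2
    rwa [← mul_assoc, mul_assoc t, ← a, ← mul_assoc, mul_left_inj] at b)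
  refine card_lt_of_reg ((st_le_U s h1 (odd_card_of_le (odd_F v) inf_le_left)).trans hn) hy hy1
    fun a ha e => by_contra fun ha1 => hy1 ?_
  exact eq_one_of_inv (odd_ord (odd_O _) (Iv_le_U (hJ hy))) (hJ hy).2
    (mem_cent1.1 (h.s4 hv ha.1 ha1 (mem_cent1.2 e.symm))).symm

/-- Step (5). -/
theorem Hy.s5 (h : Hy G) (al : AL G) (s : St S A t) (hv : v ∈ S) (hvA : v ∉ A) (hσ : zpowers σ = A)
    (hσ2 : σ * σ ∈ C[U[t]]) (hp : p.Prime) (hP : piCoreOf {p} U[t] ≠ ⊥)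
    (h1 : piCoreOf {p} U[t] ≤ C1[v])
    (h2 : ∀ y ∈ piCoreOf {p} U[t], v * σ * y * (v * σ)⁻¹ = y⁻¹) : False := by
  have hσA : σ ∈ A := hσ ▸ mem_zpowers σ
  have hw : v * σ ∈ S := S.mul_mem hv (s.dih.le hσA)
  have hwA : v * σ ∉ A := fun e => hvA ((A.mul_mem_cancel_right hσA).1 e)
  obtain ⟨v2, vne, vc⟩ := st_refl s hv hvA
  obtain ⟨w2, wne, wc⟩ := st_refl s hw hwA
  have ht := s.ord
  have vv := TT.mul_self_of_orderOf v2
  have vσ := st_refl_inv s hv hvA hσA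
  have hPw : piCoreOf {p} U[t] ≤ Iv t (v * σ) := fun y hy => by
    refine ⟨Hy.mem_Z (piCoreOf_le _ _ hy) fun q hq z hz => ?_, h2 y hy⟩
    by_cases e : q = p
    · subst e
      have := h2 _ (mul_mem hz hy)
      rw [show v * σ * (z * y) * (v * σ)⁻¹ = (v * σ * z * (v * σ)⁻¹) * (v * σ * y * (v * σ)⁻¹) by
        group, h2 z hz, h2 y hy, ← mul_inv_rev, inv_inj] at this
      exact this.symm
    · exact piCoreOf_le_cent_of_disjoint (π := {p}) (ρ := {q})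
        (fun r _ a b => e (b.symm.trans a)) hy z hz
  obtain ⟨y0, hy0, hy01⟩ := exists_ne_one_of_ne_bot hP
  have hσc : σ * y0 ≠ y0 * σ := fun e => hy01 (eq_one_of_inv
    (odd_ord (odd_O _) (piCoreOf_le _ _ hy0)) (h2 y0 hy0) (by
      rw [mul_assoc, e, ← mul_assoc, ← mem_cent1.1 (h1 hy0), mul_assoc]))
  have hσ1 : σ * σ ≠ 1 := fun e => hσc (by
    by_cases e1 : σ = 1
    · simp [e1]
    · rw [st_uniq s hσA (TT.orderOf_eq_two e e1)]
      exact (mem_cent1.1 (O_le p t hy0)).symm)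
  -- `σ` has order 4
  have hσ4 : σ * σ * (σ * σ) = 1 := by
    obtain ⟨g, e1, e2⟩ := s.cyc3 v2 vne vc
    have ha : g * y0 * g⁻¹ ∈ F[v] := by rw [← e1, ← conj_F]; exact conj_mem_conj.2 (O_le_F hp t hy0)
    have hb : g * y0 * g⁻¹ ∈ C1[t * v] := by rw [← e2, ← conj_cent1]; exact conj_mem_conj.2 (h1 hy0)
    have ha1 : g * y0 * g⁻¹ ≠ 1 := fun e => hy01 (conj_eq_one_iff.1 e)
    generalize g * y0 * g⁻¹ = a at ha hb ha1
    have hc : a ∈ C1[t] := mem_cent1.2 (by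
      have a' := mem_cent1.1 (U_le v (F_le v ha))
      have b := mem_cent1.1 hb
      rwa [← mul_assoc, mul_assoc t, ← a', ← mul_assoc, mul_left_inj] at b)
    have hd := hσ2 a (st_mem_U s hc (odd_ord (odd_F v) ha))
    have he : a ∈ F[σ * σ * v * (σ * σ)⁻¹] := by
      rw [← conj_F, mem_conj, mul_assoc, hd, inv_mul_cancel_left]; exact ha
    have hf := h.ti v2 (by rw [orderOf_conj, v2]) ha he ha1
    have hg : v * (σ * σ) * v⁻¹ = (σ * σ)⁻¹ := st_refl_inv s hv hvA (A.mul_mem hσA hσA)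
    rw [mul_inv_eq_iff_eq_mul] at hf
    rw [← hf, mul_inv_cancel_right, eq_inv_iff_mul_eq_one] at hg
    exact hg
  have hσt : σ * σ = t := st_uniq s (A.mul_mem hσA hσA) (TT.orderOf_eq_two hσ4 hσ1)
  have h8 : Nat.card S = 8 := by
    have : orderOf σ = 2 ^ (1 + 1) := orderOf_eq_prime_pow (by rwa [pow_one, pow_two])
      (by rw [← hσ4]; simp [pow_succ, mul_assoc])
    rw [s.dih.card, ← hσ, Nat.card_zpowers, this]; rfl
  -- the sign components
  have a1 := h.reg s w2 wne wc (J := Iv t (v * σ) ⊓ (F[t] ⊓ C[F[t]] ⊓ C1[v])) inf_le_left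
    (ne_bot_of_le hP (le_inf hPw (le_inf (hPw.trans Iv_le_Z) h1)))
    (le_norm_inf (h.norm_Iv ht w2 wne wc) (h.norm_Zc ht v2 vne vc))
  have a2 : Iv t v ⊓ C1[v * σ] = ⊥ := by
    by_contra hne
    have a3 := h.reg s v2 vne vc (J := Iv t v ⊓ (F[t] ⊓ C[F[t]] ⊓ C1[v * σ])) inf_le_left
      (ne_bot_of_le hne (le_inf inf_le_left (inf_le_inf_right _ Iv_le_Z)))
      (le_norm_inf (h.norm_Iv ht v2 vne vc) (h.norm_Zc ht w2 wne wc))
    have a4 := card_le_of_le (show Iv t v ⊓ (F[t] ⊓ C[F[t]] ⊓ C1[v * σ]) ≤ F[t] ⊓ C1[v * σ] from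
      inf_le_right.trans (inf_le_inf_right _ inf_le_left))
    have a5 := card_le_of_le (show Iv t (v * σ) ⊓ (F[t] ⊓ C[F[t]] ⊓ C1[v]) ≤ F[t] ⊓ C1[v] from
      inf_le_right.trans (inf_le_inf_right _ inf_le_left))
    omega
  have hn : v * σ ∈ N[Iv t v] := mem_normalizer_of_conj_le (conj_le_iff_forall.2 fun y hy =>
    ⟨conj_mem_of_le_norm (norm_Z t) (s.cen hw) hy.1, by
      have e1 := hσ2 y (Iv_le_U hy)
      have e2 : v * y⁻¹ * v⁻¹ = y := by
        rw [show v * y⁻¹ * v⁻¹ = (v * y * v⁻¹)⁻¹ by group, hy.2, inv_inv]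
      calc v * (v * σ * y * (v * σ)⁻¹) * v⁻¹ = v * v * (σ * y * σ⁻¹) * (v * v)⁻¹ := by group
        _ = σ⁻¹ * (σ * σ * y) * σ⁻¹ := by rw [vv]; group
        _ = σ⁻¹ * (v * y⁻¹ * v⁻¹) * σ⁻¹⁻¹ := by rw [← e1, e2]; group
        _ = _ := by rw [← vσ]; group⟩)
  have hle : Iv t v ≤ Iv t (v * σ) := fun y hy =>
    ⟨hy.1, conj_eq_inv_of_fpf hn (by rw [← w2, pow_orderOf_eq_one]) a2 hy⟩
  have hA : A ≤ C[Iv t v] := by
    rw [← hσ, zpowers_le]
    intro y hy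
    have e1 := (hle hy).2
    rw [← hy.2, show v * σ * y * (v * σ)⁻¹ = v * (σ * y * σ⁻¹) * v⁻¹ by group, mul_left_inj,
      mul_right_inj, mul_inv_eq_iff_eq_mul] at e1
    exact e1.symm
  have inv := st_inv s hv hvA hA fun y hy => hy.2
  have cop := h.cop s Iv_le_U Iv_comm (st_norm s (h.norm_Iv ht v2 vne vc) hA inv) inv
  have r1 := h.relIndex s hv hvA
  have r2 := h.relIndex s hw hwA
  have nc : σ * v ≠ v * σ := fun e => by
    rw [← e, mul_inv_cancel_right, eq_inv_iff_mul_eq_one] at vσ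
    exact hσ1 vσ
  rw [card_four s h8 hv hvA fun e => nc (mem_cent1.1 (e (s.dih.le hσA))), h8] at r1
  rw [card_four s h8 hw hwA fun e => nc (by
    have := mem_cent1.1 (e (s.dih.le hσA))
    rwa [← mul_assoc, mul_left_inj] at this), h8] at r2
  have r3 := card_mul_relIndex hle
  have r4 : (Iv t v).relIndex (Iv t (v * σ)) ≠ 1 := fun e => hP (by
    rw [relIndex_eq_one] at e
    exact eq_bot_iff.2 (Iv_inf (t := t) (v := v) ▸ le_inf (hPw.trans e) h1))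
  have r5 := relIndex_pos (Iv t v) (Iv t (v * σ))
  have r6 := ne_bot_iff_one_lt_card.1 (h.Iv_ne ht v2 vne vc)
  have e1 : C1[v].relIndex C1[t] = 2 * Nat.card (Iv t v) := by omega
  have key := al S A t v σ ((Iv t v).relIndex (Iv t (v * σ))) s h8 hv hvA hσ (by omega) (by
    rw [e1]; nlinarith)
  rw [e1] at key
  have hd : Nat.card (Iv t v) ∣ C1[t].index := by
    rcases key with ⟨-, e⟩ | ⟨-, e⟩
    · exact ⟨105 * Nat.card (Iv t v), by nlinarith⟩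
    · exact ⟨189 * Nat.card (Iv t v), by nlinarith⟩
  exact r6.ne' (Nat.Coprime.eq_one_of_dvd cop.symm hd)

theorem Hy.cent (h : Hy G) (al : AL G) (s : St S A t) : A ≤ C[U[t]] := by
  obtain ⟨σ, hσ⟩ := PG.isCyclic_iff_exists.1 s.dih.cyc
  obtain ⟨v, hv, hvA⟩ := st_exists s
  have hσA : σ ∈ A := hσ ▸ mem_zpowers σ
  have hw : v * σ ∈ S := S.mul_mem hv (s.dih.le hσA)
  have hwA : v * σ ∉ A := fun e => hvA ((A.mul_mem_cancel_right hσA).1 e)
  obtain ⟨v2, vne, vc⟩ := st_refl s hv hvA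
  obtain ⟨w2, wne, wc⟩ := st_refl s hw hwA
  have vv := TT.mul_self_of_orderOf v2
  have lift : ∀ x ∈ A, (∀ p : ℕ, p.Prime → x ∈ C[piCoreOf {p} U[t]]) → x ∈ C[U[t]] :=
    fun x hx e => zpowers_le.1 (coprime_le_cent_of_le_cent_fittingOf (solv_O _)
      (zpowers_le.2 (norm_U t (s.cen (s.dih.le hx))))
      ((piCoreOf_isPi _ _).coprime' (s.syl.isPi.of_le (zpowers_le.2 (s.dih.le hx))))
      (fittingOf_le_cent_of_forall fun p hp => zpowers_le.2 (e p hp)))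
  have pm : ∀ p : ℕ, p.Prime → ∀ z, orderOf z = 2 → z ≠ t → z * t = t * z →
      (∀ y ∈ piCoreOf {p} U[t], z * y * z⁻¹ = y) ∨ ∀ y ∈ piCoreOf {p} U[t], z * y * z⁻¹ = y⁻¹ :=
    fun p hp z z2 zne zc => (h.s2 s.ord z2 zne zc hp).imp_left fun e y hy => by
      rw [← mem_cent1.1 (e hy), mul_inv_cancel_right]
  have cs : ∀ y, σ * y * σ⁻¹ = v * (v * σ * y * (v * σ)⁻¹) * v⁻¹ := fun y => by
    calc σ * y * σ⁻¹ = v * v * (σ * y * σ⁻¹) * (v * v)⁻¹ := by rw [vv]; group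
      _ = _ := by group
  have ci : ∀ z y : G, z * y⁻¹ * z⁻¹ = (z * y * z⁻¹)⁻¹ := fun z y => by group
  have hσ2 : σ * σ ∈ C[U[t]] := lift _ (A.mul_mem hσA hσA) fun p hp y hy => by
    have e : σ * (σ * y * σ⁻¹) * σ⁻¹ = y := by
      rcases pm p hp v v2 vne vc with a | a <;> rcases pm p hp _ w2 wne wc with b | b <;>
        simp only [cs y, b y hy, ci, a y hy, inv_inv]
    calc y * (σ * σ) = σ * (σ * y * σ⁻¹) * σ⁻¹ * (σ * σ) := by rw [e]
      _ = _ := by group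
  rw [← hσ, zpowers_le]
  refine lift σ hσA fun p hp => ?_
  by_cases hP : piCoreOf {p} U[t] = ⊥
  · rw [hP, cent_bot]; trivial
  have fin : (∀ y ∈ piCoreOf {p} U[t], σ * y * σ⁻¹ = y) → σ ∈ C[piCoreOf {p} U[t]] :=
    fun e y hy => (mul_inv_eq_iff_eq_mul.1 (e y hy)).symm
  have fc : ∀ z, (∀ y ∈ piCoreOf {p} U[t], z * y * z⁻¹ = y) → piCoreOf {p} U[t] ≤ C1[z] :=
    fun z e y hy => mem_cent1.2 (mul_inv_eq_iff_eq_mul.1 (e y hy)).symm
  rcases pm p hp v v2 vne vc with a | a <;> rcases pm p hp _ w2 wne wc with b | b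
  · exact fin fun y hy => by rw [cs, b y hy, a y hy]
  · exact (h.s5 al s hv hvA hσ hσ2 hp hP (fc _ a) b).elim
  · exact (h.s5 (σ := σ⁻¹) al s hw hwA (by rwa [zpowers_inv]) (by
      rw [← mul_inv_rev]; exact inv_mem hσ2) hp hP (fc _ b)
      (by simpa only [mul_inv_cancel_right] using a)).elim
  · exact fin fun y hy => by rw [cs, b y hy, ci, a y hy, inv_inv]

theorem l2_of_bsw (s : St S A t) (nc : ¬ IsMulCommutative G) (b : BSW H t) : L2 G := by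
  obtain ⟨F, _, _, ho, ⟨e⟩⟩ := b.psl2 nc
  refine ⟨F, inferInstance, inferInstance, ho, ?_, ⟨e⟩⟩
  by_contra h3
  have h1 : 1 < Fintype.card F := Fintype.one_lt_card
  have h2 : Fintype.card F = 3 := by obtain ⟨k, hk⟩ := ho; omega
  have h4 := Cl.card_psl_two_of_odd h2 (by decide)
  rw [← Nat.card_congr e.toEquiv] at h4
  have h5 := Cl.two_mul_card_dvd_factorial_index nc (H := S) fun e' =>
    Cl.centralizer_ne_top_of_simple nc (TT.ne_one_of_orderOf s.ord) (top_le_iff.1 (e' ▸ s.cen))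
  have h6 := S.card_mul_index
  have h7 := s.four
  have h8 : S.index ≤ 3 := by nlinarith
  rw [h4] at h5
  generalize S.index = n at *
  interval_cases n <;> simp_all [Nat.factorial]

theorem l2_of_bot (s : St S A t) (nc : ¬ IsMulCommutative G) (h : U[t] = ⊥) : L2 G :=
  l2_of_bsw s nc (s.dih.bsw nc s.syl s.ord s.mem s.cen h.symm (by rw [cent_bot]; exact le_top)
    (fun x _ _ y hy => by simp [mem_bot.1 hy]) fun y hy e => absurd (mem_bot.1 hy) e)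

theorem Hy.l2 (h : Hy G) (al : AL G) (tc : TC G) (s : St S A t) : L2 G := by
  obtain ⟨v, hv, hvA⟩ := st_exists s
  obtain ⟨v2, vne, vc⟩ := st_refl s hv hvA
  have hA := h.cent al s
  have hA' : A ≤ C[Iv t v] := hA.trans (cent_anti Iv_le_U)
  have inv := st_inv s hv hvA hA' fun y hy => hy.2
  have hn := st_norm s (h.norm_Iv s.ord v2 vne vc) hA' inv
  have e : U[t] ⊓ C[S] = U[t] ⊓ C1[v] :=
    le_antisymm (inf_le_inf_left _ (cent_le_cent1 hv)) fun y hy => ⟨hy.1, fun x hx => by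
      by_cases hxA : x ∈ A
      · exact (hA hxA y hy.1).symm
      · have e1 := hA (st_mul_mem s hv hvA hx hxA) y hy.1
        rwa [mul_assoc, ← mem_cent1.1 hy.2, ← mul_assoc, ← mul_assoc, mul_left_inj, eq_comm] at e1⟩
  have hU := h.sup s.ord v2 vne vc
  have hb := tc S A _ t s hA Iv_le_U (h.Iv_ne s.ord v2 vne vc) hn inv (e ▸ hU)
    (h.cop s Iv_le_U Iv_comm hn inv)
  rw [← e, hb, sup_bot_eq] at hU
  exact l2_of_bsw s h.nc (s.dih.bsw h.nc s.syl s.ord s.mem s.cen hU hA' inv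
    fun y hy => h.s4 s.ord (Iv_le_F hy))

end Ia

theorem Min.caseIa' [IsSimpleGroup G] (h : Min S A t) (al : Ia.AL G) (tc : Ia.TC G)
    (hm : IsCoatom C1[t])
    (hE : ∀ X L : Subgroup G, X ≠ ⊥ → X ≤ fittingOf O[C1[t]] → IsCoatom L → N[X] ≤ L → Con L) :
    L2 G := by
  by_cases hU : O[C1[t]] = ⊥
  · exact Ia.l2_of_bot h.toSt h.nc hU
  refine Ia.Hy.l2 ⟨fun z hz => ?_, h.nc, fun z hz => ?_, fun z hz => ?_, fun z hz => ?_⟩ al tc
    h.toSt <;>
    obtain ⟨g, rfl⟩ := h.one z hz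
  · exact ⟨_, _, Ia.st_conj h.toSt g⟩
  · rw [← conj_cent1]; exact isCoatom_conj g hm
  · rwa [← Ia.conj_U, Ne, conj_eq_bot_iff]
  · intro X L hX hXF hL hn
    have := hE (cj[g⁻¹] X) (cj[g⁻¹] L) (by rwa [Ne, conj_eq_bot_iff])
      (by rwa [← le_conj_iff, Ia.conj_F]) (isCoatom_conj _ hL)
      (by rw [← conj_normalizer]; exact conj_mono _ hn)
    rwa [Con, ← conj_fittingOf, ← conj_centralizer, ← conj_inf, conj_le_conj_iff] at this

end Cfsg.Agent.GW
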