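import Cfsg.Agent.GW.D3
import Cfsg.Agent.GW.Ia3

/-! Gorenstein-Walter, part Ib: interface between the pieces. -/

set_option autoImplicit false
set_option linter.unusedSectionVars false
set_option linter.unusedVariables false

namespace Cfsg.Agent.GW

open Cfsg Subgroup Cfsg.Agent.GT Cfsg.Agent.Cls Cfsg.Agent.GW.Ia
open scoped commutatorElement

universe u

section
variable {G : Type u} [Group G]

/-- no overgroup of `N(X)`, `1 ≠ X ≤ F(O(C(t)))`, has a component. -/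
def NoE (t : G) : Prop := ∀ X L : Subgroup G, X ≠ ⊥ → X ≤ fittingOf O[C1[t]] → IsCoatom L →
  N[X] ≤ L → Con L

/-- first half of `St.pf1`. -/
def PF1 (G : Type u) [Group G] : Prop :=
  ∀ (S A : Subgroup G) (t v σ : G), St S A t → v ∈ S → v ∉ A → zpowers σ = A →
    C1[t].index ≤ 15 * (C1[v].relIndex C1[t] * C1[v * σ].relIndex C1[t])

/-- `St.pf2`. -/
def PF2 (G : Type u) [Group G] : Prop :=
  ∀ (S A : Subgroup G) (t v σ : G), St S A t → 8 ≤ Nat.card S → v ∈ S → v ∉ A → zpowers σ = A →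
    ∃ j N : ℤ, (C1[t].index : ℤ) = j ^ 2 * (2 * Nat.card A * N + 1) * (Nat.card A * N + 1) ∧
      |j * N| * Nat.card A = C1[v].relIndex C1[t] + C1[v * σ].relIndex C1[t]

/-- `St.pf3`. -/
def PF3 (G : Type u) [Group G] : Prop :=
  ∀ (S A Y : Subgroup G) (t v : G) (p : ℕ), St S A t → Nat.card S = 4 → v ∈ S → v ∉ A →
    Y ≤ O[C1[t]] → C1[t] ≤ N[Y] → p.Prime → Y.relIndex O[C1[t]] = p →
    (∀ u ∈ O[C1[t]], v * u * v⁻¹ * u ∈ Y) →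
    (∀ x ∈ O[C1[t]] ⊔ A, x ∉ Y ⊔ A → ∀ g : G, g * x * g⁻¹ ∈ O[C1[t]] ⊔ A → g ∈ C1[t]) →
    ∃ j N : ℤ, (C1[t].index : ℤ) = j ^ 2 * (4 * N + 1) * (2 * N + 1) ∧
      |j * N| * 2 = C1[v].relIndex C1[t] + C1[v * t].relIndex C1[t]

/-- `t` is the only involution centralising `y`. -/
def Star (t y : G) : Prop := ∀ v : G, orderOf v = 2 → v ∈ C1[y] → v = t

/-- The configuration coming from a component `E` of `L = N(X)`. -/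
structure Cf (S A L X : Subgroup G) (t s : G) (n r : ℕ) : Prop extends Min S A t where
  max : IsCoatom C1[t]
  sS : s ∈ S
  sA : s ∉ A
  X1 : X ≠ ⊥
  cyc : IsCyclic X
  CX : F[t] ⊓ C1[s] = X
  NX : ∀ X1 : Subgroup G, X1 ≤ X → X1 ≠ ⊥ → N[X1] = L
  HL : ¬ C1[t] ≤ L
  ab : IsMulCommutative ↥(F[t] ⊓ L)
  cycY : IsCyclic ↥⁅F[t] ⊓ L, zpowers s⁆
  dvd1 : Nat.card X ∣ Nat.card ↥⁅F[t] ⊓ L, zpowers s⁆
  dvd2 : Nat.card ↥⁅F[t] ⊓ L, zpowers s⁆ ∣ n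
  even : Even n
  ar : r = n + 1 ∨ n = r + 1
  pp : IsPrimePow (n + r)
  big : (L.relIndex C1[t] - 1) * ((n + r) * r) ^ 2 ≤ C1[t].index * L.relIndex C1[t]
  qd : (n + r) ∣ C1[t].index * L.relIndex C1[t]
  dich : r ∣ L.relIndex U[t] ∨
    (S ≤ L ∧ A ≤ C[U[t]] ∧ Nat.card A * C1[s].relIndex U[t] = L.relIndex U[t] * n)

/-- The last case: `W` extraspecial of order `p ^ 3` with centre `Z`, `B ≤ X` of order `p`. -/
structure Cg (S A L X B Z W : Subgroup G) (t s : G) (n r p : ℕ) : Prop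
    extends Cf S A L X t s n r where
  SL : S ≤ L
  AC : A ≤ C[U[t]]
  kk : Nat.card A * C1[s].relIndex U[t] = L.relIndex U[t] * n
  pr : p.Prime
  p2 : p ≠ 2
  Xp : IsPGroup p X
  BX : B ≤ X
  cB : Nat.card B = p
  cZ : Nat.card Z = p
  cW : Nat.card W = p ^ 3
  BW : B ≤ W
  ZW : Z ≤ W
  WP : W ≤ piCoreOf {p} U[t]
  nZ : C1[t] ≤ N[Z]
  nW : C1[t] ≤ N[W]
  invZ : ∀ z ∈ Z, s * z * s⁻¹ = z⁻¹
  ZP : Z ≤ C[piCoreOf {p} U[t]]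
  cWP : ⁅W, piCoreOf {p} U[t]⁆ ≤ Z
  exp : ∀ w ∈ W, w ^ p = 1
  cBW : W ⊓ C[B] = B ⊔ Z
  om : ∀ y ∈ piCoreOf {p} U[t] ⊓ L, y ^ p = 1 → y ∈ B ⊔ Z
  cycF : IsCyclic ↥(piCoreOf ({p} : Set ℕ)ᶜ F[t])
  invF : ∀ y ∈ piCoreOf ({p} : Set ℕ)ᶜ F[t], s * y * s⁻¹ = y⁻¹
  UL : U[t] ⊓ L ≤ N[B ⊔ Z]
  cc : L.relIndex U[t] = p * N[B ⊔ Z].relIndex U[t]
  c1le : N[B ⊔ Z].relIndex U[t] ≤ p + 1
  c1gt : 1 < N[B ⊔ Z].relIndex U[t]

end

end Cfsg.Agent.GW
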