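import Cfsg.Agent.GW.IIT6
import Cfsg.Agent.GW.IIT7
import Cfsg.Agent.CA.Alt

/-! Gorenstein-Walter, part II: a presentation of `A₇`. -/

set_option autoImplicit false

namespace Cfsg.Agent.GW.II

open Cfsg Cfsg.Agent.TC Cfsg.Agent.CA Subgroup

universe u

theorem pbA : PB.{u} 7 GW7.iv GW7.base 2520 :=
  (GW6.cert.pb0.step (base := GW7.base) GW7.cert (by decide +kernel)).congr (by decide +kernel)

/-- the generators in `A₇` -/
def g7 (i : ℕ) : alternatingGroup (Fin 7) := evl (fun j => cy (Fin.ofNat 7 j))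
  ([[5, 4, 6, 5, 4], [6, 4, 5, 6, 4], [2], [2, 2], [2, 3, 3, 2], [4, 5, 5, 4],
    [4, 3, 5, 6, 4, 3]].getD i [])

/-- words for the three-cycles -/
def w7 (k : Fin 7) : List ℕ :=
  [[], [], [2], [2, 4, 2], [1, 6, 2, 4, 6, 2, 0], [0, 6, 2, 4, 6, 2, 1], [6, 2, 4, 6, 2]].getD k []

theorem g7_top : closure (g7 '' {i | i < 7}) = ⊤ := cy_top fun k h0 h1 => by
  have : ∀ k : Fin 7, k ≠ 0 → k ≠ 1 → cy k = evl g7 (w7 k) ∧ ∀ i ∈ w7 k, i < 7 := by decide +kernel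
  rw [(this k h0 h1).1]
  exact evl_mem fun i hi => subset_closure ⟨i, (this k h0 h1).2 i hi, rfl⟩

theorem a7_of_rel {G : Type u} [Group G] (hG : Nat.card G = 2520) {a b z s u : G} (ha : a ≠ 1)
    (z2 : z * z = 1) (s2 : s * s = 1) (u2 : u * u = 1) (r1 : a * a * a = 1) (r2 : b * b * b = 1)
    (r3 : b⁻¹ * a⁻¹ * b * a = 1) (r4 : a * s * a * s = 1) (r5 : b * s * b * s = 1)
    (r6 : z * a⁻¹ * z * a = 1) (r7 : z * b * z * b * z * b = 1) (r8 : z * s * z * s = 1)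
    (r9 : u * s * u * s = 1) (r10 : u * b⁻¹ * u * b = 1) (r11 : u * a⁻¹ * u * a⁻¹ * u * a⁻¹ = 1)
    (r12 : z * s * u * z * s * u * z * s * u = 1) : Nonempty (G ≃* alternatingGroup (Fin 7)) := by
  have d1 : ∀ i < 7, GW7.iv i < 7 ∧ g7 (GW7.iv i) * g7 i = 1 ∧
      GW7.iv i = [1, 0, 3, 2, 4, 5, 6].getD i 0 := by decide +kernel
  have d2 : ∀ l ∈ GW7.base, (∀ i ∈ l, i < 7) ∧ evl g7 l = 1 := by decide +kernel
  obtain ⟨φ, hφ⟩ := hom_of_pb (v := fun i => [a, a⁻¹, b, b⁻¹, z, s, u].getD i 1) pbA card_A7.ge g7_top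
    (fun i hi => ⟨(d1 i hi).1, (d1 i hi).2.1, by
      rw [(d1 i hi).2.2]
      interval_cases i
      exacts [inv_mul_cancel a, mul_inv_cancel a, inv_mul_cancel b, mul_inv_cancel b, z2, s2, u2]⟩)
    fun l hl => ⟨(d2 l hl).1, (d2 l hl).2, by
      revert l
      simp only [GW7.base, List.forall_mem_cons, evl, one_mul]
      exact ⟨r1, r2, r3, r4, r5, r6, r7, r8, r9, r10, r11, r12, by simp⟩⟩
  have := alternatingGroup.isSimpleGroup (α := Fin 7) (by simp)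
  have : Finite G := Nat.finite_of_card_ne_zero (by omega)
  have hi : Function.Injective φ := by
    rw [← MonoidHom.ker_eq_bot_iff]
    refine (IsSimpleGroup.eq_bot_or_eq_top_of_normal φ.ker inferInstance).resolve_right fun e => ha ?_
    exact (hφ 0 (by omega)).symm.trans (show g7 0 ∈ φ.ker from e ▸ mem_top _)
  exact ⟨(MulEquiv.ofBijective φ (hi.bijective_of_nat_card_le (by rw [hG, card_A7]))).symm⟩

end Cfsg.Agent.GW.II
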