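import Cfsg.Agent.GW.II1
import Cfsg.Agent.GW.Ia3
import Cfsg.Agent.GW.D3

/-! Gorenstein-Walter, part II: recognition of `A₇`. -/

set_option autoImplicit false
set_option linter.unusedSectionVars false
set_option linter.unusedVariables false

namespace Cfsg.Agent.GW.II

open Cfsg Subgroup Cfsg.Agent.GT Cfsg.Agent.Cls Cfsg.Agent.GW.Ia

universe u

variable {G : Type u} [Group G] [Finite G] {S A B H K M P R T V W : Subgroup G}
  {t u v w x y z b g σ : G} {p : ℕ}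

theorem relIndex_cent1_lt (hx : x ∈ K) (hx1 : x ≠ 1) (hn : M ≤ N[K]) :
    C1[x].relIndex M < Nat.card K := by
  have := Fintype.ofFinite K
  have := Fintype.ofFinite (M ⧸ C1[x].subgroupOf M)
  rw [relIndex, index, Nat.card_eq_fintype_card, Nat.card_eq_fintype_card]
  refine Fintype.card_lt_of_injective_of_notMem (fun q : M ⧸ C1[x].subgroupOf M =>
    (⟨q.out * x * (q.out : G)⁻¹, conj_mem_of_le_norm hn q.out.2 hx⟩ : K)) (fun a b e => ?_)
    (b := 1) ?_
  · have e' : (a.out : G) * x * (a.out : G)⁻¹ = b.out * x * (b.out : G)⁻¹ := congrArg Subtype.val e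
    rw [← a.out_eq', ← b.out_eq', QuotientGroup.eq, mem_subgroupOf, mem_cent1]
    calc (a.out : G)⁻¹ * b.out * x = (a.out : G)⁻¹ * (b.out * x * (b.out : G)⁻¹) * b.out := by group
      _ = _ := by rw [← e']; simp [mul_assoc]
  · rintro ⟨a, e⟩
    exact hx1 (conj_eq_one_iff.1 (congrArg Subtype.val e))

theorem cent_of_sq (ho : Odd (orderOf b)) (h : b * b ∈ K) : b ∈ K :=
  PG.mem_of_pow_mem_of_coprime_orderOf (m := 2) (by rwa [pow_two]) ho.coprime_two_right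

theorem eq_one_of_odd_inv (hb : Odd (orderOf b)) (hx : Odd (orderOf x)) (h : b * x * b⁻¹ = x⁻¹) :
    x = 1 :=
  eq_one_of_inv hx h (mem_cent1.1 (cent_of_sq hb (mem_cent1.2 (by
    calc b * b * x = b * (b * x * b⁻¹) * b⁻¹ * (b * b) := by group
      _ = (b * x * b⁻¹)⁻¹ * (b * b) := by nth_rw 1 [h]; group
      _ = _ := by rw [h, inv_inv]))))

/-- If an automorphism of an odd group has a fixed subgroup of index at most 5, the fixed points
centralize the inverted elements. -/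
theorem six (ho : Odd (Nat.card K)) (h5 : C1[w].relIndex K ≤ 5) (hx : x ∈ K)
    (hi : w * x * w⁻¹ = x⁻¹) (hb : b ∈ K ⊓ C1[w]) : b * x = x * b := by
  by_contra hne
  have := Fintype.ofFinite (K ⧸ C1[w].subgroupOf K)
  have cj' : ∀ y, w * y * w⁻¹ = y⁻¹ → w * (b * y * b⁻¹) * w⁻¹ = (b * y * b⁻¹)⁻¹ := fun y hy => by
    have e := mem_cent1.1 hb.2
    calc w * (b * y * b⁻¹) * w⁻¹ = (w * b) * y * (w * b)⁻¹ := by group
      _ = b * (w * y * w⁻¹) * b⁻¹ := by rw [← e]; group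
      _ = _ := by rw [hy]; group
  have iv : ∀ y, w * y * w⁻¹ = y⁻¹ → w * y⁻¹ * w⁻¹ = y⁻¹⁻¹ := fun y hy => by
    rw [show w * y⁻¹ * w⁻¹ = (w * y * w⁻¹)⁻¹ by group, hy]
  have x1 : x ≠ 1 := fun e => hne (by simp [e])
  have ob := Ia.odd_ord ho hb.1
  have ox := Ia.odd_ord ho hx
  have n1 : b * x * b⁻¹ ≠ x := fun e => hne (mul_inv_eq_iff_eq_mul.1 e)
  have n2 : b * x * b⁻¹ ≠ x⁻¹ := fun e => x1 (eq_one_of_odd_inv ob ox e)
  have n3 : b * (b * x * b⁻¹) * b⁻¹ ≠ x := fun e => hne (mem_cent1.1 (cent_of_sq ob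
    (mem_cent1.2 (by rw [← mul_inv_eq_iff_eq_mul, ← e, e]; nth_rw 2 [← e]; group))))
  have n4 : b * (b * x * b⁻¹) * b⁻¹ ≠ x⁻¹ := fun e => x1 (eq_one_of_odd_inv
    (Ia.odd_ord ho (K.mul_mem hb.1 hb.1)) ox (by rw [← e]; group))
  have n5 : x ≠ x⁻¹ := fun e => x1 (eq_one_of_sq ox (eq_inv_iff_mul_eq_one.1 e))
  have hy := K.mul_mem (K.mul_mem hb.1 hx) (K.inv_mem hb.1)
  have hz := K.mul_mem (K.mul_mem hb.1 hy) (K.inv_mem hb.1)
  have nd : [(1 : K), ⟨x, hx⟩, ⟨x, hx⟩⁻¹, ⟨_, hy⟩, ⟨_, hy⟩⁻¹, ⟨_, hz⟩].Nodup := by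
    refine List.Nodup.of_map Subtype.val ?_
    have m1 : ∀ y, b * y * b⁻¹ = 1 ↔ y = 1 := fun y => conj_eq_one_iff
    have m2 : ∀ y y', b * y * b⁻¹ = b * y' * b⁻¹ ↔ y = y' := fun y y' => by simp
    have m3 : ∀ y, (b * y * b⁻¹)⁻¹ = b * y⁻¹ * b⁻¹ := fun y => by group
    have n6 : b * x⁻¹ * b⁻¹ ≠ x := fun e => n2 (by rw [← inv_inj, m3, e, inv_inv])
    have n7 : b * x⁻¹ * b⁻¹ ≠ x⁻¹ := fun e => n1 (by rw [← inv_inj, m3, e])
    simp only [List.map_cons, List.map_nil, List.nodup_cons, List.mem_cons, List.not_mem_nil,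
      or_false, not_or, List.nodup_nil, and_true, OneMemClass.coe_one, InvMemClass.coe_inv, m3, m2,
      eq_comm (a := (1 : G)), m1, inv_eq_one, not_false_eq_true]
    exact ⟨⟨x1, x1, x1, x1, x1⟩, ⟨n5, n1.symm, n6.symm, n3.symm⟩, ⟨n2.symm, n7.symm, n4.symm⟩,
      ⟨n5, n1.symm⟩, n2.symm⟩
  have all : ∀ y ∈ [(1 : K), ⟨x, hx⟩, ⟨x, hx⟩⁻¹, ⟨_, hy⟩, ⟨_, hy⟩⁻¹, ⟨_, hz⟩],
      w * y * w⁻¹ = (y : G)⁻¹ := by
    simp only [List.forall_mem_cons]
    exact ⟨by simp, hi, iv _ hi, cj' _ hi, iv _ (cj' _ hi), cj' _ (cj' _ hi), by simp⟩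
  have := (nd.map_on (f := (QuotientGroup.mk : K → K ⧸ C1[w].subgroupOf K)) fun y hy y' hy' e => by
    have e0 : y⁻¹ * y' ∈ C1[w].subgroupOf K := QuotientGroup.eq.1 e
    have e1 : w * ((y : G)⁻¹ * y') = (y : G)⁻¹ * y' * w := (mem_cent1.1 (mem_subgroupOf.1 e0)).symm
    have e2 : (y : G) * (y' : G)⁻¹ = (y : G)⁻¹ * y' := by
      calc (y : G) * (y' : G)⁻¹ = (w * y * w⁻¹)⁻¹ * (w * y' * w⁻¹) := by
            rw [all y hy, all y' hy', inv_inv]
        _ = w * ((y : G)⁻¹ * y') * w⁻¹ := by group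
        _ = _ := by rw [e1, mul_inv_cancel_right]
    refine Subtype.ext (TT.eq_of_sq_eq_of_odd ho ho (PG.pow_card_eq_one_of_mem y.2)
      (PG.pow_card_eq_one_of_mem y'.2) ?_)
    calc (y : G) ^ 2 = y * (y * (y' : G)⁻¹) * y' := by rw [pow_two]; group
      _ = _ := by rw [e2, pow_two]; group).length_le_card
  rw [relIndex, index, Nat.card_eq_fintype_card] at h5
  simp only [List.length_map, List.length_cons, List.length_nil] at this
  omega

theorem inv_of_three (h : Nat.card K = 3) (hx : x ∈ N[K]) (hc : x ∉ C[K]) (hy : y ∈ K) :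
    x * y * x⁻¹ = y⁻¹ := by
  classical
  by_cases h1 : y = 1
  · simp [h1]
  have hp : (Nat.card K).Prime := h ▸ Nat.prime_three
  have e := eq_zpowers_of_card_prime hp hy h1
  have ho : orderOf y = 3 := by rw [← Nat.card_zpowers, ← e, h]
  have h2 := conj_mem_of_mem_norm hx hy
  rw [e, mem_zpowers_iff_mem_range_orderOf, ho, Finset.mem_image] at h2
  obtain ⟨n, hn, h2⟩ := h2
  rw [Finset.mem_range] at hn
  interval_cases n
  · exact absurd (conj_eq_one_iff.1 (h2.symm.trans (pow_zero y))) h1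
  · refine absurd ?_ hc
    rw [cent_eq_cent1_of_card_prime hp hy h1, mem_cent1, ← mul_inv_eq_iff_eq_mul, ← h2, pow_one]
  · rw [← h2, eq_inv_iff_mul_eq_one, ← pow_succ]
    exact (ho ▸ pow_orderOf_eq_one y : y ^ 3 = 1)

theorem mul_mem_of_inv (hx : ∀ y ∈ K, x * y * x⁻¹ = y⁻¹) (hz : ∀ y ∈ K, z * y * z⁻¹ = y⁻¹) :
    x * z ∈ C[K] := fun y hy => by
  have : x * z * y * (x * z)⁻¹ = y := by
    rw [show x * z * y * (x * z)⁻¹ = x * (z * y * z⁻¹) * x⁻¹ by group, hz y hy,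
      hx _ (K.inv_mem hy), inv_inv]
  exact (mul_inv_eq_iff_eq_mul.1 this).symm

theorem index_mod (hp : p.Prime) (h : IsPiHallOf {p} P ⊤) : N[P].index % p = 1 := by
  have := Fact.mk hp
  obtain ⟨Q, rfl⟩ := exists_sylow_of_syl_top hp h
  have h1 := card_sylow_modEq_one p G
  rw [Q.card_eq_index_normalizer] at h1
  exact (show _ % p = 1 % p from h1).trans (Nat.mod_eq_of_lt hp.one_lt)

theorem a7_loc (s : St S A t) (hG : Nat.card G = 2520) (hH : Nat.card C1[t] = 24)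
    (hU : Nat.card U[t] = 3) (V2 : IsPGroup 2 V) (Vc : IsMulCommutative V) (tV : t ∈ V)
    (VU : ∀ z ∈ V, z ≠ 1 → orderOf z = 2 ∧ U[z] = U[t]) (hn : N[U[t]] ≤ N[V])
    (hM : Nat.card N[U[t]] = 72) (p6 : ∀ x ∈ C1[t], x ∈ C[U[t]] → x ^ 6 = 1)
    (hw : w ∈ C1[t]) (hw' : w ∉ C[U[t]]) : Nonempty (G ≃* alternatingGroup (Fin 7)) := by
  have := Fact.mk Nat.prime_three
  have := Fact.mk Nat.prime_two
  have hp : (Nat.card U[t]).Prime := hU ▸ Nat.prime_three
  have c9 : ∀ R : Subgroup G, Nat.card R = 9 → U[t] ≤ R → R ≤ N[V] := fun R h9 hR =>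
    ((isMulCommutative_iff_le_cent.1 (PG.isMulCommutative_of_card_dvd_sq (p := 3) h9.dvd)).trans
      ((cent_anti hR).trans (cent_le_norm _))).trans hn
  -- an involution normalizing a group of order 9 inverts it
  have Q : ∀ (R : Subgroup G) (z : G), Nat.card R = 9 → orderOf z = 2 → z ∈ N[R] →
      ∀ y ∈ R, z * y * z⁻¹ = y⁻¹ := by
    intro R z h9 hz hzR
    obtain ⟨g, rfl⟩ := s.one z hz
    obtain ⟨R, rfl⟩ : ∃ R', R = cj[g] R' := ⟨_, (conj_inv_conj g R).symm⟩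
    rw [← conj_normalizer, conj_mem_conj] at hzR
    rw [card_conj] at h9
    have ho : Odd (Nat.card R) := by rw [h9]; decide
    have h1 : R ⊓ C1[t] = ⊥ := by
      by_contra hne
      have h2 := st_le_U s (inf_le_right : R ⊓ C1[t] ≤ _) (odd_card_of_le ho inf_le_left)
      have h3 := (eq_bot_or_eq_of_card_prime hp h2).resolve_left hne
      have h4 : R ≤ C1[t] := fun y hy => by
        have a : y * t * y⁻¹ * t⁻¹ ∈ R ⊓ V := ⟨by
          rw [show y * t * y⁻¹ * t⁻¹ = y * (t * y⁻¹ * t⁻¹) by group]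
          exact R.mul_mem hy (conj_mem_of_mem_norm hzR (R.inv_mem hy)),
          V.mul_mem (conj_mem_of_le_norm (c9 R h9 (h3 ▸ inf_le_left)) hy tV) (V.inv_mem tV)⟩
        rw [TT.inf_eq_bot_of_odd ho V2, mem_bot, mul_inv_eq_one, mul_inv_eq_iff_eq_mul] at a
        exact mem_cent1.2 a
      have := card_dvd_of_le h4
      rw [h9, hH] at this
      omega
    intro y hy
    obtain ⟨y, hy', rfl⟩ := mem_conj_iff_exists.1 hy
    have := conj_eq_inv_of_fpf hzR (by rw [← s.ord, pow_orderOf_eq_one]) h1 hy'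
    calc g * t * g⁻¹ * (g * y * g⁻¹) * (g * t * g⁻¹)⁻¹ = g * (t * y * t⁻¹) * g⁻¹ := by group
      _ = _ := by rw [this]; group
  obtain ⟨R, hR, hUR⟩ := exists_syl_ge Nat.prime_three (isPGroup_of_card_eq_prime hU) le_top
  have h9 : Nat.card R = 9 ∧ R.index = 280 := by
    obtain ⟨n, hn⟩ := PG.exists_card_eq_pow (syl_isPGroup Nat.prime_three hR)
    have h1 := syl_not_dvd Nat.prime_three hR
    have h2 := R.card_mul_index
    rw [relIndex_top_right] at h1
    rw [hG, hn] at h2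
    rw [hn]
    rcases n with _ | _ | _ | n
    · omega
    · omega
    · omega
    · rw [show 3 ^ (n + 1 + 1 + 1) * R.index = 27 * (3 ^ n * R.index) by ring] at h2; omega
  obtain ⟨a, ha, ha1⟩ := exists_ne_one_of_ne_bot (ne_bot_of_card_prime hp)
  have oa := Ia.odd_ord (odd_O _) ha
  have cUa := cent_eq_cent1_of_card_prime hp ha ha1
  have Rc := isMulCommutative_iff_forall.1 (PG.isMulCommutative_of_card_dvd_sq (p := 3) h9.1.dvd)
  have RC : R ≤ C1[a] := fun y hy => mem_cent1.2 (Rc y hy a (hUR ha))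
  have Q' : ∀ z ∈ N[R], z ∈ C1[a] → orderOf z ≠ 2 := fun z h1 h2 hz =>
    ha1 (eq_one_of_inv oa (Q R z h9.1 hz h1 a (hUR ha)) (mem_cent1.1 h2))
  have e1 : C1[a] ⊓ N[R] = R := by
    have h1 : Odd (Nat.card ↥(C1[a] ⊓ N[R])) := Nat.not_even_iff_odd.1 fun e => by
      obtain ⟨z, hz, hz2⟩ := exists_inv e
      exact Q' z hz.2 hz.1 hz2
    have h2 := card_dvd_of_le (show C1[a] ⊓ N[R] ≤ N[U[t]] from
      inf_le_left.trans (cUa ▸ cent_le_norm _))
    have h3 : R ≤ C1[a] ⊓ N[R] := le_inf RC le_normalizer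
    rw [hM] at h2
    exact (eq_of_le_of_card_ge h3 (h9.1 ▸ Nat.le_of_dvd (by decide)
      ((h1.coprime_two_right.pow_right 3).dvd_of_dvd_mul_left h2))).symm
  have k1 := relIndex_cent1_lt (hUR ha) ha1 (le_refl N[R])
  have k2 := card_inf_mul_relIndex C1[a] N[R]
  have k3 := index_mod Nat.prime_three hR
  have k4 := N[R].card_mul_index
  have k5 : Even (Nat.card N[R]) := Nat.not_odd_iff_even.1 fun ho => by
    obtain ⟨k, hk, n, hn', e⟩ := frattini_arg_exists Nat.prime_three (syl_of_le hR RC le_top)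
      (x := w) (cUa ▸ norm_le_norm_cent _ (norm_U t hw))
    have h1 := inv_of_three hU (norm_U t hw) hw' ha
    refine ha1 (eq_one_of_odd_inv (Ia.odd_ord ho hn') oa ?_)
    calc n * a * n⁻¹ = k⁻¹ * (w * a * w⁻¹) * k := by rw [e]; group
      _ = (k⁻¹ * (a * k))⁻¹ := by rw [h1]; group
      _ = _ := by rw [← mem_cent1.1 hk]; group
  have h36 : Nat.card N[R] = 36 := by
    rw [e1, h9.1] at k2
    rw [hG, ← k2] at k4
    rw [← k2] at k5 ⊢
    obtain ⟨c, k5⟩ := k5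
    generalize C1[a].relIndex N[R] = k at *
    rw [h9.1] at k1
    interval_cases k <;> omega
  obtain ⟨e, he, he4, he2⟩ : ∃ e ∈ N[R], e * e * (e * e) = 1 ∧ e * e ≠ 1 := by
    obtain ⟨T, hT⟩ := Sylow.exists_subgroup_card_pow_prime (G := N[R]) 2 (n := 2) (by
      rw [h36]; decide)
    by_contra hno
    push Not at hno
    have sq : ∀ x ∈ T, (x : G) * x = 1 := fun x hx => hno x x.2 (by
      have := congrArg Subtype.val (PG.pow_card_eq_one_of_mem hx)
      rw [hT] at this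
      simpa [pow_succ, mul_assoc] using this)
    have iv : ∀ x ∈ T, x ≠ 1 → ∀ y ∈ R, (x : G) * y * (x : G)⁻¹ = y⁻¹ := fun x hx h1 =>
      Q R x h9.1 (ord2 (sq x hx) fun e => h1 (Subtype.ext e)) x.2
    obtain ⟨x, hx, hx1⟩ := exists_ne_one_of_ne_bot (H := T) (ne_bot_iff_one_lt_card.2 (by rw [hT]; decide))
    have hx2 : x * x = 1 := Subtype.ext (sq x hx)
    obtain ⟨y, hy, hy1⟩ := SetLike.exists_of_lt (lt_of_le_of_ne (zpowers_le.2 hx) fun e => by
      rw [← e, Nat.card_zpowers, ord2 hx2 hx1] at hT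
      omega)
    exact Q' (x * y) (x * y).2 (cent_le_cent1 (hUR ha) (mul_mem_of_inv (iv x hx hx1)
      (iv y hy fun e => hy1 (e ▸ one_mem _)))) (ord2 (sq _ (T.mul_mem hx hy)) fun e => hy1 (by
        rw [eq_inv_of_mul_eq_one_right (Subtype.ext e : x * y = 1)]
        exact inv_mem (mem_zpowers x)))
  have so := ord2 he4 he2
  have si := Q R _ h9.1 so (mul_mem he he)
  have sa := si a (hUR ha)
  have sc : e * e ∉ C1[a] := fun h => Q' _ (mul_mem he he) h so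
  have hb := conj_mem_of_mem_norm he (hUR ha)
  have a3 : a * a * a = 1 := by
    have := PG.pow_card_eq_one_of_mem ha
    rwa [hU, pow_succ, pow_two] at this
  have eU := eq_zpowers_of_card_prime hp ha ha1
  have bU : e * a * e⁻¹ ∉ U[t] := fun h => sc (cUa ▸ sq_cent_of_three hU
    (mem_normalizer_of_conj_le (by rw [eU, conj_zpowers, zpowers_le, ← eU]; exact h)))
  have sV : e * e ∈ N[V] := hn (conj_eq_self_iff.1 (by rw [eU, conj_zpowers, sa, zpowers_inv]))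
  obtain ⟨z, ⟨hz, hzs⟩, hz1⟩ := exists_ne_one_of_ne_bot (PG.inf_cent_ne_bot (pg2 so) V2
    (zpowers_le.2 sV) (ne_bot_of_mem tV (ne1 s.ord)))
  rw [cent_zpowers] at hzs
  obtain ⟨zo, zU⟩ := VU z hz hz1
  have az : a * z = z * a := mem_cent1.1 (U_le z (zU ▸ ha))
  have z2 := sq1 zo
  have sz := mem_cent1.1 hzs
  have ez : (e * z) ^ 6 = 1 := by
    obtain ⟨g, hg⟩ := s.one _ so
    have c3 : Nat.card U[e * e] = 3 := by rw [← hg, ← conj_U, card_conj, hU]
    have p6' : ∀ x ∈ C1[e * e], x ∈ C[U[e * e]] → x ^ 6 = 1 := fun x h1 h2 => by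
      rw [← hg, ← conj_cent1, mem_conj] at h1
      rw [← hg, ← conj_U, ← conj_centralizer, mem_conj] at h2
      have := p6 _ h1 h2
      rwa [show g⁻¹ * x * g = g⁻¹ * x * g⁻¹⁻¹ by rw [inv_inv], conj_pow, conj_eq_one_iff] at this
    have ec : e ∈ C1[e * e] := mem_cent1.2 (mul_assoc _ _ _).symm
    refine p6' _ (mul_mem ec hzs) (mul_mem_of_inv
      (fun y hy => inv_of_three c3 (norm_U _ ec) (fun h => he2 ?_) hy)
      fun y hy => inv_of_three c3 (norm_U _ hzs) (fun h => sc ?_) hy)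
    · have := p6' e ec h
      rwa [show e ^ 6 = e * e * (e * e) * (e * e) by simp [pow_succ, mul_assoc], he4,
        one_mul] at this
    · have h1 := s.dg.le_O zo (mem_cent_iff.1 h) (odd_O _)
      rw [zU] at h1
      exact mem_cent1_comm.1 (U_le _ (eq_of_le_of_card_ge h1 (hU.trans c3.symm).le ▸ ha))
  have b3 : e * a * e⁻¹ * (e * a * e⁻¹) * (e * a * e⁻¹) = 1 := by
    rw [show e * a * e⁻¹ * (e * a * e⁻¹) * (e * a * e⁻¹) = e * (a * a * a) * e⁻¹ by group, a3]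
    group
  have ab := Rc _ hb a (hUR ha)
  have sb := si _ hb
  have zb : z * (e * a * e⁻¹) * z * (e * a * e⁻¹) * z * (e * a * e⁻¹) = 1 := by
    have bV := c9 R h9.1 hUR hb
    have ob : Odd (orderOf (e * a * e⁻¹)) := by rwa [orderOf_conj]
    generalize e * a * e⁻¹ = b at b3 bV bU ob
    have h1 := conj_mem_of_mem_norm bV hz
    have h2 := conj_mem_of_mem_norm bV h1
    have c := isMulCommutative_iff_forall.1 Vc
    have h3 : b * (b * (b * z * b⁻¹) * b⁻¹) * b⁻¹ = z := by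
      rw [show b * (b * (b * z * b⁻¹) * b⁻¹) * b⁻¹ = b * b * b * z * (b * b * b)⁻¹ by group, b3]
      group
    have h4 : z * b * z * b * z * b = z * (b * z * b⁻¹) * (b * (b * z * b⁻¹) * b⁻¹) := by
      rw [← mul_one (z * (b * z * b⁻¹) * (b * (b * z * b⁻¹) * b⁻¹)), ← b3]; group
    rw [h4]
    by_contra hne
    obtain ⟨yo, yU⟩ := VU _ (V.mul_mem (V.mul_mem hz h1) h2) hne
    refine bU (yU ▸ s.dg.mem_O yo (mem_cent1.2 (mul_inv_eq_iff_eq_mul.1 ?_)) ob)
    calc b * (z * (b * z * b⁻¹) * (b * (b * z * b⁻¹) * b⁻¹)) * b⁻¹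
        = (b * z * b⁻¹) * (b * (b * z * b⁻¹) * b⁻¹) * (b * (b * (b * z * b⁻¹) * b⁻¹) * b⁻¹) := by
          group
      _ = _ := by rw [h3, c _ (V.mul_mem h1 h2) z hz, mul_assoc z]
  have si' := TT.inv_of_sq he4
  refine a7_of_rel (a := a) (b := e * a * e⁻¹) (z := z) (s := e * e) (u := e * z * e⁻¹) hG ha1 z2
    he4 (TT.conj_mul_self e z2) a3 b3 ?_ ?_ ?_ ?_ zb ?_ ?_ ?_ ?_ ?_
  · rw [mul_assoc, mul_assoc, ab]; group
  · rw [si'] at sa; rw [mul_assoc, mul_assoc, ← mul_assoc (e * e), sa, mul_inv_cancel]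
  · rw [si'] at sb; rw [mul_assoc, mul_assoc, ← mul_assoc (e * e), sb, mul_inv_cancel]
  · rw [mul_assoc, ← az, mul_assoc, inv_mul_cancel_left, z2]
  · rw [sz, mul_assoc (e * e), z2, mul_one, he4]
  · calc _ = e * (z * (e * e) * z) * e⁻¹ * (e * e) := by group
      _ = e * e * (e * e) := by rw [sz, mul_assoc (e * e), z2]; group
      _ = 1 := he4
  · calc _ = e * (z * a⁻¹ * (z * a)) * e⁻¹ := by group
      _ = e * (z * z) * e⁻¹ := by rw [← az]; group
      _ = 1 := by rw [z2]; group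
  · rw [← sa]
    calc _ = e * (z * (e * a * e⁻¹) * z * (e * a * e⁻¹) * z * (e * a * e⁻¹)) * e⁻¹ := by group
      _ = 1 := by rw [zb]; group
  · have : z * (e * e) * (e * z * e⁻¹) = e * (e * z * (e * z)) * e⁻¹ := by rw [sz]; group
    calc _ = (z * (e * e) * (e * z * e⁻¹)) ^ 3 := by simp only [pow_succ, pow_zero, one_mul, mul_assoc]
      _ = 1 := by rw [this, conj_pow, ← pow_two, ← pow_mul, ez]; group

end Cfsg.Agent.GW.II
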