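import Cfsg.Agent.GW.II2

/-! Gorenstein-Walter, part II: the centralizer of an involution is not maximal. -/

set_option autoImplicit false
set_option linter.unusedSectionVars false
set_option linter.unusedVariables false

namespace Cfsg.Agent.GW

open Cfsg Subgroup Cfsg.Agent.GT Cfsg.Agent.Cls Cfsg.Agent.GW.Ia

universe u

variable {G : Type u} [Group G] [Finite G] {S A B H K M P R T V W : Subgroup G}
  {t u v w x y z b g σ : G} {p : ℕ}

namespace II

/-- The statement of `Min.se`. -/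
def SE {G : Type u} [Group G] (t : G) : Prop :=
  ∀ M : Subgroup G, M ≠ ⊤ → C1[t] ≤ M → (∀ u ∈ M, orderOf u = 2 → ∃ g ∈ M, g * t * g⁻¹ = u) →
    Nat.card G = 60 ∧ Nat.card M = 12

theorem eqU (s : St S A t) (hz : orderOf z = 2) (h : U[t] ≤ C1[z]) : U[z] = U[t] := by
  have h1 := s.dg.le_O hz h (odd_O _)
  obtain ⟨g, rfl⟩ := s.one z hz
  exact (eq_of_le_of_card_ge h1 (by rw [← conj_U, card_conj])).symm

theorem rel2 (s : St S A t) (h8 : Nat.card S = 8) (hv : v ∈ S) (hvA : v ∉ A) (hn : ¬ S ≤ C1[v]) :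
    C1[v].relIndex C1[t] = 2 * C1[v].relIndex U[t] := by
  have sd := st_sd s
  have e1 := sd.card_mul
  have e2 := card_inf_mul_relIndex C1[v] C1[t]
  have e3 := cent_sup_of_inf_eq_bot (A := zpowers v) (zpowers_le.2 (norm_U t (s.cen hv)))
    (zpowers_le.2 (le_normalizer hv)) sd.inf_eq (.inr sd.right_norm)
  rw [sd.sup_eq, cent_zpowers, inf_comm] at e3
  have e4 : Nat.card ↥(U[t] ⊓ C1[v] ⊔ S ⊓ C1[v]) = _ := card_sup_of_inf_eq_bot
    (.inr (le_norm_inf (inf_le_left.trans sd.right_norm) (le_norm_self inf_le_right)))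
    (eq_bot_iff.2 (sd.inf_eq ▸ inf_le_inf inf_le_left inf_le_left))
  have e5 := card_inf_mul_relIndex C1[v] U[t]
  rw [inf_comm] at e5
  rw [e3, e4, ← e1, ← e5, card_four s h8 hv hvA hn, h8] at e2
  refine Nat.eq_of_mul_eq_mul_left (card_pos' (U[t] ⊓ C1[v])) ?_
  linarith

/-- The configuration with a normal four-group `W` in a maximal overgroup `M` of `C(t)`. -/
structure Cf (S A M W : Subgroup G) (t v : G) : Prop extends St S A t where
  co : IsCoatom M
  lt : C1[t] < M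
  le : W ≤ S
  tW : t ∈ W
  vW : v ∈ W
  v2 : orderOf v = 2
  vt : v ≠ t
  memW : ∀ x ∈ W, x = 1 ∨ x = t ∨ x = v ∨ x = t * v
  nW : N[W] = M

theorem exists_cf [IsSimpleGroup G] (s : St S A t) (nc : ¬ IsMulCommutative G)
    (h26 : T26 (⊤ : Subgroup G)) (hm : ¬ IsCoatom C1[t]) : ∃ M W v, Cf S A M W t v := by
  obtain ⟨M, hM, hHM⟩ := exists_coatom_ge (Cl.centralizer_ne_top_of_simple nc (ne1 s.ord))
  have hlt : C1[t] < M := lt_of_le_of_ne hHM fun e => hm (e ▸ hM)
  have tW := h26 t (mem_top t) s.ord M le_top hM.1 (inf_le_right.trans hHM)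
  obtain ⟨m, hm1, hm2⟩ := SetLike.exists_of_lt hlt
  have WS : piCoreOf {2} M ≤ S := piCoreOf_le_hall (syl_of_le s.syl (s.cen.trans hHM) le_top)
  have nW := self_le_norm_piCoreOf {2} M
  have vW := conj_mem_of_le_norm nW hm1 tW
  have vt : m * t * m⁻¹ ≠ t := fun e => hm2 (mem_cent1.2 (mul_inv_eq_iff_eq_mul.1 e))
  refine ⟨M, _, _, s, hM, hlt, WS, tW, vW, ord2_conj s.ord m, vt, fun x hx =>
    s.dg.cent_V s.ord (ord2_conj s.ord m) vt (s.comm (WS vW)) (s.pg.to_le (zpowers_le.2 (WS hx)))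
      (s.cen (WS hx)) ?_, norm_eq_of_coatom hM (ne_bot_of_mem tW (ne1 s.ord)) (piCoreOf_le _ _) nW⟩
  rw [← conj_cent1, mem_conj]
  exact s.cen (WS (conj_mem_of_le_norm' nW hm1 hx))

namespace Cf

variable (h : Cf S A M W t v)
include h

theorem vS : v ∈ S := h.le h.vW

theorem vA : v ∉ A := h.toSt.not_mem h.v2 h.vt

theorem vc : v * t = t * v := h.toSt.comm h.vS

theorem leV : W ≤ zpowers t ⊔ zpowers v := fun x hx => (mem_V h.ord h.v2 h.vc).2 (h.memW x hx)

theorem pgW : IsPGroup 2 W := h.toSt.pg.to_le h.le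

theorem UW : U[t] ≤ C[W] := le_cent_of_norm_of_coprime ((U_le t).trans (h.lt.le.trans h.nW.ge))
  (h.le.trans (h.cen.trans (norm_U t))) (cop2' (odd_O _) h.pgW)

theorem VU (hz : z ∈ W) (h1 : z ≠ 1) : orderOf z = 2 ∧ U[z] = U[t] := by
  have : orderOf z = 2 := by
    rcases h.memW z hz with e | rfl | rfl | rfl
    exacts [absurd e h1, h.ord, h.v2, ord2_mul h.ord h.v2 h.vt h.vc]
  exact ⟨this, eqU h.toSt this (h.UW.trans (cent_le_cent1 hz))⟩

theorem nU [IsSimpleGroup G] (hU : U[t] ≠ ⊥) : N[U[t]] = M :=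
  norm_eq_of_coatom h.co hU ((U_le t).trans h.lt.le) fun m hm => conj_eq_self_iff.1 (by
    rw [conj_U]
    exact (h.VU (conj_mem_of_mem_norm (h.nW ▸ hm) h.tW) (ne1 (ord2_conj h.ord m))).2)

theorem rel : 2 ≤ C1[t].relIndex M ∧ C1[t].relIndex M ≤ 3 := by
  have h1 := relIndex_cent1_lt h.tW (ne1 h.ord) h.nW.ge
  have h2 := (card_dvd_of_le h.leV).trans (card_sup_dvd (.inl (le_norm_of_cent (by
    rw [cent_zpowers, zpowers_le, mem_cent1, h.vc]))))
  rw [Nat.card_zpowers, Nat.card_zpowers, h.ord, h.v2] at h2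
  have h3 := Nat.le_of_dvd (by decide) h2
  have h4 := relIndex_pos C1[t] M
  have h5 : C1[t].relIndex M ≠ 1 := fun e => h.lt.not_ge (relIndex_eq_one.1 e)
  omega

theorem case4 [IsSimpleGroup G] (se : SE t) (h4 : Nat.card S = 4) : U[t] = ⊥ := by
  obtain ⟨g, e1, e2⟩ := h.toSt.cyc3 h.v2 h.vt h.vc
  have hg : g ∈ M := h.nW ▸ mem_normalizer_of_conj_le (conj_le_iff_forall.2 fun x hx => by
    rcases h.memW x hx with rfl | rfl | rfl | rfl
    · simp
    · exact e1 ▸ h.vW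
    · exact e2 ▸ W.mul_mem h.tW h.vW
    · rw [show g * (t * v) * g⁻¹ = g * t * g⁻¹ * (g * v * g⁻¹) by group, e1, e2]
      exact W.mul_mem h.vW (W.mul_mem h.tW h.vW))
  obtain ⟨-, h12⟩ := se M h.co.1 h.lt.le fun u hu u2 => by
    obtain ⟨k, hk, e⟩ := syl_exists_conj_le Nat.prime_two
      (syl_of_le h.syl (h.cen.trans h.lt.le) le_top) (pg2 u2) (zpowers_le.2 hu)
    have h1 := e (conj_mem_conj.2 (mem_zpowers u))
    rw [h.toSt.eq_V h4 h.vS h.vA, mem_V h.ord h.v2 h.vc] at h1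
    have e3 : u = k⁻¹ * (k * u * k⁻¹) * k := by group
    rcases h1 with e | e | e | e
    · exact absurd e (ne1 (ord2_conj u2 k))
    · exact ⟨k⁻¹, inv_mem hk, by rw [e3, e, inv_inv]⟩
    · exact ⟨k⁻¹ * g, mul_mem (inv_mem hk) hg, by rw [e3, e, ← e1]; group⟩
    · exact ⟨k⁻¹ * g * g, mul_mem (mul_mem (inv_mem hk) hg) hg, by rw [e3, e, ← e2, ← e1]; group⟩
  by_contra hU
  have h1 := card_lt_of_lt h.lt
  have h2 := ne_bot_iff_one_lt_card.1 hU
  obtain ⟨k, hk⟩ := odd_O C1[t]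
  rw [← (st_sd h.toSt).card_mul, h4, h12] at h1
  omega

theorem ord4 (h8 : 8 ≤ Nat.card S) (hσ : zpowers σ = A) : Nat.card S = 8 ∧ orderOf σ = 4 := by
  have hσA : σ ∈ A := hσ ▸ mem_zpowers σ
  have h1 : σ * v * σ⁻¹ * v⁻¹ ∈ W := W.mul_mem (conj_mem_of_mem_norm
    (h.nW ▸ h.lt.le (h.cen (h.dih.le hσA))) h.vW) (W.inv_mem h.vW)
  rw [show σ * v * σ⁻¹ * v⁻¹ = σ * (v * σ * v⁻¹)⁻¹ by group, h.dih.inv h.vS h.vA hσA, inv_inv] at h1
  have h2 : σ ^ 4 = 1 := by
    rw [show σ ^ 4 = σ * σ * (σ * σ) by simp [pow_succ, mul_assoc]]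
    by_cases e : σ * σ = 1
    · rw [e, one_mul]
    · exact sq1 (h.VU h1 e).1
  have h3 := Nat.le_of_dvd (by decide) (orderOf_dvd_of_pow_eq_one h2)
  have h4 := h.dih.card
  rw [← hσ, Nat.card_zpowers] at h4
  omega

theorem eight [IsSimpleGroup G] (nc : ¬ IsMulCommutative G) (al : AL G)
    (h26 : T26 (⊤ : Subgroup G)) (h8 : 8 ≤ Nat.card S) (hU : U[t] ≠ ⊥) :
    AT (⊤ : Subgroup G) ∧ Nonempty (G ≃* alternatingGroup (Fin 7)) := by
  have s := h.toSt
  obtain ⟨σ, hσ⟩ := PG.isCyclic_iff_exists.1 s.dih.cyc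
  obtain ⟨h8, o4⟩ := h.ord4 h8 hσ
  have hσA : σ ∈ A := hσ ▸ mem_zpowers σ
  have hw : v * σ ∈ S := S.mul_mem h.vS (s.dih.le hσA)
  have hwA : v * σ ∉ A := fun e => h.vA ((A.mul_mem_cancel_right hσA).1 e)
  obtain ⟨w2, wne, wc⟩ := st_refl s hw hwA
  have hσ1 : σ * σ ≠ 1 := fun e => by
    have := orderOf_dvd_of_pow_eq_one (show σ ^ 2 = 1 by rwa [pow_two])
    rw [o4] at this; omega
  have nc' : σ * v ≠ v * σ := fun e => hσ1 (by
    have := s.dih.inv h.vS h.vA hσA
    rwa [← e, mul_inv_cancel_right, eq_inv_iff_mul_eq_one] at this)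
  have r1 := rel2 s h8 h.vS h.vA fun e => nc' (mem_cent1.1 (e (s.dih.le hσA)))
  have r2 := rel2 s h8 hw hwA fun e => nc' (by
    have := mem_cent1.1 (e (s.dih.le hσA))
    rwa [← mul_assoc, mul_left_inj] at this)
  have Uv : U[t] ≤ C1[v] := h.UW.trans (cent_le_cent1 h.vW)
  rw [relIndex_eq_one.2 Uv] at r1
  obtain ⟨g, e1, e2⟩ := s.cyc3 w2 wne wc
  have Uw : ¬ U[t] ≤ C1[v * σ] := fun e => by
    have hg : g ∈ N[W] := by
      rw [h.nW, ← h.nU hU, ← conj_eq_self_iff, conj_U, e1, eqU s w2 e]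
    have h1 := conj_mem_of_mem_norm hg h.tW
    rw [e1, W.mul_mem_cancel_left h.vW] at h1
    exact hσ1 (sq1 (h.VU h1 fun e => hσ1 (by simp [e])).1)
  have a1 : C1[v * σ].relIndex U[t] ≠ 1 := fun e => Uw (relIndex_eq_one.1 e)
  have a0 := relIndex_pos C1[v * σ] U[t]
  have key := al S A t v σ (C1[v * σ].relIndex U[t]) s h8 h.vS h.vA hσ (by omega)
    (by rw [r1, r2, mul_comm])
  rw [r1] at key
  have hB : C1[v * σ] ⊓ U[t] = ⊥ := by
    by_contra hne
    rw [inf_comm] at hne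
    have n1 : U[t] ≤ N[U[t] ⊓ C1[v * σ]] := fun u hu => by
      obtain ⟨x, -, c, hc, hx, i1, i2, rfl⟩ :=
        exists_inv_mul (odd_O _) (sq1 w2) (norm_U t (s.cen hw)) hu
      exact mul_mem (cent_le_norm _ fun b hb => six (odd_O _) (by omega) hx i1 hb)
        (le_normalizer ⟨hc, mem_cent1.2 i2.symm⟩)
    have c1 : A ≤ C[U[t] ⊓ C1[v * σ]] := by
      rw [← hσ, zpowers_le]
      intro y hy
      have := mem_cent1.1 hy.2
      rwa [← mul_assoc, mem_cent1.1 (Uv hy.1), mul_assoc, mul_assoc, mul_right_inj] at this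
    have c2 : v ∈ C[U[t] ⊓ C1[v * σ]] := mem_cent_iff.2 (inf_le_left.trans Uv)
    have n2 : C1[t] ≤ N[U[t] ⊓ C1[v * σ]] := by
      refine (st_sd s).sup_eq.ge.trans (sup_le n1 (le_norm_of_cent fun x hx => ?_))
      by_cases hxA : x ∈ A
      · exact c1 hxA
      · exact (mul_mem_cancel_right c2).1 (c1 (st_mul_mem s h.vS h.vA hx hxA))
    have n3 : g ∈ N[U[t] ⊓ C1[v * σ]] := mem_normalizer_of_conj_le (by
      rw [conj_inf, conj_U, conj_cent1, e1, e2]
      intro x hx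
      have a := U_le _ hx.1
      refine ⟨st_mem_U s (mem_cent1.2 ?_) (Ia.odd_ord (odd_O _) hx.1), a⟩
      have b := mem_cent1.1 hx.2
      rwa [← mul_assoc, mul_assoc t, ← mem_cent1.1 a, ← mul_assoc t, mul_left_inj] at b)
    have tW := h26 t (mem_top t) s.ord _ le_top
      (norm_ne_top hne (solv_of_le (solv_O _) inf_le_left) nc) (inf_le_right.trans n2)
    have nW := self_le_norm_piCoreOf {2} N[U[t] ⊓ C1[v * σ]]
    have wW := conj_mem_of_le_norm nW n3 tW
    have WS : piCoreOf {2} N[U[t] ⊓ C1[v * σ]] ≤ S :=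
      piCoreOf_le_hall (syl_of_le s.syl (s.cen.trans n2) le_top)
    exact Uw ((le_cent_of_norm_of_coprime ((U_le t).trans (n2.trans nW))
      (WS.trans (s.cen.trans (norm_U t))) (cop2' (odd_O _) (s.pg.to_le WS))).trans
      (cent_le_cent1 (e1 ▸ wW)))
  have cU := card_inf_mul_relIndex C1[v * σ] U[t]
  rw [hB, card_bot, one_mul] at cU
  have cH := (st_sd s).card_mul
  have cG := C1[t].card_mul_index
  have cM := card_mul_relIndex h.lt.le
  have iM := relIndex_mul_index h.lt.le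
  obtain ⟨m1, m2⟩ := h.rel
  rw [h8] at cH
  rcases key with ⟨k1, k2⟩ | ⟨k1, k2⟩
  · have c3 : Nat.card U[t] = 3 := by omega
    have c24 : Nat.card C1[t] = 24 := by omega
    have i105 : C1[t].index = 105 := by omega
    have wU : v * σ ∉ C[U[t]] := fun e => Uw (mem_cent_iff.1 e)
    refine ⟨fun z _ hz => ?_, a7_loc s (by rw [← cG, c24, i105]) c24 c3 h.pgW
      (isMulCommutative_of_le (V_comm h.vc) h.leV) h.tW (fun z => h.VU) (h.nU hU ▸ h.nW.ge) ?_
      (fun x hx hc => ?_) (s.cen hw) wU⟩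
    · obtain ⟨k, rfl⟩ := s.one z hz
      have cm : ∀ x, x * t = t * x → k * x * k⁻¹ * (k * t * k⁻¹) = k * t * k⁻¹ * (k * x * k⁻¹) :=
        fun x e => by simp only [conj_mul, e]
      rw [top_inf_eq, ← conj_U, ← conj_cent1, card_conj, card_conj, ← conj_centralizer]
      exact ⟨c24, c3, ⟨_, mem_top _, ord2_conj h.v2 k, by simpa using h.vt, cm v h.vc,
        conj_mem_conj.2 (mem_cent_iff.2 Uv)⟩, _, mem_top _, ord2_conj w2 k, cm _ wc,
        fun e => wU (conj_mem_conj.1 e)⟩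
    · rw [h.nU hU, ← cM, c24]
      rw [i105] at iM
      generalize C1[t].relIndex M = r at *
      interval_cases r <;> omega
    · obtain ⟨a, ha, y, hy, rfl⟩ := (st_sd s).exists_mul hx
      have uc := isMulCommutative_iff_le_cent.1 (isMulCommutative_of_isCyclic
        (isCyclic_of_card_prime (H := U[t]) (c3 ▸ Nat.prime_three)))
      have yc : y ∈ C[U[t]] := (mul_mem_cancel_left (uc ha)).1 hc
      have y2 : y ^ 2 = 1 := by
        by_cases hyA : y ∈ A
        swap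
        · exact s.dih.sq y hy hyA
        by_contra hne
        have d1 := A.orderOf_dvd_natCard hyA
        have d2 : ¬ orderOf y ∣ 2 := fun e => hne (orderOf_dvd_iff_pow_eq_one.1 e)
        have d3 : Nat.card A = 4 := by rw [← hσ, Nat.card_zpowers, o4]
        have d4 : zpowers y = A := eq_of_le_of_card_ge (zpowers_le.2 hyA) (by
          rw [d3] at d1 ⊢
          rw [Nat.card_zpowers]
          have := Nat.le_of_dvd (by decide) d1
          generalize orderOf y = n at *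
          interval_cases n <;> omega)
        exact wU (mul_mem (mem_cent_iff.2 Uv) (zpowers_le.2 yc (d4 ▸ hσA)))
      have a3 := PG.pow_card_eq_one_of_mem ha
      rw [c3] at a3
      rw [(show Commute a y from yc a ha).mul_pow, show 6 = 3 * 2 from rfl, pow_mul, a3, mul_comm,
        pow_mul, y2, one_pow, one_pow, one_mul]
  · exfalso
    have c5 : Nat.card U[t] = 5 := by omega
    have i189 : C1[t].index = 189 := by omega
    have i1 := relIndex_mul_index (U_le t)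
    rw [(st_sd s).relIndex, h8, i189] at i1
    have := index_mod Nat.prime_five (syl_mk Nat.prime_five le_top (isPGroup_of_card_eq_prime c5)
      (by rw [relIndex_top_right, ← i1]; decide))
    rw [h.nU hU] at this
    rw [i189] at iM
    generalize C1[t].relIndex M = r at *
    interval_cases r <;> omega

end Cf

end II

theorem Min.caseII' [IsSimpleGroup G] (h : Min S A t) (al : Ia.AL G) (se : II.SE t)
    (h26 : T26 (⊤ : Subgroup G)) (hm : ¬ IsCoatom C1[t]) :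
    O[C1[t]] = ⊥ ∨ (AT (⊤ : Subgroup G) ∧ Nonempty (G ≃* alternatingGroup (Fin 7))) := by
  obtain ⟨M, W, v, c⟩ := II.exists_cf h.toSt h.nc h26 hm
  rcases h.toSt.card_cases with e | e
  · exact .inl (c.case4 se e)
  · exact or_iff_not_imp_left.2 (c.eight h.nc al h26 e)

end Cfsg.Agent.GW
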