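import Cfsg.Agent.GW.Def

/-! Gorenstein-Walter, part Ia: basic facts on involution centralizers, and the gcd lemma. -/

set_option autoImplicit false
set_option linter.unusedSectionVars false
set_option linter.unusedVariables false

namespace Cfsg.Agent.GW

open Cfsg Subgroup Cfsg.Agent.GT Cfsg.Agent.Cls

universe u

variable {G : Type u} [Group G] [Finite G] {S A H K P Q R X Y : Subgroup G} {t u v w x y g : G}
  {p q : ℕ}

namespace Ia

/-- `U[z] = O(C(z))`. -/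
scoped notation3 "U[" z "]" => O[C1[z]]
/-- `F[z] = F(O(C(z)))`. -/
scoped notation3 "F[" z "]" => Cfsg.fittingOf O[C1[z]]

theorem two_mem : (2 : ℕ) ∈ ({2} : Set ℕ) := rfl

theorem odd_O (H : Subgroup G) : Odd (Nat.card O[H]) :=
  Nat.odd_iff.2 (Nat.two_dvd_ne_zero.1
    ((isPiSubgroup_single_compl_iff Nat.prime_two).1 (piCoreOf_isPi _ H)))

theorem solv_O (H : Subgroup G) : Group.IsSolvable O[H] := PF.odd_order_solvable (odd_O H)

theorem isPi_of_odd (h : Odd (Nat.card K)) : IsPiSubgroup ({2} : Set ℕ)ᶜ K :=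
  (isPiSubgroup_single_compl_iff Nat.prime_two).2 h.not_two_dvd_nat

theorem odd_ord (h : Odd (Nat.card K)) (hx : x ∈ K) : Odd (orderOf x) :=
  h.of_dvd_nat (K.orderOf_dvd_natCard hx)

theorem eq_one_of_sq (ho : Odd (orderOf x)) (h : x * x = 1) : x = 1 := by
  have h1 : orderOf x ∣ 2 := orderOf_dvd_of_pow_eq_one (by rwa [pow_two])
  rcases (Nat.dvd_prime Nat.prime_two).1 h1 with e | e
  · exact orderOf_eq_one_iff.1 e
  · rw [e] at ho; exact absurd ho (by decide)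

theorem eq_one_of_inv (ho : Odd (orderOf x)) (h : v * x * v⁻¹ = x⁻¹) (c : v * x = x * v) : x = 1 := by
  rw [c, mul_inv_cancel_right, eq_inv_iff_mul_eq_one] at h
  exact eq_one_of_sq ho h

theorem cop2 (h : Odd (Nat.card K)) (hv : orderOf v = 2) :
    (Nat.card K).Coprime (Nat.card (zpowers v)) := by
  rw [Nat.card_zpowers, hv]; exact h.coprime_two_right

/-- An element of an odd group normalised by an involution is a product of an inverted and a
fixed element. -/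
theorem exists_inv_mul (h : Odd (Nat.card K)) (hv : v * v = 1) (hn : v ∈ N[K]) (hy : y ∈ K) :
    ∃ s ∈ zpowers (y * v * y⁻¹ * v⁻¹), ∃ c ∈ K, s ∈ K ∧ v * s * v⁻¹ = s⁻¹ ∧ v * c = c * v ∧
      y = s * c := by
  have hz : y * v * y⁻¹ * v⁻¹ ∈ K := by
    rw [show y * v * y⁻¹ * v⁻¹ = y * (v * y⁻¹ * v⁻¹) by group]
    exact K.mul_mem hy (conj_mem_of_mem_norm hn (K.inv_mem hy))
  obtain ⟨k, hk⟩ := odd_ord h hz
  have vi : v⁻¹ = v := TT.inv_of_sq hv
  generalize hzd : y * v * y⁻¹ * v⁻¹ = z at hz hk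
  have e1 : v * z * v⁻¹ = z⁻¹ := by
    rw [← hzd, vi]
    calc v * (y * v * y⁻¹ * v) * v = v * y * v * y⁻¹ * (v * v) := by group
      _ = _ := by rw [hv]; simp only [mul_inv_rev, inv_inv, vi]; group
  have e2 : z ^ (k + 1) * z ^ (k + 1) = z := by
    rw [← pow_add, show k + 1 + (k + 1) = 2 * k + 1 + 1 by ring, pow_succ, ← hk,
      pow_orderOf_eq_one, one_mul]
  have e3 : v * z ^ (k + 1) * v⁻¹ = (z ^ (k + 1))⁻¹ := by rw [← conj_pow, e1, inv_pow]
  refine ⟨z ^ (k + 1), pow_mem (mem_zpowers z) _, (z ^ (k + 1))⁻¹ * y,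
    K.mul_mem (K.inv_mem (K.pow_mem hz _)) hy, K.pow_mem hz _, e3, ?_, by group⟩
  generalize z ^ (k + 1) = s at e2 e3
  have e4 : v * y * v⁻¹ = (s * s)⁻¹ * y := by rw [e2, ← hzd]; group
  have e5 : v * s⁻¹ * v⁻¹ = s := by
    rw [show v * s⁻¹ * v⁻¹ = (v * s * v⁻¹)⁻¹ by group, e3, inv_inv]
  calc v * (s⁻¹ * y) = (v * s⁻¹ * v⁻¹) * (v * y * v⁻¹) * v := by group
    _ = _ := by rw [e4, e5]; group

theorem st_conj (h : St S A t) (g : G) : St (cj[g] S) (cj[g] A) (g * t * g⁻¹) := by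
  refine ⟨h.dih.conj g, by simpa using h.syl.conj g, by rw [card_conj]; exact h.four,
    by rw [orderOf_conj]; exact h.ord, conj_mem_conj.2 h.mem,
    by rw [← conj_cent1]; exact conj_mono g h.cen, fun u hu => ?_⟩
  obtain ⟨k, rfl⟩ := h.one u hu
  exact ⟨k * g⁻¹, by group⟩

theorem conj_U (g t : G) : cj[g] U[t] = U[g * t * g⁻¹] := by rw [conj_piCoreOf, conj_cent1]

theorem conj_F (g t : G) : cj[g] F[t] = F[g * t * g⁻¹] := by rw [conj_fittingOf, conj_U]

theorem U_le (t : G) : U[t] ≤ C1[t] := piCoreOf_le _ _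

theorem F_le (t : G) : F[t] ≤ U[t] := fittingOf_le _

theorem norm_U (t : G) : C1[t] ≤ N[U[t]] := self_le_norm_piCoreOf _ _

theorem norm_F (t : G) : C1[t] ≤ N[F[t]] := le_norm_fittingOf (norm_U t)

theorem odd_F (t : G) : Odd (Nat.card F[t]) := odd_card_of_le (odd_O _) (F_le t)

theorem st_hall (h : St S A t) : IsPiHallOf {2}ᶜ U[t] C1[t] := h.dih.hall_cent h.syl h.ord

theorem st_sd (h : St S A t) : Sdprod U[t] S C1[t] :=
  sdprod_piCoreOf_of_hall (st_hall h) (syl_of_le h.syl h.cen le_top)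

theorem st_two (h : St S A t) : IsPGroup 2 S := syl_isPGroup Nat.prime_two h.syl

theorem st_solv (h : St S A t) : Group.IsSolvable C1[t] := by
  obtain ⟨Q, _, _, f, -, hk⟩ := exists_quo' C1[t] U[t] (U_le t) (norm_U t)
  refine solvable_of_im (f := f) le_rfl (by rw [hk, inf_eq_right.2 (U_le t)]; exact solv_O _) ?_
  have := im_kr_sup (f := f) (H := S) h.cen
  rw [hk, (st_sd h).sup_eq] at this
  rw [this]
  exact solvable_im (solvable_of_isPGroup Nat.prime_two (st_two h))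

theorem st_le_U (h : St S A t) (hK : K ≤ C1[t]) (ho : Odd (Nat.card K)) : K ≤ U[t] :=
  (st_hall h).le_of_normal (norm_U t) hK (isPi_of_odd ho)

theorem st_mem_U (h : St S A t) (hx : x ∈ C1[t]) (ho : Odd (orderOf x)) : x ∈ U[t] :=
  zpowers_le.1 (st_le_U h (zpowers_le.2 hx) (by rwa [Nat.card_zpowers]))

theorem st_uniq (h : St S A t) (hx : x ∈ A) (ho : orderOf x = 2) : x = t :=
  eq_of_sq_of_isCyclic h.dih.cyc hx h.mem (TT.mul_self_of_orderOf ho)
    (TT.mul_self_of_orderOf h.ord) (TT.ne_one_of_orderOf ho) (TT.ne_one_of_orderOf h.ord)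

theorem st_refl (h : St S A t) (hv : v ∈ S) (hvA : v ∉ A) :
    orderOf v = 2 ∧ v ≠ t ∧ v * t = t * v :=
  ⟨TT.orderOf_eq_two (by rw [← pow_two]; exact h.dih.sq v hv hvA) fun e => hvA (e ▸ A.one_mem),
    fun e => hvA (e ▸ h.mem), mem_cent1.1 (h.cen hv)⟩

theorem st_exists (h : St S A t) : ∃ v ∈ S, v ∉ A :=
  SetLike.exists_of_lt (lt_of_le_of_ne h.dih.le fun e => by
    have := h.dih.card
    have := card_pos' A
    rw [e] at *; omega)

theorem two_zpowers (hv : orderOf v = 2) : IsPGroup 2 (zpowers v) :=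
  isPGroup_of_card_eq_prime (by rw [Nat.card_zpowers, hv])

/-- Every involution of `C(t)` is conjugate in `C(t)` into `S`. -/
theorem st_conj_mem (h : St S A t) (hu : orderOf u = 2) (hc : u ∈ C1[t]) :
    ∃ k ∈ C1[t], k * u * k⁻¹ ∈ S := by
  obtain ⟨k, hk, e⟩ := syl_exists_conj_le Nat.prime_two (syl_of_le h.syl h.cen le_top)
    (two_zpowers hu) (zpowers_le.2 hc)
  exact ⟨k, hk, e (conj_mem_conj.2 (mem_zpowers u))⟩

theorem st_gcd (h : St S A t) (hp : p.Prime) (hY : Y ≤ U[t]) (hY1 : Y ≠ ⊥)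
    (hYp : IsPGroup p Y) (hN : N[Y] = C1[t])
    (inv : ∀ s ∈ S, s ∉ A → ∀ y ∈ Y, s * y * s⁻¹ = y⁻¹) : ¬ p ∣ C1[t].index := by
  obtain ⟨R, hR, hYR⟩ := exists_syl_ge hp hYp hY
  have hp2 : p ≠ 2 := PG.ne_two_of_odd_of_dvd (odd_card_of_le (odd_O _) hY)
    (prime_dvd_card_of_isPGroup hp hYp hY1)
  have hR' : IsPiHallOf {p} R C1[t] := hR.trans_single (st_hall h) hp2
  have hn : N[R] ≤ C1[t] := fun g hg => by
    have h1 : g * t * g⁻¹ ∈ C[R] :=
      conj_mem_of_mem_norm (norm_le_norm_cent R hg) (mem_cent_iff_le_cent1.2 hR'.le)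
    have h2 : g * t * g⁻¹ ∈ C[Y] := cent_anti hYR h1
    have ho : orderOf (g * t * g⁻¹) = 2 := by rw [orderOf_conj, h.ord]
    obtain ⟨k, hk, e⟩ := st_conj_mem h ho (hN ▸ cent_le_norm Y h2)
    have h3 : k * (g * t * g⁻¹) * k⁻¹ ∈ C[Y] :=
      conj_mem_of_mem_norm (norm_le_norm_cent Y (hN ▸ hk)) h2
    by_cases hA : k * (g * t * g⁻¹) * k⁻¹ ∈ A
    · have h4 := st_uniq h hA (by rw [orderOf_conj, ho])
      have h5 : g * t * g⁻¹ = t := by
        calc g * t * g⁻¹ = k⁻¹ * (k * (g * t * g⁻¹) * k⁻¹) * k := by group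
          _ = k⁻¹ * (t * k) := by rw [h4, mul_assoc]
          _ = t := by rw [← mem_cent1.1 hk]; group
      exact mem_cent1.2 (mul_inv_eq_iff_eq_mul.1 h5)
    · obtain ⟨y, hy, hy1⟩ := exists_ne_one_of_ne_bot hY1
      exact absurd (eq_one_of_inv (odd_ord (odd_O _) (hY hy)) (inv _ e hA y hy) (h3 y hy).symm) hy1
  have h1 := syl_not_dvd hp (syl_top_of_norm_le hp hR' hn)
  rw [relIndex_top_right] at h1
  exact fun e => h1 (e.trans (index_dvd_of_le hR'.le))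

end Ia

theorem Min.gcd [IsSimpleGroup G] (h : Min S A t) (hp : p.Prime) (hY : Y ≤ O[C1[t]]) (hY1 : Y ≠ ⊥)
    (hYp : IsPGroup p Y) (hN : N[Y] = C1[t])
    (inv : ∀ s ∈ S, s ∉ A → ∀ y ∈ Y, s * y * s⁻¹ = y⁻¹) : ¬ p ∣ C1[t].index :=
  Ia.st_gcd h.toSt hp hY hY1 hYp hN inv

end Cfsg.Agent.GW
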