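import Cfsg.Agent.GW.Ia1
import Cfsg.Agent.GW.D2

/-! Gorenstein-Walter, part Ia: `F(O(C(t)))` is a TI-subgroup. -/

set_option autoImplicit false
set_option linter.unusedSectionVars false
set_option linter.unusedVariables false

namespace Cfsg.Agent.GW.Ia

open Cfsg Subgroup Cfsg.Agent.GT Cfsg.Agent.Cls

universe u

/-- The statement of `St.al`. -/
def AL (G : Type u) [Group G] : Prop :=
  ∀ (S A : Subgroup G) (t v σ : G) (a : ℕ), St S A t → Nat.card S = 8 → v ∈ S → v ∉ A →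
    zpowers σ = A → 2 ≤ a → C1[v * σ].relIndex C1[t] = a * C1[v].relIndex C1[t] →
    (a = 3 ∧ 4 * C1[t].index = 105 * C1[v].relIndex C1[t] ^ 2) ∨
    (a = 5 ∧ 4 * C1[t].index = 189 * C1[v].relIndex C1[t] ^ 2)

/-- The statement of `St.thmC`. -/
def TC (G : Type u) [Group G] : Prop :=
  ∀ (S A I : Subgroup G) (t : G), St S A t → A ≤ C[O[C1[t]]] → I ≤ O[C1[t]] → I ≠ ⊥ →
    C1[t] ≤ N[I] → (∀ s ∈ S, s ∉ A → ∀ y ∈ I, s * y * s⁻¹ = y⁻¹) →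
    I ⊔ (O[C1[t]] ⊓ C[S]) = O[C1[t]] → (C1[t].index).Coprime (Nat.card I) → O[C1[t]] ⊓ C[S] = ⊥

/-- Hypothesis of part Ia, stated for all involutions. -/
structure Hy (G : Type u) [Group G] : Prop where
  st : ∀ z : G, orderOf z = 2 → ∃ S A, St S A z
  nc : ¬ IsMulCommutative G
  co : ∀ z : G, orderOf z = 2 → IsCoatom C1[z]
  ne : ∀ z : G, orderOf z = 2 → U[z] ≠ ⊥
  noE : ∀ z : G, orderOf z = 2 → ∀ X L : Subgroup G, X ≠ ⊥ → X ≤ F[z] → IsCoatom L →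
    N[X] ≤ L → Con L

variable {G : Type u} [Group G] [Finite G] {S A H K L P Q R X Y : Subgroup G} {t u v w x y g : G}
  {p q : ℕ}

/-- The elements of `Z(F[t])` inverted by `v`. -/
def Iv (t v : G) : Subgroup G where
  carrier := {y | y ∈ F[t] ⊓ C[F[t]] ∧ v * y * v⁻¹ = y⁻¹}
  one_mem' := ⟨one_mem _, by simp⟩
  mul_mem' := fun {a b} ha hb => ⟨mul_mem ha.1 hb.1, by
    rw [show v * (a * b) * v⁻¹ = (v * a * v⁻¹) * (v * b * v⁻¹) by group, ha.2, hb.2,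
      ← mul_inv_rev, ha.1.2 b hb.1.1]⟩
  inv_mem' := fun {a} ha => ⟨inv_mem ha.1, by
    rw [show v * a⁻¹ * v⁻¹ = (v * a * v⁻¹)⁻¹ by group, ha.2]⟩

theorem mem_Iv : y ∈ Iv t v ↔ y ∈ F[t] ⊓ C[F[t]] ∧ v * y * v⁻¹ = y⁻¹ := Iff.rfl

theorem Iv_le_Z : Iv t v ≤ F[t] ⊓ C[F[t]] := fun _ h => h.1

theorem Iv_le_F : Iv t v ≤ F[t] := fun _ h => h.1.1

theorem Iv_le_U : Iv t v ≤ U[t] := Iv_le_F.trans (F_le t)

theorem Iv_comm : IsMulCommutative (Iv t v) :=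
  isMulCommutative_of_le (isMulCommutative_inf_cent _) Iv_le_Z

theorem Iv_inf : Iv t v ⊓ C1[v] = ⊥ := eq_bot_iff.2 fun y hy =>
  eq_one_of_inv (odd_ord (odd_O _) (Iv_le_U hy.1)) hy.1.2 (mem_cent1.1 hy.2).symm

theorem ord_mul (ht : orderOf t = 2) (hv : orderOf v = 2) (hne : v ≠ t) (c : v * t = t * v) :
    orderOf (t * v) = 2 ∧ t * v ≠ t ∧ t * v * t = t * (t * v) :=
  ⟨TT.orderOf_eq_two (TT.mul_self_of_commute (TT.mul_self_of_orderOf ht)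
    (TT.mul_self_of_orderOf hv) c.symm) fun e => hne (by
      rw [eq_inv_of_mul_eq_one_right e, TT.inv_of_sq (TT.mul_self_of_orderOf ht)]),
    fun e => TT.ne_one_of_orderOf hv (mul_eq_left.1 e), by rw [mul_assoc, c]⟩

theorem pgrp_ord (hq : q.Prime) (hQ : IsPGroup q Q) (hy : y ∈ Q) (hK : ¬ q ∣ Nat.card K)
    (hyK : y ∈ K) : y = 1 :=
  eq_one_of_piNat_orderOf ((isPi_of_isPGroup hq hQ).orderOf hy)
    (((isPiSubgroup_single_compl_iff hq).2 hK).orderOf hyK)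

variable [IsSimpleGroup G]

theorem Hy.conj (h : Hy G) (ht : orderOf t = 2) (hv : orderOf v = 2) : ∃ g, g * t * g⁻¹ = v := by
  obtain ⟨S, A, s⟩ := h.st t ht
  exact s.one v hv

theorem Hy.norm (h : Hy G) (ht : orderOf t = 2) (hY1 : Y ≠ ⊥) (hY : Y ≤ C1[t])
    (hn : C1[t] ≤ N[Y]) : N[Y] = C1[t] :=
  ((h.co t ht).le_iff.1 hn).resolve_left (Cl.normalizer_ne_top_of_simple hY1 fun e =>
    (h.co t ht).1 (top_le_iff.1 (e ▸ hY)))

theorem Hy.mem_U (h : Hy G) (ht : orderOf t = 2) (hx : x ∈ C1[t]) (ho : Odd (orderOf x)) :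
    x ∈ U[t] := by
  obtain ⟨S, A, s⟩ := h.st t ht
  exact st_mem_U s hx ho

theorem Hy.le_U (h : Hy G) (ht : orderOf t = 2) (hK : K ≤ C1[t]) (ho : Odd (Nat.card K)) :
    K ≤ U[t] := by
  obtain ⟨S, A, s⟩ := h.st t ht
  exact st_le_U s hK ho

theorem Hy.card_F (h : Hy G) (ht : orderOf t = 2) (hv : orderOf v = 2) :
    Nat.card F[v] = Nat.card F[t] := by
  obtain ⟨g, rfl⟩ := h.conj ht hv
  rw [← conj_F, card_conj]

theorem Hy.exists_refl (h : Hy G) (ht : orderOf t = 2) :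
    ∃ v, orderOf v = 2 ∧ v ≠ t ∧ v * t = t * v := by
  obtain ⟨S, A, s⟩ := h.st t ht
  obtain ⟨v, hv, hvA⟩ := st_exists s
  exact ⟨v, st_refl s hv hvA⟩

theorem Hy.not_le_cent (h : Hy G) (ht : orderOf t = 2) (hv : orderOf v = 2) (hne : v ≠ t) :
    ¬ U[t] ≤ C1[v] := fun e => by
  obtain ⟨g, rfl⟩ := h.conj ht hv
  have h1 := h.le_U hv e (odd_O _)
  rw [← conj_U] at h1
  have h2 : g ∈ N[U[t]] :=
    conj_eq_self_iff.1 (eq_of_le_of_card_ge h1 (card_conj _ _).le).symm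
  rw [h.norm ht (h.ne t ht) (U_le t) (norm_U t)] at h2
  exact hne (by rw [mem_cent1.1 h2, mul_inv_cancel_right])

/-- The overgroups of type (α). -/
theorem Hy.alpha (h : Hy G) (ht : orderOf t = 2) (hX1 : X ≠ ⊥) (hX : X ≤ F[t])
    (hn : ¬ N[X] ≤ C1[t]) : ∃ (q : ℕ) (Q : Subgroup G), q.Prime ∧ q ≠ 2 ∧ IsPGroup q Q ∧ Q ≠ ⊥ ∧
      N[X] ≤ N[Q] ∧ Q ⊓ C1[t] = ⊥ ∧ ∀ z : G, orderOf z = 2 → ¬ q ∣ Nat.card F[z] := by
  obtain ⟨S, A, s⟩ := h.st t ht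
  have hXH : X ≤ C1[t] := hX.trans ((F_le t).trans (U_le t))
  obtain ⟨L, hL, hNL⟩ := exists_coatom_ge (Cl.normalizer_ne_top_of_simple hX1 fun e =>
    (h.co t ht).1 (top_le_iff.1 (e ▸ hXH)))
  have hF : F[t] ≤ fittingOf C1[t] := fittingOf_le_of_normal (U_le t) (norm_U t)
  have hCL : C[X] ≤ L := (cent_le_norm X).trans hNL
  have h2 : piCoreOf {2} C1[t] ≠ ⊥ := ne_bot_of_mem (le_piCoreOf_single Nat.prime_two
    (zpowers_le.2 (self_mem_cent1 t)) (le_norm_of_cent (by rw [cent_zpowers])) (two_zpowers ht)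
    (mem_zpowers t)) (TT.ne_one_of_orderOf ht)
  obtain ⟨r, hr, hr1⟩ := exists_piCoreOf_single_ne_bot (solv_O C1[t]) (h.ne t ht)
  have hr2 : r ≠ 2 := PG.ne_two_of_odd_of_dvd (odd_card_of_le (odd_O _) (piCoreOf_le _ _))
    (prime_dvd_card_of_isPGroup hr (piCoreOf_isPGroup hr _) hr1)
  obtain ⟨q, hq, hq1, hq2⟩ : ∃ q, q.Prime ∧ piCoreOf {q} L ≠ ⊥ ∧ piCoreOf {q} C1[t] = ⊥ := by
    by_contra hno
    push Not at hno
    exact hn (hNL.trans (bender (h.co t ht) hL (inf_cent_fittingOf_le (st_solv s))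
      (h.noE t ht X L hX1 hX hL hNL) (hX.trans hF) (le_normalizer.trans hNL)
      (inf_le_right.trans hCL) hno hr Nat.prime_two hr2
      (ne_bot_of_le hr1 (piCoreOf_le_of_normal (U_le t) (norm_U t))) h2).ge)
  have hd : ¬ q ∣ Nat.card (fittingOf C1[t]) := fun e =>
    piCoreOf_ne_bot_of_nil (π := {q}) (fittingOf_nilpotent _) hq rfl e
      (by rw [piCoreOf_single_fittingOf hq, hq2])
  have hQ := piCoreOf_isPGroup hq L
  have hLQ := self_le_norm_piCoreOf {q} L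
  have hQL := piCoreOf_le {q} L
  generalize piCoreOf {q} L = Q at hq1 hQ hLQ hQL
  refine ⟨q, Q, hq, fun e => h2 (e ▸ hq2), hQ, hq1, hNL.trans hLQ, ?_, fun z hz e => hd
    ((h.card_F ht hz ▸ e).trans (card_dvd_of_le hF))⟩
  have hc : (Nat.card (fittingOf C1[t])).Coprime (Nat.card ↥(Q ⊓ C1[t])) :=
    ((isPiSubgroup_single_compl_iff hq).2 hd).coprime' (isPi_of_isPGroup hq hQ).inf_left
  have hnF : Q ⊓ C1[t] ≤ N[fittingOf C1[t]] := inf_le_right.trans (self_le_norm_fittingOf _)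
  have h3 : fittingOf C1[t] ⊓ L ≤ C[Q ⊓ C1[t]] := le_cent_of_norm_of_coprime
    (le_norm_inf (inf_le_right.trans hLQ) (le_norm_self (inf_le_left.trans (fittingOf_le _))))
    (le_norm_inf hnF (le_norm_self (inf_le_left.trans hQL)))
    (coprime_card_of_le hc inf_le_left le_rfl)
  have h4 := coprime_nil_le_cent (fittingOf_nilpotent _) hnF hc ((inf_le_inf_left _
    ((cent_anti (le_inf (hX.trans hF) ((le_inf (hX.trans hF) (le_normalizer.trans hNL)).trans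
      h3))).trans hCL)).trans h3)
  exact eq_bot_of_le_of_coprime (le_fittingOf_of_le_cent (st_solv s) inf_le_right h4) le_rfl hc

theorem exists_fix (hq : q.Prime) (hq2 : q ≠ 2) (hQ : IsPGroup q Q) (hQ1 : Q ≠ ⊥)
    (ht : orderOf t = 2) (hv : orderOf v = 2) (hne : v ≠ t) (c : v * t = t * v)
    (htQ : t ∈ N[Q]) (hvQ : v ∈ N[Q]) (hf : Q ⊓ C1[t] = ⊥) :
    ∃ a, (a = v ∨ a = t * v) ∧ orderOf a = 2 ∧ a ≠ t ∧ a * t = t * a ∧
      ∃ y ∈ Q, y ≠ 1 ∧ y ∈ C1[a] ∧ t * y * t⁻¹ = y⁻¹ ∧ Odd (orderOf y) := by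
  have := Fact.mk hq
  have ho := PG.odd_card_of_isPGroup hq2 hQ
  have inv : ∀ y ∈ Q, t * y * t⁻¹ = y⁻¹ := fun y hy =>
    conj_eq_inv_of_fpf htQ (by rw [← ht, pow_orderOf_eq_one]) hf hy
  obtain ⟨y, hy, hy1⟩ := exists_ne_one_of_ne_bot hQ1
  obtain ⟨s, -, c', hc, hs, e1, e2, rfl⟩ := exists_inv_mul ho (TT.mul_self_of_orderOf hv) hvQ hy
  by_cases h1 : c' = 1
  · subst h1
    rw [mul_one] at hy1
    obtain ⟨a, b, d⟩ := ord_mul ht hv hne c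
    refine ⟨t * v, .inr rfl, a, b, d, s, hs, hy1, mem_cent1.2 ?_, inv s hs, odd_ord ho hs⟩
    have := inv _ (Q.inv_mem hs)
    rw [← e1] at this
    calc s * (t * v) = (v * s * v⁻¹)⁻¹⁻¹⁻¹ * (t * v) := by rw [e1]; simp
      _ = t * (v * s * v⁻¹) * t⁻¹ * (t * v) := by rw [this]; simp
      _ = _ := by group
  · exact ⟨v, .inl rfl, hv, hne, c, c', hc, h1, mem_cent1.2 e2.symm, inv c' hc, odd_ord ho hc⟩

theorem O_le_F (hp : p.Prime) (t : G) : piCoreOf {p} U[t] ≤ F[t] := piCoreOf_single_le_fittingOf hp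

theorem norm_O (p : ℕ) (t : G) : C1[t] ≤ N[piCoreOf {p} U[t]] := le_norm_piCoreOf (norm_U t)

theorem O_le (p : ℕ) (t : G) : piCoreOf {p} U[t] ≤ C1[t] := (piCoreOf_le _ _).trans (U_le t)

/-- Step (1). -/
theorem Hy.s1 (h : Hy G) (ht : orderOf t = 2) (hv : orderOf v = 2) (hne : v ≠ t)
    (c : v * t = t * v) (hp : p.Prime) (hX : piCoreOf {p} U[t] ⊓ C1[v] ≠ ⊥) :
    N[piCoreOf {p} U[t] ⊓ C1[v]] ≤ C1[t] := by
  by_contra hn
  obtain ⟨q, Q, hq, hq2, hQ, hQ1, hNQ, hf, hd⟩ :=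
    h.alpha ht hX (inf_le_left.trans (O_le_F hp t)) hn
  obtain ⟨a, ha, ha2, hat, ca, y, hy, hy1, hya, hi, ho⟩ := exists_fix hq hq2 hQ hQ1 ht hv hne c
    (hNQ (cent_le_norm _ (mem_cent_iff_le_cent1.2 (inf_le_left.trans (O_le p t)))))
    (hNQ (cent_le_norm _ (mem_cent_iff_le_cent1.2 inf_le_right))) hf
  have hD : F[a] ⊓ C1[t] ≤ N[Q] := by
    refine (le_norm_inf (inf_le_right.trans (norm_O p t)) (le_norm_cent1 fun x hx => ?_)).trans hNQ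
    have h1 := mem_cent1.1 (U_le a (F_le a hx.1))
    have h2 := mem_cent1.1 hx.2
    rcases ha with rfl | rfl
    · exact mem_cent1.2 h1
    · rw [← mul_assoc, h2, mul_assoc, mul_assoc, mul_right_inj] at h1
      exact mem_cent1.2 h1
  have hyF : y ∈ N[F[a]] := norm_F a hya
  have h1 : y ∈ C[F[a]] := lem_inv (x := t) (fittingOf_nilpotent _) (odd_F a) (sq1 ht)
    (norm_F a (mem_cent1.2 ca.symm)) hyF
    (((isPiSubgroup_single_compl_iff hq).2 (hd a ha2)).piNat.coprime'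
      ((isPi_of_isPGroup hq hQ).orderOf hy)) hi ho fun x hx => by
    have e : x * y * x⁻¹ * y⁻¹ = 1 := pgrp_ord hq hQ
      (Q.mul_mem (conj_mem_of_mem_norm (hD hx) hy) (Q.inv_mem hy)) (hd a ha2) (by
        rw [show x * y * x⁻¹ * y⁻¹ = x * (y * x⁻¹ * y⁻¹) by group]
        exact mul_mem hx.1 (conj_mem_of_mem_norm hyF (inv_mem hx.1)))
    exact mem_cent1.2 (by rwa [mul_inv_eq_one, mul_inv_eq_iff_eq_mul] at e)
  exact hy1 (pgrp_ord hq hQ hy (hd a ha2) (zpowers_le.1 (le_fittingOf_of_le_cent (solv_O _)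
    (zpowers_le.2 (h.mem_U ha2 hya ho)) (zpowers_le.2 h1))))

theorem Hy.s2a (h : Hy G) (ht : orderOf t = 2) (hv : orderOf v = 2) (hne : v ≠ t)
    (c : v * t = t * v) (hp : p.Prime) (hX : piCoreOf {p} U[t] ⊓ C1[v] ≠ ⊥) :
    piCoreOf {p} U[v] ≤ C1[t] := by
  have hp2 : p ≠ 2 := PG.ne_two_of_odd_of_dvd
    (odd_card_of_le (odd_O _) (inf_le_left.trans (piCoreOf_le _ _)))
    (prime_dvd_card_of_isPGroup hp ((piCoreOf_isPGroup hp _).to_inf_left) hX)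
  have := thompson_AxB_pgroup (A := zpowers t) hp (piCoreOf_isPGroup hp U[v])
    ((piCoreOf_isPGroup hp U[t]).to_inf_left (K := C1[v]))
    ((isPiSubgroup_single_compl_iff hp).2 (by
      rw [Nat.card_zpowers, ht]
      exact fun e => hp2 ((Nat.prime_dvd_prime_iff_eq hp Nat.prime_two).1 e)))
    (zpowers_le.2 (norm_O p v (mem_cent1.2 c.symm))) (inf_le_right.trans (norm_O p v))
    (zpowers_le.2 (mem_cent_iff_le_cent1.2 (inf_le_left.trans (O_le p t))))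
    (by rw [cent_zpowers]
        exact inf_le_right.trans ((cent_le_norm _).trans (h.s1 ht hv hne c hp hX)))
  exact mem_cent_iff_le_cent1.1 (zpowers_le.1 this)

/-- Step (2). -/
theorem Hy.s2 (h : Hy G) (ht : orderOf t = 2) (hv : orderOf v = 2) (hne : v ≠ t)
    (c : v * t = t * v) (hp : p.Prime) :
    piCoreOf {p} U[t] ≤ C1[v] ∨ ∀ y ∈ piCoreOf {p} U[t], v * y * v⁻¹ = y⁻¹ := by
  by_cases hX : piCoreOf {p} U[t] ⊓ C1[v] = ⊥
  · exact .inr fun y hy => conj_eq_inv_of_fpf (norm_O p t (mem_cent1.2 c))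
      (by rw [← hv, pow_orderOf_eq_one]) hX hy
  · refine .inl (h.s2a hv ht hne.symm c.symm hp ?_)
    rw [inf_eq_left.2 (h.s2a ht hv hne c hp hX)]
    obtain ⟨g, rfl⟩ := h.conj ht hv
    rw [← conj_U, ← conj_piCoreOf, Ne, conj_eq_bot_iff]
    exact ne_bot_of_le hX inf_le_left

theorem Hy.mem_Z (hx : x ∈ U[t]) (h : ∀ p : ℕ, p.Prime → ∀ y ∈ piCoreOf {p} U[t], y * x = x * y) :
    x ∈ F[t] ⊓ C[F[t]] := by
  have h1 : zpowers x ≤ C[F[t]] := fittingOf_le_cent_of_forall fun p hp => zpowers_le.2 (h p hp)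
  exact ⟨zpowers_le.1 (le_fittingOf_of_le_cent (solv_O _) (zpowers_le.2 hx) h1), zpowers_le.1 h1⟩

/-- Step (3). -/
theorem Hy.s3 (h : Hy G) (ht : orderOf t = 2) (hv : orderOf v = 2) (hne : v ≠ t)
    (c : v * t = t * v) (hu : u ∈ U[t]) : u * v * u⁻¹ * v⁻¹ ∈ F[t] ⊓ C[F[t]] := by
  refine Hy.mem_Z ?_ fun p hp y hy => ?_
  · rw [show u * v * u⁻¹ * v⁻¹ = u * (v * u⁻¹ * v⁻¹) by group]
    exact mul_mem hu (conj_mem_of_mem_norm (norm_U t (mem_cent1.2 c)) (inv_mem hu))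
  have hn := norm_O p t
  have hu' := U_le t hu
  rcases h.s2 ht hv hne c hp with e | e
  · have e1 := mem_cent1.1 (e hy)
    have e2 := mem_cent1.1 (e (conj_mem_of_le_norm' hn hu' hy))
    calc y * (u * v * u⁻¹ * v⁻¹) = u * (u⁻¹ * y * u * v) * u⁻¹ * v⁻¹ := by group
      _ = u * v * u⁻¹ * v⁻¹ * (v * y) * v⁻¹ := by rw [e2]; group
      _ = _ := by rw [← e1]; group
  · have e1 := e _ (inv_mem hy)
    have e2 := e _ (conj_mem_of_le_norm' hn hu' (inv_mem hy))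
    have vi := TT.inv_of_sq (TT.mul_self_of_orderOf hv)
    calc y * (u * v * u⁻¹ * v⁻¹) = u * (u⁻¹ * y⁻¹ * u)⁻¹ * v * u⁻¹ * v⁻¹ := by group
      _ = u * v * u⁻¹ * v⁻¹ * (v * y⁻¹ * v⁻¹) := by rw [← e2]; group
      _ = _ := by rw [e1, inv_inv]

theorem Hy.exists_mul (h : Hy G) (ht : orderOf t = 2) (hv : orderOf v = 2) (hne : v ≠ t)
    (c : v * t = t * v) (hu : u ∈ U[t]) : ∃ s ∈ Iv t v, ∃ c ∈ U[t] ⊓ C1[v], u = s * c := by
  obtain ⟨s, hs, c', hc, -, e1, e2, e3⟩ :=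
    exists_inv_mul (odd_O _) (TT.mul_self_of_orderOf hv) (norm_U t (mem_cent1.2 c)) hu
  exact ⟨s, ⟨zpowers_le.2 (h.s3 ht hv hne c hu) hs, e1⟩, c', ⟨hc, mem_cent1.2 e2.symm⟩, e3⟩

theorem Hy.Iv_ne (h : Hy G) (ht : orderOf t = 2) (hv : orderOf v = 2) (hne : v ≠ t)
    (c : v * t = t * v) : Iv t v ≠ ⊥ := fun e => h.not_le_cent ht hv hne fun u hu => by
  obtain ⟨s, hs, c', hc, rfl⟩ := h.exists_mul ht hv hne c hu
  rw [e, mem_bot] at hs
  rw [hs, one_mul]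
  exact hc.2

theorem norm_Z (t : G) : C1[t] ≤ N[F[t] ⊓ C[F[t]]] := le_norm_inf (norm_F t) (le_norm_cent (norm_F t))

theorem Hy.conj_conj (h : Hy G) (ht : orderOf t = 2) (hv : orderOf v = 2) (hne : v ≠ t)
    (c : v * t = t * v) (hu : u ∈ U[t]) (hy : y ∈ F[t] ⊓ C[F[t]]) :
    v * (u * y * u⁻¹) * v⁻¹ = u * (v * y * v⁻¹) * u⁻¹ := by
  have e := (conj_mem_of_le_norm (norm_Z t) (mem_cent1.2 c)
    (conj_mem_of_le_norm (norm_Z t) (U_le t hu) hy)).2 _ (h.s3 ht hv hne c hu).1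
  calc v * (u * y * u⁻¹) * v⁻¹ = u * v * u⁻¹ * v⁻¹ * (v * (u * y * u⁻¹) * v⁻¹) *
        (u * v * u⁻¹ * v⁻¹)⁻¹ := by rw [e, mul_inv_cancel_right]
    _ = _ := by group

theorem Hy.norm_Iv (h : Hy G) (ht : orderOf t = 2) (hv : orderOf v = 2) (hne : v ≠ t)
    (c : v * t = t * v) : U[t] ≤ N[Iv t v] := le_norm_iff.2 fun u hu y hy =>
  ⟨conj_mem_of_le_norm (norm_Z t) (U_le t hu) hy.1, by
    rw [h.conj_conj ht hv hne c hu hy.1, hy.2]; group⟩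

theorem Hy.norm_Zc (h : Hy G) (ht : orderOf t = 2) (hv : orderOf v = 2) (hne : v ≠ t)
    (c : v * t = t * v) : U[t] ≤ N[F[t] ⊓ C[F[t]] ⊓ C1[v]] := le_norm_iff.2 fun u hu y hy =>
  ⟨conj_mem_of_le_norm (norm_Z t) (U_le t hu) hy.1, mem_cent1.2 (by
    have := h.conj_conj ht hv hne c hu hy.1
    rw [← mem_cent1.1 hy.2, mul_inv_cancel_right, mul_inv_eq_iff_eq_mul] at this
    exact this.symm)⟩

/-- Step (4). -/
theorem Hy.s4 (h : Hy G) (ht : orderOf t = 2) (hx : x ∈ F[t]) (hx1 : x ≠ 1) : C1[x] ≤ C1[t] := by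
  obtain ⟨p, hp, hd⟩ := exists_prime_dvd_card (ne_bot_of_mem (mem_zpowers x) hx1)
  obtain ⟨z, hz, hzp⟩ := exists_mem_orderOf_eq hp hd
  have hzF : z ∈ F[t] := zpowers_le.2 hx hz
  have hz1 : z ≠ 1 := fun e => by rw [e, orderOf_one] at hzp; exact hp.one_lt.ne hzp
  refine le_trans (le_trans ?_ (cent_le_norm (zpowers z))) (not_not.1 fun hn => ?_)
  · rw [← cent_zpowers]; exact cent_anti (zpowers_le.2 hz)
  obtain ⟨q, Q, hq, hq2, hQ, hQ1, hNQ, hf, hd⟩ :=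
    h.alpha ht (ne_bot_of_mem (mem_zpowers z) hz1) (zpowers_le.2 hzF) hn
  obtain ⟨v, hv, hne, c⟩ := h.exists_refl ht
  have hzP : z ∈ piCoreOf {p} U[t] := by
    rw [← piCoreOf_single_fittingOf hp]
    exact nil_mem_piCoreOf (fittingOf_nilpotent _) hzF (by rw [hzp]; exact piNat_single_self hp)
  have hvz : v ∈ N[zpowers z] := by
    rcases h.s2 ht hv hne c hp with e | e
    · exact cent_le_norm _ (by rw [cent_zpowers]; exact mem_cent1_comm.1 (e hzP))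
    · exact conj_eq_self_iff.1 (by rw [conj_zpowers, e z hzP, zpowers_inv])
  obtain ⟨a, ha, ha2, hat, ca, y, hy, hy1, hya, hi, ho⟩ := exists_fix hq hq2 hQ hQ1 ht hv hne c
    (hNQ (cent_le_norm _ (by rw [cent_zpowers]; exact mem_cent1_comm.1 (O_le p t hzP))))
    (hNQ hvz) hf
  have h1 := (h.s3 ha2 ht hat.symm ca.symm (h.mem_U ha2 hya ho)).1
  have e : y * t * y⁻¹ * t⁻¹ = y * y := by
    rw [show y * t * y⁻¹ * t⁻¹ = y * (t * y * t⁻¹)⁻¹ by group, hi, inv_inv]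
  rw [e] at h1
  exact hy1 (eq_one_of_sq ho (pgrp_ord hq hQ (Q.mul_mem hy hy) (hd a ha2) h1))

theorem Hy.ti (h : Hy G) (ht : orderOf t = 2) (hv : orderOf v = 2) (hx : x ∈ F[t])
    (hx' : x ∈ F[v]) (hx1 : x ≠ 1) : v = t := by
  by_contra hne
  have h1 := h.s4 hv hx' hx1
  have c : t ∈ C1[v] := h1 (mem_cent1_comm.1 (U_le t (F_le t hx)))
  refine h.Iv_ne ht hv hne (mem_cent1.1 c).symm ?_
  rw [← Iv_inf (t := t) (v := v), left_eq_inf]
  exact fun y hy => h1 (mem_cent1.2 (hy.1.2 x hx).symm)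

end Cfsg.Agent.GW.Ia
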