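import Cfsg.Agent.GW.P4
import Cfsg.Agent.GW.D3

set_option autoImplicit false

namespace Cfsg.Agent.GW

universe u

theorem pp : PP.{u} := by
  intro G _ _ hG K _ hC F _ _ ho h3 e
  exact lt_of_psl hG K hC ho h3 e

end Cfsg.Agent.GW
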