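import Cfsg.Agent.GW.T3

/-! Gorenstein-Walter, Bender's Theorem 2.6. -/

set_option autoImplicit false
set_option linter.unusedSectionVars false
set_option linter.unusedVariables false

namespace Cfsg.Agent.GW

open Cfsg Subgroup Cfsg.Agent.GT Cfsg.Agent.Cls
open scoped commutatorElement

universe u

variable {G : Type u} [Group G] [Finite G] [IsSimpleGroup G]
  {S A B D E H I L M P Q R W X Y : Subgroup G} {t s u v w x y z g a b : G} {p q : ℕ}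
  {m : G → Subgroup G}

theorem Cx.Oq (h : Cx m) (ht : orderOf t = 2) (hu : orderOf u = 2)
    (h0 : piCoreOf {q} (m t) = ⊥) : piCoreOf {q} (m u) = ⊥ := by
  obtain ⟨S, A, hm⟩ := h.min t ht
  obtain ⟨g, rfl⟩ := hm.one u hu
  rw [h.eqv t g ht, ← conj_piCoreOf, h0, conj_bot]

theorem cent_of_norm_pq (hp : p.Prime) (hq : q.Prime) (hpq : p ≠ q) (hP : IsPGroup p P)
    (hQ : IsPGroup q Q) (h1 : P ≤ N[Q]) (h2 : Q ≤ N[P]) : P ≤ C[Q] :=
  le_cent_of_norm_of_coprime h1 h2 (cop_pq hp hq hpq hP hQ)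

theorem Pr.fin (k : Pr m a b) (hp : p.Prime) (hp2 : p ≠ 2) (hc : Chr m p) (hN : N[X] ≤ m a)
    (Xb : X ≤ piCoreOf {p} (m b)) (h1 : piCoreOf {p} (m a) ⊓ m b ≤ L)
    (h2 : piCoreOf {p} (m b) ⊓ m a ≤ L) (XL : X ≤ piCoreOf {p} L) (hb : b ∈ L) :
    Ar (m b) X L ∧ ∀ q, q.Prime → q ≠ 2 → q ≠ p → piCoreOf {q} L = ⊥ := by
  have hC := (cent_le_norm X).trans hN
  have ar : Ar (m b) X L := ⟨Xb.trans (piCoreOf_single_le_fittingOf hp), XL.trans (piCoreOf_le _ _),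
    by rw [fit_eq hp (hc b k.hv)]; exact (inf_le_inf_left _ hC).trans h2⟩
  refine ⟨ar, fun q hq hq2 hqp => eq_bot_iff.2 fun y hy => mem_bot.2 ?_⟩
  have pQ := piCoreOf_isPGroup hq L
  have pP := piCoreOf_isPGroup hp (m a)
  have oQ := odd_p hq hq2 pQ
  have Qa : piCoreOf {q} L ≤ m a := (Op_cent hq hp hqp).trans ((cent_anti XL).trans hC)
  have hi := inv_of_fpf (sq1 k.hv) (self_le_norm_piCoreOf _ _ hb) oQ (le_bot_iff.1 (by
    rw [← k.A1 k.hv ar hq (hc b k.hv q hq hqp)]; exact inf_le_inf_left _ (k.le b k.hv))) hy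
  have cy := (cop_pq hp hq hqp.symm pP pQ).coprime_dvd_right (orderOf_dvd_card_of_mem hy)
  have h3 : piCoreOf {p} (m a) ⊓ C1[b] ≤ C[piCoreOf {q} L] := by
    rw [le_cent_iff_commutator_eq_bot]
    exact eq_bot_of_le_of_coprime ((commutator_mono inf_le_left le_rfl).trans
      (commutator_le_of_le_norm_left (Qa.trans (self_le_norm_piCoreOf _ _))))
      (commutator_le_of_le_norm_right (((inf_le_inf_left _ (k.le b k.hv)).trans h1).trans
        (self_le_norm_piCoreOf _ _))) (cop_pq hp hq hqp.symm pP pQ)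
  have h4 := lem_inv (nilpotent_of_isPGroup hp pP) (odd_p hp hp2 pP) (sq1 k.hv)
    (self_le_norm_piCoreOf _ _ k.memv) (self_le_norm_piCoreOf _ _ (Qa hy)) cy hi (odd_ord oQ hy)
    (h3.trans (cent_le_cent1 hy))
  have h5 := (k.cp hp hc k.ht).cent ⟨Qa hy, h4⟩
  exact orderOf_eq_one_iff.1 (Nat.eq_one_of_dvd_coprimes cy (orderOf_dvd_card_of_mem h5) dvd_rfl)

/-- the minimal subgroup `A`. -/
structure Bo (m : G → Subgroup G) (t v : G) (p : ℕ) (A : Subgroup G) : Prop extends Pr m t v where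
  hp : p.Prime
  hp2 : p ≠ 2
  pg : IsPGroup p A
  hn : C1[t] ≤ N[A]
  nle : N[A] ≤ m t
  mini : ∀ W, W ≤ A → C1[t] ≤ N[W] → ¬ W ≤ C1[t] → W = A
  x1 : ¬ A ⊓ C1[v] ≤ C1[t]

theorem Cx.exists_bo (h : Cx m) (ht : orderOf t = 2) : ∃ m' v p A, Bo m' t v p A := by
  obtain ⟨S, A, hm⟩ := h.min t ht
  obtain ⟨p, hp, h1⟩ : ∃ p : ℕ, p.Prime ∧ ¬ piCoreOf {p} (m t) ≤ C1[t] := by
    by_contra h0
    push Not at h0
    have h1 := h.con ht ⟨h.mem ht, mem_cent_iff.2 (fittingOf_le_of_forall_piCoreOf h0)⟩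
    have h2 := le_piCoreOf_of_le_fittingOf (zpowers_le.2 h1) (isPi_of_isPGroup Nat.prime_two (pg2 ht))
    rw [h.o2 t ht, zpowers_le, mem_bot] at h2
    exact ne1 ht h2
  have hp2 : p ≠ 2 := fun e => h1 (by rw [e, h.o2 t ht]; exact bot_le)
  obtain ⟨W, ⟨pW, nW, cW⟩, -, hmin⟩ := exists_minimal_le
    (S := {W : Subgroup G | IsPGroup p W ∧ C1[t] ≤ N[W] ∧ ¬ W ≤ C1[t]})
    ⟨piCoreOf_isPGroup hp _, (h.le t ht).trans (self_le_norm_piCoreOf _ _), h1⟩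
  obtain ⟨M, hM, hN⟩ := exists_coatom_ge (norm_ne_top (Z := W) (fun e => cW (e ▸ bot_le))
    (solvable_of_isPGroup hp pW) hm.nc)
  obtain ⟨m', h', e⟩ := hm.exists_cx h.pp h.pf hM (nW.trans hN) (by
    by_contra h0
    have h2 := hm.step0 (nW.trans hN) h0
    refine cW (comm_eq_bot_iff.1 (eq_bot_of_le_of_coprime
      (commutator_le_of_le_norm_left (zp_norm (nW (self_mem_cent1 t))))
      ((commutator_mono le_rfl (zpowers_le.2 h2)).trans (commutator_le_of_le_norm_right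
        (le_normalizer.trans (hN.trans (self_le_norm_piCoreOf _ _)))))
      (cop2' (odd_p hp hp2 pW) (piCoreOf_isPGroup Nat.prime_two M)))))
  obtain ⟨v, k⟩ := h'.exists_pr ht
  have mk : ∀ u, Pr m' t u → ¬ W ⊓ C1[u] ≤ C1[t] → Bo m' t u p W := fun u k hu =>
    ⟨k, hp, hp2, pW, nW, e ▸ hN, fun W' h1 h2 h3 => hmin W' ⟨pW.to_le h1, h2, h3⟩ h1, hu⟩
  by_cases h2 : W ⊓ C1[v] ≤ C1[t]
  · exact ⟨m', _, p, W, mk _ k.third fun h3 => cW (gen3 ht k.hv k.ne k.c (odd_p hp hp2 pW)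
      (nW (self_mem_cent1 t)) (nW k.vt) inf_le_right h2 h3)⟩
  · exact ⟨m', v, p, W, mk v k h2⟩

namespace Bo
variable (h : Bo m t v p A)
include h

theorem odd : Odd (Nat.card A) := odd_p h.hp h.hp2 h.pg
theorem tN : t ∈ N[A] := h.hn (self_mem_cent1 t)
theorem vN : v ∈ N[A] := h.hn h.vt
theorem nA : ¬ A ≤ C1[t] := fun e => h.x1 (inf_le_left.trans e)

theorem per : ⁅A, zpowers t⁆ = A :=
  h.mini _ (commutator_le_of_le_norm_left (zp_norm h.tN))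
    (le_norm_commutator h.hn (le_norm_of_cent (cent_zpowers t).ge))
    fun e => h.nA (le_c1_of_comm h.ht h.tN h.odd e)

theorem leO (hL : L ≠ ⊤) (ht : t ∈ L) (hA : A ≤ L) : A ≤ piCoreOf {p} L := by
  have := h.KK h.hp h.hp2 hL ht h.pg h.hn
  rwa [inf_eq_left.2 hA, h.per] at this

theorem tN' : t ∈ N[A ⊓ C1[v]] :=
  le_norm_inf (zp_norm h.tN) (zp_norm (le_normalizer h.tv)) (mem_zpowers t)

theorem Xle : ⁅A ⊓ C1[v], zpowers t⁆ ≤ A ⊓ C1[v] := commutator_le_of_le_norm_left (zp_norm h.tN')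

theorem Xt : ¬ ⁅A ⊓ C1[v], zpowers t⁆ ≤ C1[t] := fun e =>
  h.x1 (le_c1_of_comm h.ht h.tN' (odd_card_of_le h.odd inf_le_left) e)

theorem Xw : ¬ ⁅A ⊓ C1[v], zpowers t⁆ ≤ C1[t * v] := fun e => h.Xt fun x hx => by
  have := c1_mul (e hx) (h.Xle hx).2
  rwa [mul_assoc, sq1 h.hv, mul_one] at this

theorem X1 : ⁅A ⊓ C1[v], zpowers t⁆ ≠ ⊥ := fun e => h.Xt (e ▸ bot_le)

theorem tX : t ∈ N[⁅A ⊓ C1[v], zpowers t⁆] := normalizer_commutator_ge_right _ _ (mem_zpowers t)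

theorem vX : v ∈ N[⁅A ⊓ C1[v], zpowers t⁆] :=
  cent_le_norm _ (mem_cent_iff.2 (h.Xle.trans inf_le_right))

theorem XO (hL : L ≠ ⊤) (ht : t ∈ L) (hX : ⁅A ⊓ C1[v], zpowers t⁆ ≤ L) :
    ⁅A ⊓ C1[v], zpowers t⁆ ≤ piCoreOf {p} L := by
  rw [← comm_comm2 h.ht h.tN' (odd_card_of_le h.odd inf_le_left)]
  exact (commutator_mono (le_inf (h.Xle.trans inf_le_left) hX) le_rfl).trans
    (h.KK h.hp h.hp2 hL ht h.pg h.hn)

theorem XPt : ⁅A ⊓ C1[v], zpowers t⁆ ≤ piCoreOf {p} (m t) :=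
  h.XO (h.co t h.ht).1 h.memt (h.Xle.trans (inf_le_left.trans (le_normalizer.trans h.nle)))

theorem XPv : ⁅A ⊓ C1[v], zpowers t⁆ ≤ piCoreOf {p} (m v) :=
  h.XO (h.co v h.hv).1 h.swap.memv (h.Xle.trans (inf_le_right.trans (h.le v h.hv)))

theorem der : ⁅A, A⁆ ≤ C1[t] := by
  by_contra h0
  exact (commutator_lt_of_solvable (solvable_of_isPGroup h.hp h.pg) fun e => h.nA (e ▸ bot_le)).ne
    (h.mini _ (der1_le A) (le_norm_commutator h.hn h.hn) h0)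

theorem derZ : A ≤ C[⁅A, A⁆] := by
  have := commutator_le_cent_of_norm_of_cent (self_le_norm_der1 A)
    (zpowers_le.2 (mem_cent_iff.2 h.der))
  rwa [h.per] at this

theorem arT (hN : N[⁅A ⊓ C1[v], zpowers t⁆] ≤ L) : Ar (m t) ⁅A ⊓ C1[v], zpowers t⁆ L :=
  .of_norm (h.XPt.trans (piCoreOf_single_le_fittingOf h.hp)) hN

theorem arV (hN : N[⁅A ⊓ C1[v], zpowers t⁆] ≤ L) : Ar (m v) ⁅A ⊓ C1[v], zpowers t⁆ L :=
  .of_norm (h.XPv.trans (piCoreOf_single_le_fittingOf h.hp)) hN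

theorem hQ (hL : L ≠ ⊤) (hN : N[⁅A ⊓ C1[v], zpowers t⁆] ≤ L) (hq : q.Prime) (hq2 : q ≠ 2)
    (h0 : piCoreOf {q} (m t) = ⊥) : piCoreOf {q} L = ⊥ := by
  have hqp : q ≠ p := fun e => h.X1 (le_bot_iff.1 (by rw [← h0, e]; exact h.XPt))
  have hp := h.hp
  have ht := hN h.tX
  have hv := hN h.vX
  set X := ⁅A ⊓ C1[v], zpowers t⁆ with hX
  set Q := piCoreOf {q} L with hQ
  have pQ : IsPGroup q Q := piCoreOf_isPGroup hq L
  have oQ := odd_p hq hq2 pQ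
  have nQ : L ≤ N[Q] := self_le_norm_piCoreOf _ _
  have a1 := h.A1 h.ht (h.arT hN) hq h0
  have a2 := h.A1 h.hv (h.arV hN) hq (h.Oq h.ht h.hv h0)
  suffices hs : Q ≤ C[A] by
    rw [← a1]; exact (inf_eq_left.2 (hs.trans ((cent_le_norm A).trans h.nle))).symm
  have Qw : Q ≤ C1[t * v] := fun y hy => by
    have i1 := inv_of_fpf (sq1 h.ht) (nQ ht) oQ (le_bot_iff.1 (by
      rw [← a1]; exact inf_le_inf_left _ (h.le t h.ht))) (inv_mem hy)
    have i2 := inv_of_fpf (sq1 h.hv) (nQ hv) oQ (le_bot_iff.1 (by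
      rw [← a2]; exact inf_le_inf_left _ (h.le v h.hv))) hy
    rw [mem_cent1, show t * v * y = t * (v * y * v⁻¹) * t⁻¹ * (t * v) by group, i2, i1, inv_inv]
  have QX : Q ≤ C[X] := (Op_cent hq hp hqp).trans (cent_anti (h.XO hL ht (le_normalizer.trans hN)))
  have XA : X ≤ A := h.Xle.trans inf_le_left
  have CX : C[X] ≤ L := (cent_le_norm X).trans hN
  by_cases hZ : A ⊓ C[A] ≤ C1[t * v]
  · refine (Op_cent hq hp hqp).trans (cent_anti (h.leO hL ht (le_trans (fun a ha => ?_) hN)))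
    obtain ⟨c, hc, b, hb, e, rfl⟩ := dec2 (sq1 h.hv) h.vN h.odd ha
    replace hb := commutator_le_of_le_norm_left (zp_norm h.vN) hb
    refine mul_mem (normalizer_commutator_ge_left _ _ hc) (cent_le_norm _ (cent_anti h.Xle ?_))
    refine PG.mem_cent_iff_commutator.2 fun x hx => ?_
    have d1 := commutator_mem_commutator hb hx.1
    have d2 := mem_cent1.1 (mem_cent_iff.1 (h.derZ hb) d1)
    have d3 := c1_mul (h.der d1) (hZ ⟨der1_le A d1, le_cent_symm h.derZ d1⟩)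
    rw [tt (sq1 h.ht)] at d3
    refine eq1_of_inv_fix (odd_ord h.odd (der1_le A d1)) ?_ d3
    have a2 : v * x * v⁻¹ = x := by rw [← mem_cent1.1 hx.2]; group
    rw [show v * ⁅b, x⁆ * v⁻¹ = ⁅v * b * v⁻¹, v * x * v⁻¹⁆ by simp only [commutatorElement_def]; group,
      a2, e, show ⁅b⁻¹, x⁆ = (b⁻¹ * (⁅b, x⁆ * b))⁻¹ by simp only [commutatorElement_def]; group, d2]
    group
  · have nZ : N[A] ≤ N[A ⊓ C[A]] := le_norm_inf le_rfl (norm_le_norm_cent A)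
    have Z1 : ⁅A ⊓ C[A], zpowers (t * v)⁆ ≤ A ⊓ C[A] :=
      commutator_le_of_le_norm_left (zp_norm (nZ (mul_mem h.tN h.vN)))
    have hL1 := norm_ne_top (fun e => hZ (comm_eq_bot_iff.1 e)) (solvable_of_isPGroup hp
      (h.pg.to_le (Z1.trans inf_le_left))) h.nc
    have hA := h.leO hL1 (le_norm_commutator (zp_norm (nZ h.tN)) (le_norm_of_cent (by
      rw [cent_zpowers, zpowers_le]; exact h.third.tv)) (mem_zpowers t))
      (le_norm_of_cent (le_cent_symm (Z1.trans inf_le_right)))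
    have Q1 := (le_norm_of_cent (le_cent_symm (commutator_le_cent_of_norm_of_cent (H := A ⊓ C[A])
      ((inf_le_right.trans (cent_anti XA)).trans (CX.trans nQ))
      (zpowers_le.2 (mem_cent_iff.2 Qw))))).trans (self_le_norm_piCoreOf {p} _)
    have pR := piCoreOf_isPGroup hp N[⁅A ⊓ C[A], zpowers (t * v)⁆]
    refine (thompson_AxB_pgroup hp pR (h.pg.to_le XA) (isPi_of_isPGroup_mem hq pQ (by simpa using hqp))
      Q1 (le_norm_self (XA.trans hA)) QX ?_).trans (cent_anti hA)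
    exact cent_of_norm_pq hp hq hqp.symm (pR.to_le inf_le_left) pQ
      (inf_le_right.trans (CX.trans nQ)) (le_norm_inf Q1 (le_norm_self QX))

theorem nT (hX : ⁅A ⊓ C1[v], zpowers t⁆ ≤ piCoreOf {p} L) : ¬ CJ t L := fun e =>
  h.Xt (hX.trans (e p h.hp h.hp2))

theorem nW (hX : ⁅A ⊓ C1[v], zpowers t⁆ ≤ piCoreOf {p} L) : ¬ CJ (t * v) L := fun e =>
  h.Xw (hX.trans (e p h.hp h.hp2))

theorem exL : ∃ L, IsCoatom L ∧ N[⁅A ⊓ C1[v], zpowers t⁆] ≤ L :=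
  exists_coatom_ge (norm_ne_top h.X1 (solvable_of_isPGroup h.hp
    (h.pg.to_le (h.Xle.trans inf_le_left))) h.nc)

theorem chr : Chr m p := fun u hu q hq hqp => by
  by_contra h0
  obtain ⟨L, hL, hN⟩ := h.exL
  have ht := hN h.tX
  have hX := h.XO hL.1 ht (le_normalizer.trans hN)
  obtain ⟨h2, con⟩ := h.A3 ht (hN h.vX) (h.nT hX) (h.swap.A2 (h.arV hN) hL.1 (hN h.vX)) (h.nW hX)
  have key : ∀ a, orderOf a = 2 → Ar (m a) ⁅A ⊓ C1[v], zpowers t⁆ L → m a = L := fun a ha ar =>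
    bender (h.co a ha) hL (h.toCx.con ha) con ar.le ar.leL ar.cent (fun r hr h1 h3 => h1 (by
      by_cases e : r = 2
      · rw [e, h2]
      · exact h.hQ hL.1 hN hr e (h.Oq ha h.ht h3))) h.hp hq hqp.symm
      (fun e => h.X1 (le_bot_iff.1 (h.Oq ha h.ht e ▸ h.XPt))) fun e => h0 (h.Oq ha hu e)
  exact h.nm ((key v h.hv (h.arV hN)).trans (key t h.ht (h.arT hN)).symm)

theorem nXw : ¬ ⁅A ⊓ C1[v], zpowers t⁆ ≤ m (t * v) := fun e => h.X1 (le_bot_iff.1 (by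
  rw [← h.T0 h.hp h.hp2 h.chr]
  exact le_inf (le_inf h.XPt h.XPv) (h.XO (h.co _ h.hw).1 h.third.swap.memv e)))

theorem false : False := by
  have hp := h.hp
  have hp2 := h.hp2
  have hc := h.chr
  obtain ⟨L, hL, hN⟩ := h.exL
  have hX := h.XO hL.1 (hN h.tX) (le_normalizer.trans hN)
  obtain ⟨D, pD, tD, vD, D1, D2, n1, n2⟩ := h.exD hp hp2 hc
  have XD := (le_inf h.XPt (h.XPv.trans (piCoreOf_le _ _))).trans D1
  obtain ⟨L', hL', hN'⟩ := exists_coatom_ge (norm_ne_top (ne_bot_of_le h.X1 XD)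
    (solvable_of_isPGroup hp pD) h.nc)
  have DL := le_normalizer.trans hN'
  have hX' := h.XO hL'.1 (hN' tD) (XD.trans DL)
  have cj : (∀ q, q.Prime → q ≠ 2 → q ≠ p → piCoreOf {q} L' = ⊥) → CJ v L' := fun hq => by
    by_contra h0
    rcases h.cp_cases hp hp2 hc hL' (hN' tD) (hN' vD) (h.nT hX') h0 (h.nW hX') hq with e | e | e
    exacts [n1 (e ▸ hN'), n2 (e ▸ hN'), h.nXw (e ▸ XD.trans DL)]
  rcases h.cp_cases hp hp2 hc hL (hN h.tX) (hN h.vX) (h.nT hX)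
    (h.swap.A2 (h.arV hN) hL.1 (hN h.vX)) (h.nW hX)
    (fun q hq hq2 hqp => h.hQ hL.1 hN hq hq2 (hc t h.ht q hq hqp)) with rfl | rfl | rfl
  · obtain ⟨ar, hq⟩ := h.fin hp hp2 hc hN h.XPv (D1.trans DL) (D2.trans DL) hX' (hN' vD)
    exact h.swap.A2 ar hL'.1 (hN' vD) (cj hq)
  · obtain ⟨ar, hq⟩ := h.swap.fin hp hp2 hc hN h.XPt (D2.trans DL) (D1.trans DL) hX' (hN' tD)
    have h1 : piCoreOf {p} (m v) ⊓ C1[t] ≤ C1[v] :=
      (le_inf inf_le_left ((inf_le_inf_left _ (h.le t h.ht)).trans (D2.trans DL))).trans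
        (h.swap.cj1 hp hp2 hL'.1 (hN' vD) (cj hq p hp hp2))
    obtain ⟨g, g1, g2, g3⟩ := h.cyc
    have h2 : piCoreOf {p} (m t) ⊓ C1[t * v] ≤ C1[t] := by
      rw [← conj_le_conj_iff (g := g), conj_inf, conj_piCoreOf, conj_cent1, conj_cent1,
        ← h.eqv t g h.ht, g1, g3]
      exact h1
    have h3 : A ⊓ C1[t] ≤ A ⊓ C1[v] ⊔ ⁅A, A⁆ := by
      have := coprime_commutator_inf_cent_le (zp_norm h.tN) (cop2 h.odd h.ht)
      rw [h.per, cent_zpowers] at this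
      exact this.trans le_sup_right
    have h4 : A ⊓ C1[v] = A := PG.eq_of_sup_commutator_eq_of_nilpotent
      (nilpotent_of_isPGroup hp h.pg) inf_le_left (gen3 h.ht h.hv h.ne h.c h.odd h.tN h.vN h3
        le_sup_left ((le_inf inf_le_left ((inf_le_inf_right _ (h.leO (h.co t h.ht).1 h.memt
          (le_normalizer.trans h.nle))).trans h2)).trans h3))
    rw [h4, h.per] at hN
    have h5 := conj_mono g (h.hn.trans hN)
    rw [conj_cent1, ← h.eqv v g h.hv, g1, g2] at h5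
    exact h.nXw (h.Xle.trans (inf_le_right.trans h5))
  · exact h.nXw (le_normalizer.trans hN)

end Bo

theorem Min.t26' (h : Min S A t) (pp : PP.{u}) (pf : PFT.{u}) : T26 (⊤ : Subgroup G) :=
  fun z _ hz M _ hM hH => by
  rw [top_inf_eq] at hH
  obtain ⟨S', A', h'⟩ := h.of_ord hz
  obtain ⟨L, hL, hML⟩ := exists_coatom_ge hM
  refine piCoreOf_inf_le hML ⟨h'.step0 (hH.trans hML) fun e => ?_, hH (self_mem_cent1 z)⟩
  obtain ⟨m, hm, -⟩ := h'.exists_cx pp pf hL (hH.trans hML) e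
  obtain ⟨m', v, p, A, hb⟩ := hm.exists_bo hz
  exact hb.false

end Cfsg.Agent.GW
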