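import Cfsg.Agent.GW.E3
import Cfsg.Agent.GW.E4b
import Cfsg.Agent.GW.E5b2
import Cfsg.Agent.GW.II3
import Cfsg.Agent.GW.P5
import Cfsg.Agent.GW.T4
import Cfsg.Agent.GW.C7
import Cfsg.Agent.GW.E5c

/-! The Gorenstein-Walter theorem. -/

set_option autoImplicit false
set_option linter.unusedSectionVars false
set_option linter.unusedVariables false

namespace Cfsg.Agent.GW

open Cfsg Subgroup Cfsg.Agent.GT Cfsg.Agent.Cls Cfsg.Agent.GW.Ia
open scoped commutatorElement

universe u

theorem good_of_ih {G : Type u} [Group G] [Finite G] [IsSimpleGroup G] (nc : ¬ IsMulCommutative G)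
    (dg : DG G) (ih : IH.{u} (Nat.card G)) : Good G := by
  obtain ⟨S, A, t, st⟩ := exists_st nc dg
  have h : Min S A t := ⟨st, nc, dg, ih⟩
  have pf : PFT.{u} := fun _ _ _ _ _ _ _ _ s hv hvA hσ => s.pf1 hv hvA hσ
  have al : Ia.AL G := fun _ _ _ _ _ _ s h8 hv hvA hσ ha e => s.al h8 hv hvA hσ ha e
  have tc : Ia.TC G := fun _ _ _ _ s => s.thmC
  have h26 := h.t26' pp pf
  refine ⟨h26, ?_⟩
  by_cases hm : IsCoatom C1[t]
  · refine .inl (h.caseIa' al tc hm ?_)
    by_contra hE
    obtain ⟨S, A, L, X, t, s, n, r, c⟩ := h.exists_Cf pp hm hE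
    obtain ⟨B, Z, W, p, c⟩ := c.toCg (fun _ _ _ _ _ s hv hvA hσ => (s.pf1 hv hvA hσ).1) tc
    exact c.false' c.der c.ndvd (fun _ => c.star) (fun _ _ _ _ _ s => s.pf2) fun _ _ _ _ _ _ s => s.pf3
  · exact (h.caseII' al (fun _ => h.se' pf) h26 hm).imp_left (Ia.l2_of_bot st nc)

theorem ih_all (N : ℕ) : IH.{u} N := by
  induction N with
  | zero => intro K _ _ _ _ _ h; exact absurd h (Nat.not_lt_zero _)
  | succ N ih =>
    intro K _ _ _ nc dg h
    exact good_of_ih nc dg fun K' _ _ _ nc' dg' h' => ih K' nc' dg' (by omega)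

/-- Gorenstein-Walter for simple groups. -/
theorem good {G : Type u} [Group G] [Finite G] [IsSimpleGroup G] (nc : ¬ IsMulCommutative G)
    (dg : DG G) : Good G := good_of_ih nc dg (ih_all _)

theorem main {X : Type u} [Group X] [Finite X] [Group.IsPerfect X]
    (S : Sylow 2 X) (n : ℕ) (hn : 2 ≤ n) (hS : Nonempty ((S : Subgroup X) ≃* DihedralGroup n)) :
    L2 (X ⧸ Cfsg.oddCore X) ∨ Nonempty (X ⧸ Cfsg.oddCore X ≃* alternatingGroup (Fin 7)) := by
  obtain ⟨e⟩ := hS
  obtain ⟨A, hA⟩ := exists_dih (by omega) e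
  have dg : DG (X ⧸ Cfsg.oddCore X) := (dg_of_dih hA (syl_top_of_sylow Nat.prime_two S)).of_surj'
    (QuotientGroup.mk'_surjective _)
  have eO : O[(⊤ : Subgroup X)] = Cfsg.oddCore X := piCoreOf_top_compl Nat.prime_two
  have nt : Nontrivial (X ⧸ Cfsg.oddCore X) := by
    refine QuotientGroup.nontrivial_iff.2 fun h => ?_
    have := odd_card_of_le (O_odd ⊤) ((le_top.trans h.ge).trans eO.ge : (S : Subgroup X) ≤ _)
    rw [hA.card] at this
    exact this.not_two_dvd_nat (dvd_mul_right _ _)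
  have pe : commutator (X ⧸ Cfsg.oddCore X) = ⊤ := Group.IsPerfect.commutator_eq_top
  have := simple_of_perfect dg pe (by
    rw [piCoreOf_top,
      ← comap_injective (QuotientGroup.mk'_surjective _) |>.eq_iff, comap_piCore_quotient,
      coreMod_eq_piCoreOf le_top (normal_iff_top_le_norm.1 inferInstance) (eO ▸ piCoreOf_isPi _ _), eO]
    simp)
  refine (good (fun c => ?_) dg).2.imp_right And.right
  rw [(commutator_eq_bot_iff_center_eq_top _).2 (by
    rw [eq_top_iff]; exact fun x _ => mem_center_iff.2 fun y => c.is_comm.comm y x)] at pe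
  exact bot_ne_top pe

end Cfsg.Agent.GW
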