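import Cfsg.Agent.Cl.SL2Tori

/-! Automorphisms of `PSL₂(F)`, `F` finite of odd order. -/

set_option autoImplicit false
set_option linter.unusedSectionVars false
set_option linter.unusedVariables false

namespace Cfsg.Agent.GWP

open Matrix Cfsg.Agent.Cl
open scoped MatrixGroups

universe u
variable {F : Type} [Field F] {G : Type u} [Group G]

/-- `g ↦ A s(g) A⁻¹`. -/
def sg (A : GL (Fin 2) F) (s : F ≃+* F) : SL(2, F) →* SL(2, F) where
  toFun g := ⟨A.1 * g.1.map s * A⁻¹.1, by
    have h1 : (g.1.map s).det = 1 := by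
      have := (s : F →+* F).map_det g.1
      rw [g.2, map_one] at this
      exact this.symm
    rw [det_mul, det_mul, h1, mul_one, ← det_mul, Units.mul_inv, det_one]⟩
  map_one' := by
    apply Subtype.ext
    simp
  map_mul' g h := by
    apply Subtype.ext
    show A.1 * (g.1 * h.1).map s * A⁻¹.1 = (A.1 * g.1.map s * A⁻¹.1) * (A.1 * h.1.map s * A⁻¹.1)
    have : (g.1 * h.1).map s = g.1.map s * h.1.map s := Matrix.map_mul (f := s)
    rw [this]
    simp only [Matrix.mul_assoc, Units.inv_mul_cancel_left]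

theorem sg_val (A : GL (Fin 2) F) (s : F ≃+* F) (g : SL(2, F)) :
    (sg A s g).1 = A.1 * g.1.map s * A⁻¹.1 := rfl

theorem sg_eq_iff {A : GL (Fin 2) F} {s : F ≃+* F} {g h : SL(2, F)} :
    sg A s g = h ↔ A.1 * g.1.map s = h.1 * A.1 := by
  constructor
  · intro e; rw [← e, sg_val]; simp only [Matrix.mul_assoc, Units.inv_mul, Matrix.mul_one]
  · intro e; apply Subtype.ext
    rw [sg_val, e]; simp only [Matrix.mul_assoc, Units.mul_inv, Matrix.mul_one]

/-- field automorphism on `GL₂`. -/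
def gm (s : F ≃+* F) (B : GL (Fin 2) F) : GL (Fin 2) F := GeneralLinearGroup.map (s : F →+* F) B

theorem gm_val (s : F ≃+* F) (B : GL (Fin 2) F) : (gm s B).1 = B.1.map s := rfl

theorem sg_sg (A B : GL (Fin 2) F) (s t : F ≃+* F) (g : SL(2, F)) :
    sg A s (sg B t g) = sg (A * gm s B) (s * t) g := by
  symm
  rw [sg_eq_iff, sg_val, sg_val, Units.val_mul, gm_val]
  have e1 : (B.1 * g.1.map t * B⁻¹.1).map s = B.1.map s * (g.1.map t).map s * B⁻¹.1.map s := by
    rw [Matrix.map_mul (f := s), Matrix.map_mul (f := s)]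
  have e2 : B⁻¹.1.map s * B.1.map s = 1 := by
    rw [← Matrix.map_mul (f := s), Units.inv_mul]; simp
  have e3 : (g.1.map t).map s = g.1.map (s * t) := rfl
  rw [e1, e3]
  simp only [Matrix.mul_assoc, Units.inv_mul_cancel_left, e2, Matrix.mul_one]

theorem sg_one (g : SL(2, F)) : sg 1 1 g = g := by
  rw [sg_eq_iff]; simp

theorem gm_one (B : GL (Fin 2) F) : gm 1 B = B := by
  apply Units.ext; rw [gm_val]; rfl

theorem sg_neg (A : GL (Fin 2) F) (s : F ≃+* F) (g : SL(2, F)) : sg A s (-g) = - sg A s g := by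
  apply Subtype.ext
  show A.1 * (-g.1).map s * A⁻¹.1 = - (A.1 * g.1.map s * A⁻¹.1)
  rw [Matrix.map_neg _ (map_neg s)]; simp

theorem sg_inj (A : GL (Fin 2) F) (s : F ≃+* F) : Function.Injective (sg A s) := by
  intro g h e
  have := congrArg (sg (gm s⁻¹ A)⁻¹ s⁻¹) e
  rwa [sg_sg, sg_sg, inv_mul_cancel, inv_mul_cancel, sg_one, sg_one] at this

theorem sg_surj (A : GL (Fin 2) F) (s : F ≃+* F) : Function.Surjective (sg A s) := by
  intro g
  refine ⟨sg (gm s⁻¹ A⁻¹) s⁻¹ g, ?_⟩
  rw [sg_sg, mul_inv_cancel]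
  have : gm s (gm s⁻¹ A⁻¹) = A⁻¹ := by
    apply Units.ext; rw [gm_val, gm_val]; ext i j; simp
  rw [this, mul_inv_cancel, sg_one]

theorem sg_trace (A : GL (Fin 2) F) (s : F ≃+* F) (g : SL(2, F)) :
    (sg A s g).1 0 0 + (sg A s g).1 1 1 = s (g.1 0 0 + g.1 1 1) := by
  rw [← trace_fin_two, sg_val, trace_mul_cycle, Units.inv_mul, Matrix.one_mul, trace_fin_two]
  simp

/-- `π` has image `K` and kernel `±1`. -/
structure PH (π : SL(2, F) →* G) (K : Subgroup G) : Prop where
  rng : ∀ x, x ∈ K ↔ ∃ g, π g = x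
  ker : ∀ g, π g = 1 ↔ g = 1 ∨ g = -1

variable {π ρ : SL(2, F) →* G} {K : Subgroup G}

theorem PH.eq_iff (h : PH π K) {a b : SL(2, F)} : π a = π b ↔ a = b ∨ a = -b := by
  rw [← mul_inv_eq_one, ← map_inv, ← map_mul, h.ker, mul_inv_eq_one, mul_inv_eq_iff_eq_mul,
    neg_one_mul]

theorem PH.neg (h : PH π K) (a : SL(2, F)) : π (-a) = π a := h.eq_iff.2 (Or.inr rfl)

theorem PH.mem (h : PH π K) (a : SL(2, F)) : π a ∈ K := (h.rng _).2 ⟨a, rfl⟩

theorem PH.comp (h : PH π K) (A : GL (Fin 2) F) (s : F ≃+* F) : PH (π.comp (sg A s)) K := by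
  refine ⟨fun x => ?_, fun g => ?_⟩
  · rw [h.rng]
    constructor
    · rintro ⟨g, rfl⟩
      obtain ⟨g', rfl⟩ := sg_surj A s g
      exact ⟨g', rfl⟩
    · rintro ⟨g, rfl⟩; exact ⟨_, rfl⟩
  · rw [MonoidHom.comp_apply, h.ker]
    have e1 : sg A s g = 1 ↔ g = 1 := by
      rw [← (sg_inj A s).eq_iff (a := g), map_one]
    have e2 : sg A s g = -1 ↔ g = -1 := by
      rw [← (sg_inj A s).eq_iff (a := g), sg_neg, map_one]
    rw [e1, e2]

/-- upper and lower root elements. -/
def X (c : F) : SL(2, F) := sl2mk 1 c 0 1 (by ring)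
def Y (c : F) : SL(2, F) := sl2mk 1 0 c 1 (by ring)

@[simp] theorem X00 (c : F) : (X c).1 0 0 = 1 := rfl
@[simp] theorem X01 (c : F) : (X c).1 0 1 = c := rfl
@[simp] theorem X10 (c : F) : (X c).1 1 0 = 0 := rfl
@[simp] theorem X11 (c : F) : (X c).1 1 1 = 1 := rfl
@[simp] theorem Y00 (c : F) : (Y c).1 0 0 = 1 := rfl
@[simp] theorem Y01 (c : F) : (Y c).1 0 1 = 0 := rfl
@[simp] theorem Y10 (c : F) : (Y c).1 1 0 = c := rfl
@[simp] theorem Y11 (c : F) : (Y c).1 1 1 = 1 := rfl

theorem neg_ap (g : SL(2, F)) (i j : Fin 2) : (-g).1 i j = - g.1 i j := rfl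

theorem X_add (a b : F) : X (a + b) = X a * X b := by
  apply sl2_ext <;> simp [sl2_mul, add_comm]
theorem Y_add (a b : F) : Y (a + b) = Y a * Y b := by
  apply sl2_ext <;> simp [sl2_mul, add_comm]
theorem X_zero : X (0 : F) = 1 := by apply sl2_ext <;> simp
theorem Y_zero : Y (0 : F) = 1 := by apply sl2_ext <;> simp
theorem X_pow (a : F) (n : ℕ) : X a ^ n = X (n * a) := by
  induction n with
  | zero => simp [X_zero]
  | succ n ih => rw [pow_succ, ih, ← X_add]; congr 1; push_cast; ring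
theorem Y_pow (a : F) (n : ℕ) : Y a ^ n = Y (n * a) := by
  induction n with
  | zero => simp [Y_zero]
  | succ n ih => rw [pow_succ, ih, ← Y_add]; congr 1; push_cast; ring

theorem hom_ext_XY {φ ψ : SL(2, F) →* G} (hx : ∀ c, φ (X c) = ψ (X c))
    (hy : ∀ c, φ (Y c) = ψ (Y c)) (g : SL(2, F)) : φ g = ψ g := by
  have key : ∀ g : SL(2, F), g.1 1 0 ≠ 0 → φ g = ψ g := by
    intro g hc
    have hd := sl2_det g
    have : g = X ((g.1 0 0 - 1) / g.1 1 0) * Y (g.1 1 0) * X ((g.1 1 1 - 1) / g.1 1 0) := by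
      apply sl2_ext <;> simp only [sl2_mul, X00, X01, X10, X11, Y00, Y01, Y10, Y11] <;> field_simp
      · ring
      · linear_combination -hd
      · ring
      · ring
    rw [this, map_mul, map_mul, map_mul, map_mul, hx, hx, hy]
  by_cases hc : g.1 1 0 = 0
  · have h0 : g.1 0 0 ≠ 0 := by
      intro h0; have hd := sl2_det g; rw [hc, h0] at hd; simp at hd
    have := key (Y 1 * g) (by simp [sl2_mul, hc, h0])
    rw [map_mul, map_mul, hy] at this
    exact mul_left_cancel this
  · exact key g hc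

theorem PH.X_inj (h : PH π K) (h2 : (2 : F) ≠ 0) {a b : F} (e : π (X a) = π (X b)) : a = b := by
  rcases h.eq_iff.1 e with e | e
  · simpa using congrArg (fun g : SL(2, F) => g.1 0 1) e
  · have := congrArg (fun g : SL(2, F) => g.1 0 0) e
    simp only [neg_ap, X00] at this
    exact absurd (by linear_combination this) h2

theorem PH.Y_inj (h : PH π K) (h2 : (2 : F) ≠ 0) {a b : F} (e : π (Y a) = π (Y b)) : a = b := by
  rcases h.eq_iff.1 e with e | e
  · simpa using congrArg (fun g : SL(2, F) => g.1 1 0) e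
  · have := congrArg (fun g : SL(2, F) => g.1 0 0) e
    simp only [neg_ap, Y00] at this
    exact absurd (by linear_combination this) h2

theorem PH.cent_X (h : PH π K) (h2 : (2 : F) ≠ 0) {g : SL(2, F)}
    (e : π g * π (X 1) = π (X 1) * π g) : ∃ c, π g = π (X c) := by
  rw [← map_mul, ← map_mul, h.eq_iff] at e
  have hd := sl2_det g
  rcases e with e | e
  · rw [sl2_eq_iff] at e
    simp only [sl2_mul, X00, X01, X10, X11] at e
    obtain ⟨e1, e2, -, -⟩ := e
    have h10 : g.1 1 0 = 0 := by linear_combination -e1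
    have h01 : g.1 1 1 = g.1 0 0 := by linear_combination -e2
    rw [h10, h01] at hd
    have : (g.1 0 0 - 1) * (g.1 0 0 + 1) = 0 := by linear_combination hd
    rcases mul_eq_zero.1 this with h0 | h0
    · refine ⟨g.1 0 1, h.eq_iff.2 (Or.inl ?_)⟩
      apply sl2_ext <;> simp only [X00, X01, X10, X11, h10, h01] <;> linear_combination h0
    · refine ⟨-g.1 0 1, h.eq_iff.2 (Or.inr ?_)⟩
      apply sl2_ext <;> simp only [neg_ap, X00, X01, X10, X11, h10, h01, neg_neg, neg_zero] <;>
        linear_combination h0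
  · rw [sl2_eq_iff] at e
    simp only [sl2_mul, neg_ap, X00, X01, X10, X11] at e
    obtain ⟨e1, -, e3, -⟩ := e
    have h10 : g.1 1 0 = 0 := by
      apply mul_left_cancel₀ h2; linear_combination e3
    have h00 : g.1 0 0 = 0 := by
      apply mul_left_cancel₀ h2; linear_combination e1 - h10
    rw [h10, h00] at hd; simp at hd

theorem PH.cent_Y (h : PH π K) (h2 : (2 : F) ≠ 0) {g : SL(2, F)} {b : F} (hb : b ≠ 0)
    (e : π g * π (Y b) = π (Y b) * π g) : ∃ c, π g = π (Y c) := by
  rw [← map_mul, ← map_mul, h.eq_iff] at e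
  have hd := sl2_det g
  rcases e with e | e
  · rw [sl2_eq_iff] at e
    simp only [sl2_mul, Y00, Y01, Y10, Y11] at e
    obtain ⟨e1, -, e3, -⟩ := e
    have h10 : g.1 0 1 = 0 := by
      apply mul_left_cancel₀ hb; linear_combination e1
    have h01 : g.1 1 1 = g.1 0 0 := by
      apply mul_left_cancel₀ hb; linear_combination e3
    rw [h10, h01] at hd
    have : (g.1 0 0 - 1) * (g.1 0 0 + 1) = 0 := by linear_combination hd
    rcases mul_eq_zero.1 this with h0 | h0
    · refine ⟨g.1 1 0, h.eq_iff.2 (Or.inl ?_)⟩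
      apply sl2_ext <;> simp only [Y00, Y01, Y10, Y11, h10, h01] <;> linear_combination h0
    · refine ⟨-g.1 1 0, h.eq_iff.2 (Or.inr ?_)⟩
      apply sl2_ext <;> simp only [neg_ap, Y00, Y01, Y10, Y11, h10, h01, neg_neg, neg_zero] <;>
        linear_combination h0
  · rw [sl2_eq_iff] at e
    simp only [sl2_mul, neg_ap, Y00, Y01, Y10, Y11] at e
    obtain ⟨e1, e2, -, -⟩ := e
    have h10 : g.1 0 1 = 0 := by
      apply mul_left_cancel₀ h2; linear_combination e2
    have h00 : g.1 0 0 = 0 := by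
      apply mul_left_cancel₀ h2; linear_combination e1 - b * h10
    rw [h10, h00] at hd; simp at hd

theorem PH.braid (h : PH π K) (h2 : (2 : F) ≠ 0) {c d : F} (hc : c ≠ 0) :
    π (X c) * π (Y d) * π (X c) = π (Y d) * π (X c) * π (Y d) ↔ c * d = -1 := by
  rw [← map_mul, ← map_mul, ← map_mul, ← map_mul, h.eq_iff]
  constructor
  · rintro (e | e)
    · rw [sl2_eq_iff] at e
      simp only [sl2_mul, X00, X01, X10, X11, Y00, Y01, Y10, Y11] at e
      apply mul_left_cancel₀ hc; linear_combination e.2.1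
    · rw [sl2_eq_iff] at e
      simp only [sl2_mul, neg_ap, X00, X01, X10, X11, Y00, Y01, Y10, Y11] at e
      apply mul_left_cancel₀ h2; linear_combination e.1
  · intro e
    left
    apply sl2_ext <;> simp only [sl2_mul, X00, X01, X10, X11, Y00, Y01, Y10, Y11]
    · ring
    · linear_combination c * e
    · linear_combination -d * e
    · ring

/-- Hua's theorem, commutative case. -/
theorem hua (h2 : (2 : F) ≠ 0) (f : F →+ F) (h1 : f 1 = 1) (hi : ∀ c, c ≠ 0 → f c * f c⁻¹ = 1)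
    (a b : F) : f (a * b) = f a * f b := by
  have sq : ∀ c, f (c * c) = f c * f c := by
    intro c
    by_cases hc : c = 0
    · simp [hc]
    by_cases hc1 : c + 1 = 0
    · have : c = -1 := by linear_combination hc1
      subst this; simp [h1]
    have e1 := hi c hc
    have e2 := hi (c + 1) hc1
    have e3 := hi (c * c + c) (by
      have : c * c + c = c * (c + 1) := by ring
      rw [this]; exact mul_ne_zero hc hc1)
    have e4 : (c * c + c)⁻¹ = c⁻¹ - (c + 1)⁻¹ := by
      have : c * c + c = c * (c + 1) := by ring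
      rw [this]; field_simp; ring
    rw [e4, map_sub, map_add] at e3
    rw [map_add, h1] at e2
    linear_combination (f c * (f c + 1)) * e3 - (f (c * c) + f c) * (f c + 1) * e1
      + (f (c * c) + f c) * f c * e2
  have e := sq (a + b)
  have e' : (a + b) * (a + b) = a * a + b * b + (a * b + a * b) := by ring
  rw [e', map_add, map_add, map_add, map_add, sq, sq] at e
  apply mul_left_cancel₀ h2
  linear_combination e

theorem core1 [Finite F] (h2 : (2 : F) ≠ 0) (hπ : PH π K) (hρ : PH ρ K) {b : F} (hb : b ≠ 0)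
    (hx : ρ (X 1) = π (X 1)) (hy : ρ (Y 1) = π (Y b)) :
    ∃ s : F ≃+* F, ∀ g, ρ g = π (sg 1 s g) := by
  have ex : ∀ c, ∃ c', ρ (X c) = π (X c') := by
    intro c
    obtain ⟨g, hg⟩ := (hπ.rng _).1 (hρ.mem (X c))
    rw [← hg]
    apply hπ.cent_X h2
    rw [hg, ← hx, ← map_mul, ← map_mul, ← X_add, ← X_add, add_comm]
  have ey : ∀ c, ∃ c', ρ (Y c) = π (Y c') := by
    intro c
    obtain ⟨g, hg⟩ := (hπ.rng _).1 (hρ.mem (Y c))
    rw [← hg]
    apply hπ.cent_Y h2 hb
    rw [hg, ← hy, ← map_mul, ← map_mul, ← Y_add, ← Y_add, add_comm]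
  choose f hf using ex
  choose f' hf' using ey
  have fadd : ∀ a c, f (a + c) = f a + f c := fun a c => by
    apply hπ.X_inj h2
    rw [← hf, X_add, X_add, map_mul, map_mul, hf, hf]
  have fadd' : ∀ a c, f' (a + c) = f' a + f' c := fun a c => by
    apply hπ.Y_inj h2
    rw [← hf', Y_add, Y_add, map_mul, map_mul, hf', hf']
  let φ : F →+ F := AddMonoidHom.mk' f fadd
  let φ' : F →+ F := AddMonoidHom.mk' f' fadd'
  have f1 : f 1 = 1 := hπ.X_inj h2 (by rw [← hf, hx])
  have fne : ∀ c, c ≠ 0 → f c ≠ 0 := fun c hc h0 => by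
    have := hf c
    rw [h0, X_zero, map_one, ← ρ.map_one, ← X_zero] at this
    exact hc (hρ.X_inj h2 this)
  have rel : ∀ c, c ≠ 0 → f c * f' c⁻¹ = 1 := fun c hc => by
    have e := (hρ.braid h2 hc (d := -c⁻¹)).2 (by field_simp)
    rw [hf, hf', hπ.braid h2 (fne c hc)] at e
    have : f' (-c⁻¹) = - f' c⁻¹ := map_neg φ' _
    rw [this] at e
    linear_combination -e
  have f1' : f' 1 = 1 := by
    have := rel 1 one_ne_zero
    rwa [f1, inv_one, one_mul] at this
  have fm1' : f' (-1) = -1 := by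
    have : f' (-1) = - f' 1 := map_neg φ' _
    rw [this, f1']
  have hw : ρ (X 1 * Y (-1) * X 1) = π (X 1 * Y (-1) * X 1) := by
    simp only [map_mul, hf, hf', f1, fm1']
  have wrel : ∀ c : F, (X 1 * Y (-1) * X 1) * Y (-c) = X c * (X 1 * Y (-1) * X 1) := by
    intro c
    apply sl2_ext <;> simp only [sl2_mul, X00, X01, X10, X11, Y00, Y01, Y10, Y11] <;> ring
  have ff : ∀ c, f' c = f c := by
    intro c
    have e := congrArg ρ (wrel (-c))
    rw [map_mul ρ _ (Y _), map_mul ρ (X (-c)), hw, hf, hf', neg_neg, ← map_mul π (X _), ← wrel,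
      map_mul π _ (Y _)] at e
    have := hπ.Y_inj h2 (mul_left_cancel e)
    rw [this]
    have : f (-c) = - f c := map_neg φ _
    rw [this, neg_neg]
  have fmul : ∀ a c, f (a * c) = f a * f c :=
    hua h2 φ f1 (fun c hc => by have := rel c hc; rwa [ff] at this)
  let r : F →+* F := { φ with map_one' := f1, map_mul' := fmul }
  let s : F ≃+* F := RingEquiv.ofBijective r (Finite.injective_iff_bijective.1 r.injective)
  have hs : ∀ c, s c = f c := fun c => rfl
  refine ⟨s, hom_ext_XY (φ := ρ) (ψ := π.comp (sg 1 s)) (fun c => ?_) (fun c => ?_)⟩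
  · rw [hf, MonoidHom.comp_apply]
    congr 1; symm
    rw [sg_eq_iff]
    ext i j; fin_cases i <;> fin_cases j <;> simp [← hs]
  · rw [hf', MonoidHom.comp_apply, ff]
    congr 1; symm
    rw [sg_eq_iff]
    ext i j; fin_cases i <;> fin_cases j <;> simp [← hs]

theorem PH.unip [Fintype F] (hF : Odd (Fintype.card F)) (hπ : PH π K) {x : G} (hx : x ∈ K)
    (hp : x ^ ringChar F = 1) : ∃ u, π u = x ∧ u.1 0 0 + u.1 1 1 = 2 := by
  have h2 := two_ne_zero_of_odd_card hF
  obtain ⟨g, rfl⟩ := (hπ.rng _).1 hx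
  have hpr : (ringChar F).Prime := CharP.char_is_prime F _
  have := Fact.mk hpr
  have hodd : Odd (ringChar F) := by
    apply hpr.odd_of_ne_two
    intro e
    apply h2
    have := ringChar.Nat.cast_ringChar (R := F)
    rw [e] at this; exact_mod_cast this
  have key : ∀ u : SL(2, F), u ^ ringChar F = 1 → u.1 0 0 + u.1 1 1 = 2 := by
    intro u hu
    have e : (u.1 - 1) ^ ringChar F = 0 := by
      rw [sub_pow_char_of_commute _ (Commute.one_right _), one_pow, sub_eq_zero]
      exact congrArg Subtype.val hu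
    have e2 : (u.1 - 1).det = 0 := by
      have := congrArg det e
      rw [det_pow, det_zero] at this
      exact pow_eq_zero_iff hpr.ne_zero |>.1 this
    rw [det_fin_two] at e2
    simp at e2
    linear_combination sl2_det u - e2
  rw [← map_pow, hπ.ker] at hp
  rcases hp with hp | hp
  · exact ⟨g, rfl, key g hp⟩
  · refine ⟨-g, hπ.neg g, key _ ?_⟩
    rw [hodd.neg_pow, hp, neg_neg]

theorem conj_X {u : SL(2, F)} (ht : u.1 0 0 + u.1 1 1 = 2) (h1 : u ≠ 1) :
    ∃ B : GL (Fin 2) F, sg B 1 (X 1) = u := by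
  have hd := sl2_det u
  by_cases hc : u.1 1 0 = 0
  · have h0 : u.1 0 0 = 1 := by
      have : (u.1 0 0 - 1) ^ 2 = 0 := by
        linear_combination (u.1 0 0) * ht - hd - u.1 0 1 * hc
      linear_combination pow_eq_zero_iff two_ne_zero |>.1 this
    have h11 : u.1 1 1 = 1 := by linear_combination ht - h0
    have hb : u.1 0 1 ≠ 0 := fun hb => h1 (by apply sl2_ext <;> simp [*])
    refine ⟨gl2mk (u.1 0 1) 0 0 1 (by simpa using hb), ?_⟩
    rw [sg_eq_iff]
    ext i j; fin_cases i <;> fin_cases j <;>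
      simp [Matrix.mul_apply, Fin.sum_univ_two, hc, h0, h11]
  · refine ⟨gl2mk (u.1 0 0 - 1) 1 (u.1 1 0) 0 (by simpa using hc), ?_⟩
    rw [sg_eq_iff]
    ext i j; fin_cases i <;> fin_cases j <;>
      simp [Matrix.mul_apply, Fin.sum_univ_two]
    · linear_combination hd - u.1 0 0 * ht
    · linear_combination - u.1 1 0 * ht

/-- Two parametrisations of `PSL₂(F)` differ by a semilinear map. -/
theorem core [Fintype F] (hF : Odd (Fintype.card F)) (hπ : PH π K) (hρ : PH ρ K) :
    ∃ (A : GL (Fin 2) F) (s : F ≃+* F), ∀ g, ρ g = π (sg A s g) := by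
  have h2 := two_ne_zero_of_odd_card hF
  obtain ⟨u, hu, htu⟩ := hπ.unip hF (hρ.mem (X 1)) (by
    rw [← map_pow, X_pow, ringChar.Nat.cast_ringChar, zero_mul, X_zero, map_one])
  obtain ⟨B, rfl⟩ := conj_X htu (by
    rintro rfl
    rw [map_one, ← ρ.map_one, ← X_zero] at hu
    exact zero_ne_one (hρ.X_inj h2 hu))
  have hπ1 := hπ.comp B 1
  obtain ⟨v, hv, htv⟩ := hπ1.unip hF (hρ.mem (Y 1)) (by
    rw [← map_pow, Y_pow, ringChar.Nat.cast_ringChar, zero_mul, Y_zero, map_one])
  have hd := sl2_det v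
  have hc : v.1 1 0 ≠ 0 := by
    intro hc
    have h0 : v.1 0 0 = 1 := by
      have : (v.1 0 0 - 1) ^ 2 = 0 := by
        linear_combination (v.1 0 0) * htv - hd - v.1 0 1 * hc
      linear_combination pow_eq_zero_iff two_ne_zero |>.1 this
    have h11 : v.1 1 1 = 1 := by linear_combination htv - h0
    have hvX : v = X (v.1 0 1) := by apply sl2_ext <;> simp [*]
    have : ρ (Y 1) * ρ (X 1) = ρ (X 1) * ρ (Y 1) := by
      rw [← hv, ← hu, hvX, ← MonoidHom.comp_apply π (sg B 1) (X 1), ← map_mul, ← map_mul,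
        ← X_add, ← X_add, add_comm]
    obtain ⟨c, hc⟩ := hρ.cent_X h2 this
    rcases hρ.eq_iff.1 hc with e | e
    · simpa using congrArg (fun g : SL(2, F) => g.1 1 0) e
    · simpa [neg_ap] using congrArg (fun g : SL(2, F) => g.1 1 0) e
  let C : GL (Fin 2) F := gl2mk 1 ((v.1 0 0 - 1) / v.1 1 0) 0 1 (by simp)
  have hπ2 := hπ1.comp C 1
  have e1 : sg C 1 (X 1) = X 1 := by
    rw [sg_eq_iff]
    ext i j; fin_cases i <;> fin_cases j <;>
      simp [C, Matrix.mul_apply, Fin.sum_univ_two, add_comm]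
  have e2 : sg C 1 (Y (v.1 1 0)) = v := by
    rw [sg_eq_iff]
    ext i j; fin_cases i <;> fin_cases j <;>
      simp [C, Matrix.mul_apply, Fin.sum_univ_two] <;> field_simp
    · ring
    · linear_combination hd - v.1 0 0 * htv
    · linear_combination -htv
  obtain ⟨s, hs⟩ := core1 h2 hπ2 hρ hc
    (by rw [MonoidHom.comp_apply, e1, ← hu]; rfl) (by rw [MonoidHom.comp_apply, e2, hv])
  refine ⟨B * C, s, fun g => ?_⟩
  rw [hs, MonoidHom.comp_apply, MonoidHom.comp_apply, sg_sg, sg_sg]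
  simp only [gm_one, mul_one, one_mul]

end Cfsg.Agent.GWP
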