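import Cfsg.Agent.GW.P1

/-! Elements of `G ≤ Aut PSL₂(F)` as semilinear maps. -/

set_option autoImplicit false
set_option linter.unusedSectionVars false
set_option linter.unusedVariables false

namespace Cfsg.Agent.GWP

open Matrix Cfsg.Agent.Cl
open scoped MatrixGroups

universe u
variable {F : Type} [Field F] {G : Type u} [Group G]

structure PS (π : SL(2, F) →* G) (K : Subgroup G) : Prop extends PH π K where
  nrm : K.Normal
  cent : Subgroup.centralizer (K : Set G) = ⊥

/-- `x` acts as `(A, s)`. -/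
def Act (π : SL(2, F) →* G) (x : G) (A : GL (Fin 2) F) (s : F ≃+* F) : Prop :=
  ∀ g, x * π g * x⁻¹ = π (sg A s g)

variable {π : SL(2, F) →* G} {K : Subgroup G} {x y z : G} {A B : GL (Fin 2) F} {s t : F ≃+* F}

theorem PS.comp (h : PS π K) (A : GL (Fin 2) F) (s : F ≃+* F) : PS (π.comp (sg A s)) K :=
  ⟨h.toPH.comp A s, h.nrm, h.cent⟩

theorem PS.exists_act [Fintype F] (hF : Odd (Fintype.card F)) (h : PS π K) (x : G) :
    ∃ A s, Act π x A s := by
  have hρ : PH ((MulAut.conj x).toMonoidHom.comp π) K := by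
    refine ⟨fun y => ?_, fun g => ?_⟩
    · constructor
      · intro hy
        obtain ⟨g, hg⟩ := (h.rng _).1 (h.nrm.conj_mem' y hy x)
        exact ⟨g, by simp [hg, mul_assoc]⟩
      · rintro ⟨g, rfl⟩
        exact h.nrm.conj_mem _ (h.mem g) x
    · rw [← h.ker]; simp
  exact core hF h.toPH hρ

theorem Act.mul (h1 : Act π x A s) (h2 : Act π y B t) : Act π (x * y) (A * gm s B) (s * t) := by
  intro g
  rw [← sg_sg, ← h1, ← h2]; group

theorem Act.of (π : SL(2, F) →* G) (g : SL(2, F)) : Act π (π g) (SpecialLinearGroup.toGL g) 1 := by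
  intro h
  rw [← map_inv, ← map_mul, ← map_mul]
  refine congrArg π (Eq.symm ?_)
  rw [sg_eq_iff]
  show (g * h).1 = (g * h * g⁻¹ * g).1
  rw [inv_mul_cancel_right]

theorem Act.one (π : SL(2, F) →* G) : Act π 1 1 1 := by
  intro g; rw [sg_one]; simp

theorem Act.pow (h : Act π x A s) (n : ℕ) : ∃ B, Act π (x ^ n) B (s ^ n) := by
  induction n with
  | zero => exact ⟨1, by simpa using Act.one π⟩
  | succ n ih =>
    obtain ⟨B, hB⟩ := ih
    exact ⟨_, by rw [pow_succ, pow_succ]; exact hB.mul h⟩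

theorem sg_smul {c : F} (e : B.1 = c • A.1) (g : SL(2, F)) : sg B s g = sg A s g := by
  rw [sg_eq_iff, e, Matrix.smul_mul, Matrix.mul_smul, sg_eq_iff.1 rfl]

theorem Act.smul (h : Act π x A s) {c : F} (e : B.1 = c • A.1) : Act π x B s := by
  intro g; rw [sg_smul e, h]

theorem Act.eq (h : PS π K) (h1 : Act π x A s) (h2 : Act π y A s) : x = y := by
  have : y⁻¹ * x ∈ Subgroup.centralizer (K : Set G) := by
    rw [Subgroup.mem_centralizer_iff]
    intro k hk
    obtain ⟨g, rfl⟩ := (h.rng _).1 hk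
    have := (h1 g).trans (h2 g).symm
    calc π g * (y⁻¹ * x) = y⁻¹ * (y * π g * y⁻¹) * x := by group
      _ = y⁻¹ * (x * π g * x⁻¹) * x := by rw [this]
      _ = _ := by group
  rw [h.cent, Subgroup.mem_bot, inv_mul_eq_one] at this
  exact this.symm

theorem sg_one_X (c : F) : sg 1 t (X c) = X (t c) := by
  rw [sg_eq_iff]
  ext i j; fin_cases i <;> fin_cases j <;> simp
theorem sg_one_Y (c : F) : sg 1 t (Y c) = Y (t c) := by
  rw [sg_eq_iff]
  ext i j; fin_cases i <;> fin_cases j <;> simp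

theorem Act.uniq (h : PH π K) (h2 : (2 : F) ≠ 0) (h1 : Act π x A s) (h1' : Act π x B t) :
    s = t ∧ ∃ c : F, c ≠ 0 ∧ A.1 = c • B.1 := by
  have key : ∀ g : SL(2, F), g.1 0 0 + g.1 1 1 = 2 → sg (B⁻¹ * A) s g = sg 1 t g := by
    intro g hg
    have e := (h1 g).symm.trans (h1' g)
    rcases h.eq_iff.1 e with e | e
    · have := congrArg (sg B⁻¹ 1) e
      simpa only [sg_sg, gm_one, one_mul, inv_mul_cancel] using this
    · have e1 := sg_trace A s g
      have e2 := sg_trace B t g
      rw [e, neg_ap, neg_ap, hg, map_ofNat] at e1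
      rw [hg, map_ofNat] at e2
      exact absurd (by linear_combination -e1 - e2) (mul_ne_zero h2 h2)
  set C := B⁻¹ * A with hC
  have eX : ∀ c : F, C.1 * (X c).1.map s = (X (t c)).1 * C.1 := fun c => by
    rw [← sg_eq_iff, key _ (by simp; norm_num), sg_one_X]
  have eY : C.1 * (Y 1).1.map s = (Y (t 1)).1 * C.1 := by
    rw [← sg_eq_iff, key _ (by simp; norm_num), sg_one_Y]
  have a1 := congrFun (congrFun (eX 1) 0) 0
  have a2 := congrFun (congrFun (eX 1) 0) 1
  have a3 := congrFun (congrFun eY 0) 0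
  simp [Matrix.mul_apply, Fin.sum_univ_two] at a1 a2 a3
  have a4 : C.1 1 1 = C.1 0 0 := by linear_combination -a2
  have hc : C.1 0 0 ≠ 0 := by
    have := gl2_det C
    rw [a1, a4] at this
    intro h0; rw [h0] at this; simp at this
  refine ⟨?_, C.1 0 0, hc, ?_⟩
  · ext c
    have a5 := congrFun (congrFun (eX c) 0) 1
    simp [Matrix.mul_apply, Fin.sum_univ_two, a3, a4] at a5
    apply mul_left_cancel₀ hc; linear_combination a5
  · have e : C.1 = C.1 0 0 • (1 : Matrix (Fin 2) (Fin 2) F) := by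
      ext i j; fin_cases i <;> fin_cases j <;> simp [a1, a3, a4]
    have : A.1 = B.1 * C.1 := by rw [← Units.val_mul, hC, mul_inv_cancel_left]
    rw [this]
    conv_lhs => rw [e]
    simp

theorem det_ne (A : GL (Fin 2) F) : A.1.det ≠ 0 := (GeneralLinearGroup.det_ne_zero A)

theorem Act.mem (h : PS π K) (h1 : Act π x A 1) (hs : IsSquare A.1.det) : x ∈ K := by
  obtain ⟨d, hd⟩ := hs
  have hd0 : d ≠ 0 := by rintro rfl; exact det_ne A (by simpa using hd)
  let g : SL(2, F) := ⟨d⁻¹ • A.1, by rw [det_smul, hd]; simp; field_simp⟩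
  have : x = π g := Act.eq h (h1.smul (c := d⁻¹) rfl) (Act.of π g)
  rw [this]; exact h.mem g

theorem Act.of_mem (h : PH π K) (h2 : (2 : F) ≠ 0) (h1 : Act π x A s) (hx : x ∈ K) :
    s = 1 ∧ IsSquare A.1.det := by
  obtain ⟨g, rfl⟩ := (h.rng _).1 hx
  obtain ⟨e, c, hc, e'⟩ := Act.uniq h h2 h1 (Act.of π g)
  refine ⟨e, c, ?_⟩
  rw [e', det_smul]
  have : (SpecialLinearGroup.toGL g).1.det = 1 := g.2
  rw [this]; simp; ring

theorem det_gm (s : F ≃+* F) (B : GL (Fin 2) F) : (gm s B).1.det = s B.1.det :=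
  ((s : F →+* F).map_det B.1).symm

theorem Act.mul_inv_mem (h : PS π K) (h1 : Act π x A s) (h2 : Act π y B s)
    (hs : IsSquare (A.1.det * B.1.det)) : x * y⁻¹ ∈ K := by
  apply Act.mem h (A := A * B⁻¹)
  · intro g
    obtain ⟨g, rfl⟩ := sg_surj B s g
    rw [← h2, sg_sg, gm_one, inv_mul_cancel_right, one_mul, ← h1]; group
  · obtain ⟨d, hd⟩ := hs
    have hB := det_ne B
    refine ⟨d / B.1.det, ?_⟩
    have e : B⁻¹.1.det * B.1.det = 1 := by rw [← det_mul, Units.inv_mul, det_one]
    rw [Units.val_mul, det_mul]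
    field_simp
    linear_combination hd + A.1.det * B.1.det * e

section fin
variable [Fintype F]

theorem sq_mul_of_not {a b : F} (ha : ¬ IsSquare a) (hb : ¬ IsSquare b) : IsSquare (a * b) := by
  classical
  rw [← quadraticChar_neg_one_iff_not_isSquare] at ha hb
  by_cases h0 : a * b = 0
  · rw [h0]; exact IsSquare.zero
  · rw [← quadraticChar_one_iff_isSquare h0, map_mul, ha, hb]; norm_num

theorem sq_norm (s : F ≃+* F) (a : F) : IsSquare (a * s a) := by
  by_cases ha : IsSquare a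
  · exact ha.mul (ha.map s)
  · refine sq_mul_of_not ha fun hs => ha ?_
    simpa using hs.map s.symm

theorem aut_comm (s t : F ≃+* F) : s * t = t * s := by
  obtain ⟨g, hg⟩ := IsCyclic.exists_monoid_generator (α := Fˣ)
  have key : ∀ s : F ≃+* F, ∃ k : ℕ, s g = g ^ k := fun s => by
    obtain ⟨k, hk⟩ := hg (Units.mk0 (s g) (by simp))
    exact ⟨k, by simpa using (congrArg Units.val hk).symm⟩
  obtain ⟨k, hk⟩ := key s
  obtain ⟨l, hl⟩ := key t
  ext a
  by_cases ha : a = 0
  · simp [ha]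
  obtain ⟨m, hm⟩ := hg (Units.mk0 a ha)
  have : a = g ^ m := by simpa using (congrArg Units.val hm).symm
  show s (t a) = t (s a)
  rw [this]
  simp only [map_pow, hk, hl, ← pow_mul]
  congr 1; ring

theorem PS.comm_le (hF : Odd (Fintype.card F)) (h : PS π K) :
    ⁅(⊤ : Subgroup G), (⊤ : Subgroup G)⁆ ≤ K := by
  rw [Subgroup.commutator_le]
  intro x _ y _
  obtain ⟨A, s, h1⟩ := h.exists_act hF x
  obtain ⟨B, t, h2⟩ := h.exists_act hF y
  have e1 := h1.mul h2
  have e2 := h2.mul h1
  rw [aut_comm t s] at e2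
  have := Act.mul_inv_mem h e1 e2 (by
    rw [Units.val_mul, Units.val_mul, det_mul, det_mul, det_gm, det_gm]
    have := (sq_norm t A.1.det).mul (sq_norm s B.1.det)
    rwa [show A.1.det * t A.1.det * (B.1.det * s B.1.det) =
      A.1.det * s B.1.det * (B.1.det * t A.1.det) by ring] at this)
  convert this using 1
  rw [commutatorElement_def]; group

/-- elements fixed by an automorphism of order two are squares. -/
theorem sq_of_fix (h2 : (2 : F) ≠ 0) (hs : s * s = 1) (hs1 : s ≠ 1) {c : F} (hc : s c = c) :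
    IsSquare c := by
  classical
  obtain ⟨b, hb⟩ : ∃ b, s b ≠ b := by
    by_contra hn; push Not at hn; exact hs1 (RingEquiv.ext hn)
  have ss : ∀ a, s (s a) = a := fun a => congrArg (fun r : F ≃+* F => r a) hs
  set θ := s b - b with hθ
  have hθ0 : θ ≠ 0 := sub_ne_zero.2 hb
  have hθs : s θ = -θ := by rw [hθ, map_sub, ss]; ring
  let F0 : Subfield F := RingHom.eqLocusField (s : F →+* F) (RingHom.id F)
  have mem : ∀ a, a ∈ F0 ↔ s a = a := fun a => Iff.rfl
  have : Fintype F0 := Fintype.ofFinite _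
  let c0 : F0 := ⟨c, (mem _).2 hc⟩
  let u0 : F0 := ⟨θ * θ, (mem _).2 (by rw [map_mul, hθs]; ring)⟩
  by_cases h0 : IsSquare c0
  · exact h0.map F0.subtype
  have hu : ¬ IsSquare u0 := by
    rintro ⟨r, hr⟩
    have hr' : θ * θ = r * r := congrArg Subtype.val hr
    have hrs : s r = r := (mem _).1 r.2
    have : s θ = θ := by
      rcases mul_self_eq_mul_self_iff.1 hr' with e | e
      · rw [e, hrs]
      · rw [e, map_neg, hrs]
    rw [hθs] at this
    exact mul_ne_zero h2 hθ0 (by linear_combination -this)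
  obtain ⟨r, hr⟩ := sq_mul_of_not h0 hu
  have hr' : c * (θ * θ) = r * r := congrArg Subtype.val hr
  exact ⟨r / θ, by field_simp; linear_combination hr'⟩

theorem sq_of_norm_one (h2 : (2 : F) ≠ 0) (hs : s * s = 1) (hs1 : s ≠ 1) {a : F}
    (ha : a * s a = 1) : IsSquare a := by
  by_cases h1 : 1 + a = 0
  · apply sq_of_fix h2 hs hs1
    have : a = -1 := by linear_combination h1
    rw [this]; simp
  · obtain ⟨r, hr⟩ := sq_norm s (1 + a)
    have h1' : s (1 + a) ≠ 0 := (map_ne_zero s).2 h1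
    rw [map_add, map_one] at hr h1'
    exact ⟨r / (1 + s a), by field_simp; linear_combination hr + (1 + s a) * ha⟩

/-- If an involution induces a field automorphism, `G` has a subgroup `2³`. -/
theorem PS.cube (hF : Odd (Fintype.card F)) (h : PS π K) (hz : z * z = 1) (h1 : Act π z A s)
    (hs1 : s ≠ 1) : ∃ a ∈ K, ∃ b ∈ K, ∃ c, c ∉ K ∧ a * a = 1 ∧ b * b = 1 ∧ c * c = 1 ∧ a ≠ 1 ∧
      b ≠ 1 ∧ b ≠ a ∧ b * a = a * b ∧ a * c = c * a ∧ b * c = c * b := by
  have h2 := two_ne_zero_of_odd_card hF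
  obtain ⟨hs, c, hc, e⟩ := Act.uniq h.toPH h2 (hz ▸ h1.mul h1) (Act.one π)
  rw [Units.val_mul, gm_val, Units.val_one] at e
  have ss : ∀ a, s (s a) = a := fun a => congrArg (fun r : F ≃+* F => r a) hs
  have hcs : s c = c := by
    have e' := congrArg (fun M : Matrix (Fin 2) (Fin 2) F => M.map s) e
    simp only [Matrix.map_mul (f := s)] at e'
    have e3 : (A.1.map s).map s = A.1 := by ext i j; simp [ss]
    rw [e3] at e'
    have e4 : A.1 * (A.1.map s * A.1) = (A.1 * A.1.map s) * A.1 := by rw [Matrix.mul_assoc]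
    rw [e, e'] at e4
    have e5 : (c • (1 : Matrix (Fin 2) (Fin 2) F)).map s = s c • 1 := by
      ext i j; fin_cases i <;> fin_cases j <;> simp
    rw [e5] at e4
    simp only [Matrix.mul_smul, Matrix.smul_mul, Matrix.mul_one, Matrix.one_mul] at e4
    have e6 := congrArg (fun M => M * A⁻¹.1) e4
    simp only [Matrix.smul_mul, Units.mul_inv] at e6
    simpa using congrFun (congrFun e6 0) 0
  have hd : IsSquare A.1.det := by
    have e' := congrArg det e
    rw [det_mul, ← gm_val, det_gm, det_smul] at e'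
    simp only [Fintype.card_fin, det_one, mul_one] at e'
    have a1 : IsSquare (A.1.det / c) := sq_of_norm_one h2 hs hs1 (by
      rw [map_div₀, hcs]; field_simp; exact e')
    have := a1.mul (sq_of_fix h2 hs hs1 hcs)
    rwa [div_mul_cancel₀ _ hc] at this
  obtain ⟨d, hd⟩ := hd
  have hd0 : d ≠ 0 := by rintro rfl; exact det_ne A (by simpa using hd)
  let g : SL(2, F) := ⟨d⁻¹ • A.1, by rw [det_smul, hd]; simp; field_simp⟩
  have hc1 : Act π (π g⁻¹ * z) 1 s := by
    have := (Act.of π g⁻¹).mul (h1.smul (B := SpecialLinearGroup.toGL g) (c := d⁻¹) rfl)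
    rwa [gm_one, one_mul, ← map_mul, inv_mul_cancel, map_one] at this
  obtain ⟨i, hi⟩ : IsSquare (-1 : F) := sq_of_fix h2 hs hs1 (by simp)
  let w : SL(2, F) := sl2mk 0 1 (-1) 0 (by ring)
  let v : SL(2, F) := sl2mk i 0 0 (-i) (by linear_combination hi)
  have hi0 : i ≠ 0 := by rintro rfl; simp at hi
  refine ⟨π w, h.mem _, π v, h.mem _, π g⁻¹ * z, fun hm => hs1 (hc1.of_mem h.toPH h2 hm).1, ?_, ?_,
    ?_, ?_, ?_, ?_, ?_, ?_, ?_⟩
  · rw [← map_mul, h.ker]; right
    apply sl2_ext <;> simp [sl2_mul, w]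
  · rw [← map_mul, h.ker]; right
    apply sl2_ext <;> simp [sl2_mul, v, hi]
  · have := hc1.mul hc1
    rw [hs, one_mul] at this
    have e1 : gm s 1 = 1 := map_one _
    rw [e1] at this
    exact Act.eq h this (Act.one π)
  · rw [Ne, h.ker]
    rintro (e | e) <;> simpa [w, neg_ap] using congrArg (fun g : SL(2, F) => g.1 0 1) e
  · rw [Ne, h.ker]
    rintro (e | e)
    · have a := congrArg (fun g : SL(2, F) => g.1 0 0) e
      simp [v] at a; rw [a] at hi; exact h2 (by linear_combination -hi)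
    · have a := congrArg (fun g : SL(2, F) => g.1 0 0) e
      simp [v, neg_ap] at a; rw [a] at hi; exact h2 (by linear_combination -hi)
  · rw [Ne, h.eq_iff]
    rintro (e | e) <;> simpa [v, w, neg_ap] using congrArg (fun g : SL(2, F) => g.1 0 1) e
  · rw [← map_mul, ← map_mul, h.eq_iff]; right
    apply sl2_ext <;> simp [sl2_mul, v, w, neg_ap]
  · have := hc1 w
    rw [mul_inv_eq_iff_eq_mul] at this
    rw [this]; congr 2; symm
    rw [sg_eq_iff]
    ext i j; fin_cases i <;> fin_cases j <;> simp [w]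
  · have := hc1 v
    rw [mul_inv_eq_iff_eq_mul] at this
    rw [this]; congr 1
    rw [h.eq_iff]
    have hsi : s i * s i = i * i := by rw [← map_mul, ← hi]; simp
    rcases mul_self_eq_mul_self_iff.1 hsi with e | e
    · left; symm
      rw [sg_eq_iff]
      ext i j; fin_cases i <;> fin_cases j <;> simp [v, e]
    · right
      rw [← neg_eq_iff_eq_neg]; symm
      rw [sg_eq_iff]
      ext i j; fin_cases i <;> fin_cases j <;> simp [v, e, neg_ap]

end fin

end Cfsg.Agent.GWP
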