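import Cfsg.Agent.GW.P2

/-! The tori of `SL₂(F)`. -/

set_option autoImplicit false
set_option linter.unusedSectionVars false
set_option linter.unusedVariables false

namespace Cfsg.Agent.GWP

open Matrix Cfsg.Agent.Cl
open scoped MatrixGroups

universe u
variable {F : Type} [Field F] {G : Type u} [Group G]
variable {π : SL(2, F) →* G} {K : Subgroup G} {x y z : G} {A B : GL (Fin 2) F} {s t : F ≃+* F}
  {D : F} {g h : SL(2, F)}

noncomputable def Jm (D : F) (hD : D ≠ 0) : GL (Fin 2) F := gl2mk 0 D 1 0 (by simpa using hD)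

@[simp] theorem J00 (hD : D ≠ 0) : (Jm D hD).1 0 0 = 0 := rfl
@[simp] theorem J01 (hD : D ≠ 0) : (Jm D hD).1 0 1 = D := rfl
@[simp] theorem J10 (hD : D ≠ 0) : (Jm D hD).1 1 0 = 1 := rfl
@[simp] theorem J11 (hD : D ≠ 0) : (Jm D hD).1 1 1 = 0 := rfl

/-- the torus `{α + β J}`. -/
def Tt (D : F) : Subgroup SL(2, F) where
  carrier := {g | g.1 1 1 = g.1 0 0 ∧ g.1 0 1 = D * g.1 1 0}
  one_mem' := by simp
  mul_mem' := by
    rintro a b ⟨a1, a2⟩ ⟨b1, b2⟩
    constructor <;> simp only [sl2_mul, a1, a2, b1, b2] <;> ring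
  inv_mem' := by
    rintro a ⟨a1, a2⟩
    constructor <;> simp only [sl2_inv00, sl2_inv01, sl2_inv10, sl2_inv11, a1, a2]
    ring

theorem mem_Tt : g ∈ Tt D ↔ g.1 1 1 = g.1 0 0 ∧ g.1 0 1 = D * g.1 1 0 := Iff.rfl

/-- reflections. -/
def Rf (D : F) (g : SL(2, F)) : Prop := g.1 1 1 = - g.1 0 0 ∧ g.1 0 1 = - D * g.1 1 0

theorem Tt_det (hg : g ∈ Tt D) : g.1 0 0 ^ 2 - D * g.1 1 0 ^ 2 = 1 := by
  have := sl2_det g
  rw [hg.1, hg.2] at this; linear_combination this

theorem Rf.det (hg : Rf D g) : D * g.1 1 0 ^ 2 - g.1 0 0 ^ 2 = 1 := by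
  have := sl2_det g
  rw [hg.1, hg.2] at this; linear_combination this

theorem neg_mem_Tt (hg : g ∈ Tt D) : -g ∈ Tt D :=
  ⟨by rw [neg_ap, neg_ap, hg.1], by rw [neg_ap, neg_ap, hg.2]; ring⟩

theorem Rf.sq (hg : Rf D g) : g * g = -1 := by
  have := hg.det
  apply sl2_ext <;> simp only [sl2_mul, neg_ap, sl2_one00, sl2_one01, sl2_one10, sl2_one11, hg.1,
    hg.2]
  · linear_combination -this
  · ring
  · ring
  · linear_combination -this

theorem Rf.mul (hg : Rf D g) (hh : Rf D h) : g * h ∈ Tt D := by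
  constructor <;> simp only [sl2_mul, hg.1, hg.2, hh.1, hh.2] <;> ring

theorem Rf.mul_Tt (hg : Rf D g) (hh : h ∈ Tt D) : Rf D (g * h) := by
  constructor <;> simp only [sl2_mul, hg.1, hg.2, hh.1, hh.2] <;> ring

theorem Rf.not_mem (h2 : (2 : F) ≠ 0) (hD : D ≠ 0) (hg : Rf D g) : g ∉ Tt D := by
  intro h
  have a : g.1 0 0 = 0 := by apply mul_left_cancel₀ h2; linear_combination hg.1 - h.1
  have b : g.1 1 0 = 0 := by
    apply mul_left_cancel₀ (mul_ne_zero h2 hD); linear_combination hg.2 - h.2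
  have := hg.det
  rw [a, b] at this; simp at this

theorem map_one' (M : Matrix (Fin 2) (Fin 2) F) : M.map (1 : F ≃+* F) = M := rfl

theorem sgJ_eq (hD : D ≠ 0) : sg (Jm D hD) 1 g = g ↔ g ∈ Tt D := by
  rw [sg_eq_iff, map_one', mem_Tt]
  constructor
  · intro e
    have a := congrFun (congrFun e 0) 0
    have b := congrFun (congrFun e 1) 0
    simp [Matrix.mul_apply, Fin.sum_univ_two] at a b
    exact ⟨b.symm, a.symm⟩
  · rintro ⟨a, b⟩
    ext i j; fin_cases i <;> fin_cases j <;> simp [Matrix.mul_apply, Fin.sum_univ_two, a, b] <;> ring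

theorem sgJ_neg (hD : D ≠ 0) : sg (Jm D hD) 1 g = -g ↔ Rf D g := by
  rw [sg_eq_iff, map_one', Rf]
  constructor
  · intro e
    have a := congrFun (congrFun e 0) 0
    have b := congrFun (congrFun e 1) 0
    simp [Matrix.mul_apply, Fin.sum_univ_two] at a b
    exact ⟨by linear_combination b, by linear_combination a⟩
  · rintro ⟨a, b⟩
    ext i j; fin_cases i <;> fin_cases j <;> simp [Matrix.mul_apply, Fin.sum_univ_two, a, b] <;> ring

theorem exists_J (h : PS π K) (h2 : (2 : F) ≠ 0) (hz : z * z = 1) (hz1 : z ≠ 1)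
    (h1 : Act π z A 1) : ∃ (B : GL (Fin 2) F) (D : F) (hD : D ≠ 0),
      Act (π.comp (sg B 1)) z (Jm D hD) 1 := by
  obtain ⟨-, c, hc, e⟩ := Act.uniq h.toPH h2 (hz ▸ h1.mul h1) (Act.one π)
  rw [gm_one, Units.val_mul, Units.val_one] at e
  have e00 := congrFun (congrFun e 0) 0
  have e01 := congrFun (congrFun e 0) 1
  have e10 := congrFun (congrFun e 1) 0
  have e11 := congrFun (congrFun e 1) 1
  simp [Matrix.mul_apply, Fin.sum_univ_two] at e00 e01 e10 e11
  have htr : A.1 1 1 = - A.1 0 0 := by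
    by_contra hn
    have hn' : A.1 0 0 + A.1 1 1 ≠ 0 := fun h0 => hn (by linear_combination h0)
    have b0 : A.1 0 1 = 0 := by apply mul_left_cancel₀ hn'; linear_combination e01
    have c0 : A.1 1 0 = 0 := by apply mul_left_cancel₀ hn'; linear_combination e10
    have d0 : A.1 1 1 = A.1 0 0 := by
      apply mul_left_cancel₀ hn'; linear_combination e11 - e00
    apply hz1
    refine Act.eq h h1 ((Act.one π).smul (c := A.1 0 0) ?_)
    ext i j; fin_cases i <;> fin_cases j <;> simp [b0, c0, d0]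
  suffices H : ∃ B : GL (Fin 2) F, A * B = B * Jm c hc by
    obtain ⟨B, hB⟩ := H
    refine ⟨B, c, hc, fun g => ?_⟩
    rw [MonoidHom.comp_apply, MonoidHom.comp_apply, h1, sg_sg, sg_sg, gm_one, gm_one, hB]
  by_cases c0 : A.1 1 0 = 0
  · by_cases b0 : A.1 0 1 = 0
    · have a0 : A.1 0 0 ≠ 0 := by
        intro a0; rw [a0, b0] at e00; exact hc (by linear_combination -e00)
      refine ⟨gl2mk 1 (A.1 0 0) 1 (-A.1 0 0) (by
        intro h0; exact mul_ne_zero h2 a0 (by linear_combination -h0)), ?_⟩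
      apply gl2_ext <;> simp [gl2_mul, b0, c0, htr]
      · linear_combination e00 - A.1 1 0 * b0
      · linear_combination e00 - A.1 1 0 * b0
    · refine ⟨gl2mk 0 (A.1 0 1) 1 (-A.1 0 0) (by simpa using b0), ?_⟩
      apply gl2_ext <;> simp [gl2_mul, c0, htr]
      · ring
      · linear_combination e00 - A.1 0 1 * c0
  · refine ⟨gl2mk 1 (A.1 0 0) 0 (A.1 1 0) (by simpa using c0), ?_⟩
    apply gl2_ext <;> simp [gl2_mul, htr]
    · linear_combination e00
    · ring

theorem Tt_cyc [Finite F] (h2 : (2 : F) ≠ 0) (hD : D ≠ 0) : IsCyclic (Tt D) := by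
  let L := AlgebraicClosure F
  obtain ⟨δ, hδ⟩ := IsAlgClosed.exists_eq_mul_self (algebraMap F L D)
  let φ : Tt D →* L :=
    { toFun := fun g => algebraMap F L (g.1.1 0 0) + algebraMap F L (g.1.1 1 0) * δ
      map_one' := by simp
      map_mul' := fun a b => by
        have ha := a.2; have hb := b.2
        simp only [Subgroup.coe_mul, sl2_mul, ha.1, ha.2, map_add, map_mul, hδ]
        ring }
  refine isCyclic_of_injective_ringHom φ ?_
  rw [injective_iff_map_eq_one]
  intro g hg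
  have hg' : algebraMap F L (g.1.1 0 0) + algebraMap F L (g.1.1 1 0) * δ = 1 := hg
  have hd := congrArg (algebraMap F L) (Tt_det g.2)
  simp only [map_sub, map_mul, map_pow, map_one, hδ] at hd
  have inj := (algebraMap F L).injective
  have a : g.1.1 0 0 = 1 := by
    apply mul_left_cancel₀ h2
    apply inj
    simp only [map_mul, map_ofNat, map_one]
    linear_combination hd + (1 - algebraMap F L (g.1.1 0 0) + algebraMap F L (g.1.1 1 0) * δ) * hg'
  have b : g.1.1 1 0 = 0 := by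
    have := Tt_det g.2
    rw [a] at this
    have e : D * g.1.1 1 0 ^ 2 = 0 := by linear_combination -this
    simpa [hD] using e
  apply Subtype.ext
  apply sl2_ext <;> simp [g.2.1, g.2.2, a, b]

/-- rational parametrisation of the conic. -/
noncomputable def TtEquiv (h2 : (2 : F) ≠ 0) (hD : D ≠ 0) :
    {g : Tt D // g.1.1 0 0 + 1 ≠ 0} ≃ {m : F // D * m ^ 2 ≠ 1} where
  toFun g := ⟨g.1.1.1 1 0 / (g.1.1.1 0 0 + 1), by
    have h1 := g.2
    have hd := Tt_det g.1.2
    intro e
    field_simp at e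
    apply mul_ne_zero h2 h1
    linear_combination -hd - e⟩
  invFun m := ⟨⟨sl2mk ((1 + D * m.1 ^ 2) / (1 - D * m.1 ^ 2)) (D * (2 * m.1 / (1 - D * m.1 ^ 2)))
      (2 * m.1 / (1 - D * m.1 ^ 2)) ((1 + D * m.1 ^ 2) / (1 - D * m.1 ^ 2)) (by
        have : 1 - D * m.1 ^ 2 ≠ 0 := sub_ne_zero.2 m.2.symm
        field_simp; ring), ⟨rfl, rfl⟩⟩, by
      have : 1 - D * m.1 ^ 2 ≠ 0 := sub_ne_zero.2 m.2.symm
      simp only [sl2mk00]
      intro e
      field_simp at e
      exact h2 (by linear_combination e)⟩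
  left_inv g := by
    have h1 := g.2
    have hd := Tt_det g.1.2
    have e : 1 - D * (g.1.1.1 1 0 / (g.1.1.1 0 0 + 1)) ^ 2 = 2 / (g.1.1.1 0 0 + 1) := by
      field_simp; linear_combination hd
    have e' : 1 + D * (g.1.1.1 1 0 / (g.1.1.1 0 0 + 1)) ^ 2 = 2 * g.1.1.1 0 0 / (g.1.1.1 0 0 + 1) := by
      field_simp; linear_combination -hd
    apply Subtype.ext; apply Subtype.ext
    apply sl2_ext <;> simp only [sl2mk00, sl2mk01, sl2mk10, sl2mk11, e, e', g.1.2.1, g.1.2.2] <;>
      field_simp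
  right_inv m := by
    have : 1 - D * m.1 ^ 2 ≠ 0 := sub_ne_zero.2 m.2.symm
    apply Subtype.ext
    simp only [sl2mk00, sl2mk10]
    have e : (1 + D * m.1 ^ 2) / (1 - D * m.1 ^ 2) + 1 = 2 / (1 - D * m.1 ^ 2) := by
      field_simp; ring
    rw [e, div_div_div_cancel_right₀ this, mul_div_cancel_left₀ _ h2]

theorem Tt_card [Fintype F] (h2 : (2 : F) ≠ 0) (hD : D ≠ 0) :
    (IsSquare D → Nat.card (Tt D) + 1 = Fintype.card F) ∧
    (¬ IsSquare D → Nat.card (Tt D) = Fintype.card F + 1) := by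
  classical
  have e1 : Nat.card (Tt D) = Nat.card {m : F // D * m ^ 2 ≠ 1} + 1 := by
    rw [← Nat.card_congr (TtEquiv h2 hD), ← Nat.card_congr (Equiv.sumCompl
      (fun g : Tt D => g.1.1 0 0 + 1 ≠ 0)), Nat.card_sum]
    congr 1
    rw [Nat.card_eq_one_iff_exists]
    refine ⟨⟨⟨-1, neg_mem_Tt (one_mem _)⟩, by simp [neg_ap]⟩, fun g => ?_⟩
    have a : g.1.1.1 0 0 = -1 := by
      have := g.2; push Not at this; linear_combination this
    have b : g.1.1.1 1 0 = 0 := by
      have := Tt_det g.1.2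
      rw [a] at this
      have e : D * g.1.1.1 1 0 ^ 2 = 0 := by linear_combination -this
      simpa [hD] using e
    apply Subtype.ext; apply Subtype.ext
    apply sl2_ext <;> simp [g.1.2.1, g.1.2.2, a, b, neg_ap]
  have e2 : Nat.card {m : F // D * m ^ 2 ≠ 1} + Nat.card {m : F // D * m ^ 2 = 1} =
      Fintype.card F := by
    rw [← Nat.card_eq_fintype_card, ← Nat.card_congr (Equiv.sumCompl
      (fun m : F => D * m ^ 2 = 1)), Nat.card_sum, add_comm]
  constructor
  · rintro ⟨d, hd⟩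
    have hd0 : d ≠ 0 := by rintro rfl; exact hD (by simpa using hd)
    have : Nat.card {m : F // D * m ^ 2 = 1} = 2 := by
      rw [Nat.card_eq_two_iff]
      refine ⟨⟨d⁻¹, by rw [hd]; field_simp⟩, ⟨-d⁻¹, by rw [hd]; field_simp⟩, ?_, ?_⟩
      · intro e
        have e' : d⁻¹ = -d⁻¹ := congrArg Subtype.val e
        exact mul_ne_zero h2 (inv_ne_zero hd0) (by linear_combination e')
      · ext m
        simp only [Set.mem_insert_iff, Set.mem_singleton_iff, Set.mem_univ, iff_true,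
          Subtype.ext_iff]
        rw [← mul_self_eq_mul_self_iff]
        have := m.2
        field_simp; linear_combination this - m.1 ^ 2 * hd
    omega
  · intro hs
    have : Nat.card {m : F // D * m ^ 2 = 1} = 0 := by
      rw [Nat.card_eq_zero]; left
      refine ⟨fun m => hs ⟨D * m.1, ?_⟩⟩
      linear_combination -D * m.2
    omega

open Polynomial in
theorem exists_Rf [Fintype F] (hF : Odd (Fintype.card F)) (hD : D ≠ 0) : ∃ g, Rf D g := by
  obtain ⟨a, b, h⟩ := FiniteField.exists_root_sum_quadratic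
    (f := Polynomial.X ^ 2 + C (1 : F)) (g := C (-D) * Polynomial.X ^ 2)
    (by compute_degree!) (by compute_degree!) (Nat.odd_iff.1 hF)
  simp at h
  exact ⟨sl2mk a (-D * b) b (-a) (by linear_combination -h), rfl, rfl⟩

end Cfsg.Agent.GWP
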