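import Cfsg.Agent.GW.P3
import Cfsg.Agent.GW.Base
import Cfsg.Agent.GT.MapInj
import Cfsg.Agent.Cl.SLCard

/-! Gorenstein-Walter, part P: the facts about `L₂(q) ⊴ G ≤ Aut L₂(q)`. -/

set_option autoImplicit false
set_option linter.unusedSectionVars false
set_option linter.unusedVariables false

namespace Cfsg.Agent.GWP

open Matrix Cfsg.Agent.Cl Subgroup Cfsg.Agent.GT Cfsg.Agent.Cls Cfsg.Agent.GW
open scoped MatrixGroups

universe u
variable {F : Type} [Field F] {G : Type u} [Group G]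
variable {π : SL(2, F) →* G} {K : Subgroup G} {x y z : G} {A B : GL (Fin 2) F} {s t : F ≃+* F}
  {D : F} {hD : D ≠ 0} {g h : SL(2, F)} {p : ℕ}

theorem fix_pow {τ : G} (hp : p.Prime) (hp2 : p ≠ 2) {k : ℤ} (hk : y * τ * y⁻¹ = τ ^ k)
    (hc : y ^ p * τ = τ * y ^ p) {j : ℕ} (hu : (τ⁻¹ * (y * τ * y⁻¹)) ^ p ^ j = 1) :
    y * τ ^ p * y⁻¹ = τ ^ p := by
  have e1 : ∀ i : ℕ, y ^ i * τ * (y ^ i)⁻¹ = τ ^ (k ^ i) := by
    intro i
    induction i with
    | zero => simp
    | succ i ih =>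
      have : y ^ (i + 1) * τ * (y ^ (i + 1))⁻¹ = y * (y ^ i * τ * (y ^ i)⁻¹) * y⁻¹ := by
        rw [pow_succ']; group
      rw [this, ih, ← conj_zpow, hk, ← _root_.zpow_mul, pow_succ']
  have e2 : τ ^ (k ^ p - 1) = 1 := by
    rw [_root_.zpow_sub, ← e1, hc]; simp
  have e3 : τ⁻¹ * (y * τ * y⁻¹) = τ ^ (k - 1) := by rw [hk]; group
  rw [e3] at hu
  set u := τ ^ (k - 1) with hudef
  have e4 : u ^ (∑ i ∈ Finset.range p, k ^ i) = 1 := by
    rw [hudef, ← _root_.zpow_mul, mul_geom_sum, e2]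
  obtain ⟨i, hi, ho⟩ := (Nat.dvd_prime_pow hp).1 (orderOf_dvd_of_pow_eq_one hu)
  have e5 : u ^ p = 1 := by
    by_contra hn
    have hi2 : 2 ≤ i := by
      by_contra hlt
      apply hn
      apply orderOf_dvd_iff_pow_eq_one.1
      rw [ho]
      have : i = 0 ∨ i = 1 := by omega
      rcases this with rfl | rfl <;> simp
    have d1 : (p : ℤ) ^ 2 ∣ ∑ i ∈ Finset.range p, k ^ i := by
      refine dvd_trans ?_ (orderOf_dvd_iff_zpow_eq_one.2 e4)
      rw [ho]; exact_mod_cast pow_dvd_pow p hi2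
    have d2 : (p : ℤ) ∣ k ^ p - 1 := by
      rw [← mul_geom_sum]
      exact Dvd.dvd.mul_left (dvd_trans (dvd_pow_self _ two_ne_zero) d1) _
    have := Fact.mk hp
    have d3 : (p : ℤ) ∣ k - 1 := by
      rw [← ZMod.intCast_zmod_eq_zero_iff_dvd] at d2 ⊢
      push_cast at d2 ⊢
      rwa [ZMod.pow_card] at d2
    obtain ⟨b, hb⟩ := d3
    have d4 := odd_sq_dvd_geom_sum₂_sub (1 : ℤ) b (hp.odd_of_ne_two hp2)
    have hk' : 1 + p * b = k := by linear_combination -hb
    simp only [one_pow, mul_one, hk'] at d4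
    have d5 : (p : ℤ) ^ 2 ∣ p := by simpa using dvd_sub d1 d4
    have d6 : p ^ 2 ∣ p := by exact_mod_cast d5
    have := Nat.le_of_dvd hp.pos d6
    nlinarith [hp.two_le]
  have : y * τ * y⁻¹ = τ * u := by rw [hk, hudef]; group
  rw [← conj_pow, this, Commute.mul_pow, e5, mul_one]
  exact (Commute.refl τ).zpow_right _

theorem exists_sgn [Finite F] : ∃ σ : F → Bool, ∀ a b, a ^ 2 = b ^ 2 → σ a = σ b → a = b := by
  obtain ⟨n, ⟨e⟩⟩ := Finite.exists_equiv_fin F
  refine ⟨fun a => decide (e a < e (-a)), fun a b h1 h2 => ?_⟩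
  rcases sq_eq_sq_iff_eq_or_eq_neg.1 h1 with h | h
  · exact h
  · subst h
    simp only [neg_neg, decide_eq_decide] at h2
    apply e.injective
    omega

theorem num_contra {q0 N : ℕ} (hp : p.Prime) (hp2 : p ≠ 2) (h0 : 2 ≤ q0) (ho : Odd (q0 ^ p))
    (hN : N + 1 = q0 ^ p ∨ N = q0 ^ p + 1) (h : N / N.gcd p ≤ q0 * 4) : False := by
  have h3 : 3 ≤ q0 := by
    have := Odd.of_dvd_nat ho (dvd_pow_self q0 hp.ne_zero)
    rcases this with ⟨m, hm⟩; omega
  have hle : N ≤ q0 * 4 * N.gcd p := by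
    conv_lhs => rw [← Nat.div_mul_cancel (Nat.gcd_dvd_left N p)]
    exact Nat.mul_le_mul_right _ h
  have hg : N.gcd p ≤ p := Nat.gcd_le_right _ hp.pos
  have hle' : q0 ^ p ≤ q0 * 4 * p + 1 := by
    have := Nat.mul_le_mul_left (q0 * 4) hg
    omega
  by_cases hp3 : p = 3
  · subst hp3
    have : q0 = 3 := by
      by_contra hn
      have h4 : 4 ≤ q0 := by omega
      have : 16 * q0 ≤ q0 ^ 3 := by
        have : 4 * 4 ≤ q0 * q0 := Nat.mul_le_mul h4 h4
        calc 16 * q0 ≤ (q0 * q0) * q0 := Nat.mul_le_mul_right _ this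
          _ = q0 ^ 3 := by ring
      omega
    subst this
    rcases hN with hN | hN
    · have : N = 26 := by omega
      subst this; norm_num at h
    · subst hN; norm_num at h
  · have h5 : 4 ≤ p := by have := hp.two_le; omega
    have key : ∀ m : ℕ, 4 * (m + 4) + 2 ≤ 3 ^ (m + 3) := by
      intro m
      induction m with
      | zero => norm_num
      | succ m ih => rw [show m + 1 + 3 = (m + 3) + 1 by ring, pow_succ]; omega
    obtain ⟨m, rfl⟩ : ∃ m, p = m + 4 := ⟨p - 4, by omega⟩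
    have e1 : 3 ^ (m + 3) ≤ q0 ^ (m + 3) := Nat.pow_le_pow_left h3 _
    have e2 : q0 * (4 * (m + 4) + 2) ≤ q0 ^ (m + 4) := by
      rw [show m + 4 = (m + 3) + 1 by ring, pow_succ']
      exact Nat.mul_le_mul_left _ (le_trans (key m) e1)
    nlinarith

theorem card_fix [Fintype F] (s : F ≃+* F) :
    Fintype.card F = Nat.card {a : F // s a = a} ^ orderOf s := by
  classical
  have : Finite (F ≃+* F) := Finite.of_injective (fun r : F ≃+* F => (r : F → F)) DFunLike.coe_injective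
  let H := zpowers s
  have : Fintype H := Fintype.ofFinite _
  let F0 := FixedPoints.subfield H F
  have : Fintype F0 := Fintype.ofFinite _
  have e1 := Module.card_eq_pow_finrank (K := F0) (V := F)
  rw [FixedPoints.finrank_eq_card H F, ← Nat.card_eq_fintype_card (α := H), Nat.card_zpowers,
    ← Nat.card_eq_fintype_card (α := F0)] at e1
  rw [e1]
  congr 1
  refine Nat.card_congr (Equiv.subtypeEquivRight fun a => ?_)
  constructor
  · intro h; exact h ⟨s, mem_zpowers s⟩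
  · rintro h ⟨r, hr⟩
    have : H ≤ MulAction.stabilizer (F ≃+* F) a := by
      rw [zpowers_le]; exact h
    exact this hr

section
variable [Fintype F] [Finite G]

theorem mem_cz (h : PS π K) (hz : Act π z (Jm D hD) 1) :
    π g ∈ C1[z] ↔ g ∈ Tt D ∨ Rf D g := by
  rw [mem_centralizer_singleton_iff, eq_comm, ← mul_inv_eq_iff_eq_mul, hz, h.eq_iff, sgJ_eq,
    sgJ_neg]

theorem mem_T (h : PS π K) : π g ∈ (Tt D).map π ↔ g ∈ Tt D := by
  constructor
  · rintro ⟨g', hg, e⟩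
    rcases h.eq_iff.1 e.symm with rfl | rfl
    · exact hg
    · exact neg_mem_Tt hg
  · exact mem_map_of_mem π

theorem card_T (h : PS π K) (h2 : (2 : F) ≠ 0) :
    Nat.card ((Tt D).map π) * 2 = Nat.card (Tt D) := by
  rw [← card_map_mul_card_inf_ker π (Tt D)]
  congr 1; symm
  rw [Nat.card_eq_two_iff]
  refine ⟨1, ⟨-1, (h.ker _).2 (Or.inr rfl), neg_mem_Tt (one_mem _)⟩, ?_, ?_⟩
  · intro e; exact sl2_neg_one_ne_one h2 (congrArg Subtype.val e).symm
  · ext m
    simp only [Set.mem_insert_iff, Set.mem_singleton_iff, Set.mem_univ, iff_true, Subtype.ext_iff]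
    exact (h.ker _).1 m.2.1

theorem dihT (hF : Odd (Fintype.card F)) (h : PS π K) (hz : Act π z (Jm D hD) 1) :
    Dih (K ⊓ C1[z]) ((Tt D).map π) := by
  have h2 := two_ne_zero_of_odd_card hF
  have hle : (Tt D).map π ≤ K ⊓ C1[z] := by
    rintro _ ⟨g, hg, rfl⟩
    exact ⟨h.mem g, (mem_cz h hz).2 (Or.inl hg)⟩
  refine ⟨?_, hle, ?_, ?_⟩
  · have := Tt_cyc h2 hD
    exact isCyclic_of_surjective _ (π.subgroupMap_surjective (Tt D))
  · rw [← card_mul_relIndex hle, mul_comm]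
    congr 1
    obtain ⟨w, hw⟩ := exists_Rf hF hD
    rw [relIndex_eq_two_iff_exists_notMem_and]
    refine ⟨π w, ⟨h.mem w, (mem_cz h hz).2 (Or.inr hw)⟩, fun e => hw.not_mem h2 hD ((mem_T h).1 e),
      ?_⟩
    rintro b ⟨hb, hb'⟩
    obtain ⟨g, rfl⟩ := (h.rng _).1 hb
    rcases (mem_cz h hz).1 hb' with e | e
    · exact Or.inr ((mem_T h).2 e)
    · left; rw [← map_mul]; exact (mem_T h).2 (e.mul hw)
  · rintro b ⟨hb, hb'⟩ hn
    obtain ⟨g, rfl⟩ := (h.rng _).1 hb
    rcases (mem_cz h hz).1 hb' with e | e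
    · exact absurd ((mem_T h).2 e) hn
    · rw [pow_two, ← map_mul, e.sq, h.ker]; exact Or.inr rfl

theorem detJ : (Jm D hD).1.det = -D := by rw [det_fin_two]; simp

theorem z_mem_T (h : PS π K) (h2 : (2 : F) ≠ 0) (hz : Act π z (Jm D hD) 1) (hK : z ∈ K) :
    z ∈ (Tt D).map π := by
  obtain ⟨g, rfl⟩ := (h.rng _).1 hK
  obtain ⟨-, c, hc, e⟩ := Act.uniq h.toPH h2 (Act.of π g) hz
  have e' : g.1 = c • (Jm D hD).1 := e
  refine (mem_T h).2 ⟨?_, ?_⟩ <;> simp [e', mul_comm]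

theorem tr_conj (g k : SL(2, F)) :
    (k * g * k⁻¹).1 0 0 + (k * g * k⁻¹).1 1 1 = g.1 0 0 + g.1 1 1 := by
  simp only [sl2_mul, sl2_inv00, sl2_inv01, sl2_inv10, sl2_inv11]
  linear_combination (g.1 0 0 + g.1 1 1) * sl2_det k

theorem torY (h : PS π K) (h2 : (2 : F) ≠ 0) (hz : Act π z (Jm D hD) 1) (hy : y ∈ (Tt D).map π)
    (hy2 : y * y ≠ 1) : K ⊓ C1[y] ≤ (Tt D).map π ∧ K ⊓ N[zpowers y] ≤ C1[z] := by
  obtain ⟨g, hg, rfl⟩ := hy
  have hd := Tt_det hg
  rw [Ne, ← map_mul, h.ker, not_or] at hy2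
  have hb : g.1 1 0 ≠ 0 := by
    intro b
    apply hy2.1
    apply sl2_ext <;> simp only [sl2_mul, hg.1, hg.2, b, sl2_one00, sl2_one01, sl2_one10, sl2_one11]
    · linear_combination hd + D * g.1 1 0 * b
    · ring
    · ring
    · linear_combination hd + D * g.1 1 0 * b
  have ha : g.1 0 0 ≠ 0 := by
    intro a
    apply hy2.2
    apply sl2_ext <;> simp only [sl2_mul, neg_ap, hg.1, hg.2, a, sl2_one00, sl2_one01, sl2_one10,
      sl2_one11]
    · linear_combination -hd + g.1 0 0 * a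
    · ring
    · ring
    · linear_combination -hd + g.1 0 0 * a
  constructor
  · rintro _ ⟨hk, hc⟩
    obtain ⟨k, rfl⟩ := (h.rng _).1 hk
    rw [mem_T h]
    have hc' := mem_centralizer_singleton_iff.1 hc
    rw [← map_mul, ← map_mul, h.eq_iff] at hc'
    rcases hc' with e | e
    · rw [sl2_eq_iff] at e
      simp only [sl2_mul, hg.1, hg.2] at e
      constructor
      · apply mul_left_cancel₀ hb; linear_combination e.2.2.1
      · apply mul_left_cancel₀ hb; linear_combination e.1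
    · have e' : k * g * k⁻¹ = -g := by rw [e]; simp
      have := tr_conj g k
      rw [e', neg_ap, neg_ap, hg.1] at this
      exact absurd (by linear_combination -this) (mul_ne_zero (mul_ne_zero h2 h2) ha)
  · rintro _ ⟨hk, hn⟩
    obtain ⟨k, rfl⟩ := (h.rng _).1 hk
    have h1 : π k * π g * (π k)⁻¹ ∈ zpowers (π g) :=
      (mem_normalizer_iff.1 hn _).1 (mem_zpowers _)
    have h3 : zpowers (π g) ≤ (Tt D).map π := by rw [zpowers_le]; exact (mem_T h).2 hg
    have h4 := h3 h1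
    rw [← map_inv, ← map_mul, ← map_mul, mem_T h] at h4
    have t1 := tr_conj g k
    have e : (k * g * k⁻¹) * k = k * g := by simp
    have hd' := Tt_det h4
    set g' := k * g * k⁻¹
    rw [h4.1, hg.1] at t1
    have a : g'.1 0 0 = g.1 0 0 := by apply mul_left_cancel₀ h2; linear_combination t1
    have b : g'.1 1 0 * g'.1 1 0 = g.1 1 0 * g.1 1 0 := by
      apply mul_left_cancel₀ hD
      linear_combination hd - hd' + (g'.1 0 0 + g.1 0 0) * a
    rw [sl2_eq_iff] at e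
    simp only [sl2_mul, hg.1, hg.2, h4.1, h4.2, a] at e
    rw [mem_cz h hz]
    rcases mul_self_eq_mul_self_iff.1 b with b | b
    · left
      rw [b] at e
      constructor
      · apply mul_left_cancel₀ hb; linear_combination -e.2.2.1
      · apply mul_left_cancel₀ hb; linear_combination -e.1
    · right
      rw [b] at e
      constructor
      · apply mul_left_cancel₀ hb; linear_combination -e.2.2.1
      · apply mul_left_cancel₀ hb; linear_combination -e.1

theorem Act.mem_of_odd (h : PS π K) (h1 : Act π y A 1) (ho : Odd (orderOf y)) : y ∈ K := by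
  have h2 := h1.mul h1
  rw [gm_one, one_mul] at h2
  have h3 := h2.mem h (by rw [Units.val_mul, det_mul]; exact IsSquare.mul_self _)
  obtain ⟨m, hm⟩ := ho
  have : y = (y * y) ^ (m + 1) := by
    rw [← pow_two, ← pow_mul, show 2 * (m + 1) = orderOf y + 1 by omega, pow_succ,
      pow_orderOf_eq_one, one_mul]
  rw [this]; exact pow_mem h3 _

theorem l4_aux (hF : Odd (Fintype.card F)) (h : PS π K) (hz : Act π z (Jm D hD) 1) (hp : p.Prime)
    (hp2 : p ≠ 2) {Y : Subgroup G} (hY : IsPGroup p Y) (hYz : Y ≤ C1[z]) (hn : C1[z] ≤ N[Y])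
    (hy : y ∈ Y) (h1 : Act π y B s) (hs : orderOf s = p) : False := by
  classical
  have h2 := two_ne_zero_of_odd_card hF
  have hdih := dihT hF h hz
  have hodd := odd_p hp hp2 hY
  have hyp : y ^ p ∈ (Tt D).map π := by
    obtain ⟨B', hB'⟩ := h1.pow p
    rw [← hs, pow_orderOf_eq_one, hs] at hB'
    have ho := odd_ord hodd (pow_mem hy p)
    by_contra hn
    have := hdih.sq _ ⟨hB'.mem_of_odd h ho, hYz (pow_mem hy p)⟩ hn
    rw [pow_two] at this
    exact hn (by rw [eq1_of_odd ho this]; exact one_mem _)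
  have hc : y * z = z * y := mem_centralizer_singleton_iff.1 (hYz hy)
  have a1 := h1.mul hz
  have a2 := hz.mul h1
  rw [hc] at a1
  obtain ⟨-, c, hc0, e⟩ := Act.uniq h.toPH h2 a1 a2
  have pres : ∀ g ∈ Tt D, sg B s g ∈ Tt D := by
    intro g hg
    rw [← sgJ_eq hD] at hg ⊢
    have := sg_sg B (Jm D hD) s 1 g
    rw [hg, mul_one] at this
    rw [sg_sg, one_mul, ← sg_smul e, ← this]
  have cyc := Tt_cyc h2 hD
  obtain ⟨τ, hτ⟩ := IsCyclic.exists_generator (α := Tt D)
  have hk : ∃ k : ℤ, y * π τ.1 * y⁻¹ = π τ.1 ^ k := by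
    obtain ⟨k, hk⟩ := hτ ⟨_, pres τ.1 τ.2⟩
    refine ⟨k, ?_⟩
    rw [h1, ← map_zpow]
    exact congrArg π (congrArg Subtype.val hk).symm
  obtain ⟨k, hk⟩ := hk
  have hτT : π τ.1 ∈ (Tt D).map π := (mem_T h).2 τ.2
  have hu : (π τ.1)⁻¹ * (y * π τ.1 * y⁻¹) ∈ Y := by
    have : (π τ.1)⁻¹ * y * (π τ.1)⁻¹⁻¹ ∈ Y :=
      (mem_normalizer_iff.1 (hn (inv_mem (hdih.le hτT).2)) _).1 hy
    have := mul_mem this (inv_mem hy)
    convert this using 1; group
  obtain ⟨j, hj⟩ := hY ⟨_, hu⟩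
  have fx := fix_pow hp hp2 hk (hdih.comm hyp hτT) (congrArg Subtype.val hj)
  obtain ⟨σ, hσ⟩ := exists_sgn (F := F)
  have fixd : ∀ g : zpowers (τ ^ p), s (g.1.1.1 0 0 ^ 2) = g.1.1.1 0 0 ^ 2 := by
    rintro ⟨g, m, rfl⟩
    set g := ((τ ^ p) ^ m : Tt D) with hg
    have e1 : y * π g.1 * y⁻¹ = π g.1 := by
      have : π g.1 = (π τ.1 ^ p) ^ m := by simp [hg]
      rw [this, ← conj_zpow, fx]
    have t1 := sg_trace B s g.1
    rw [h1, h.eq_iff] at e1
    rw [g.2.1, map_add] at t1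
    show s (g.1.1 0 0 ^ 2) = g.1.1 0 0 ^ 2
    rw [map_pow]
    rcases e1 with e1 | e1
    · rw [e1, g.2.1] at t1
      have : s (g.1.1 0 0) = g.1.1 0 0 := by apply mul_left_cancel₀ h2; linear_combination -t1
      rw [this]
    · rw [e1, neg_ap, neg_ap, g.2.1] at t1
      have : s (g.1.1 0 0) = -g.1.1 0 0 := by apply mul_left_cancel₀ h2; linear_combination -t1
      rw [this]; ring
  let φ : zpowers (τ ^ p) → {a : F // s a = a} × Bool × Bool :=
    fun g => (⟨_, fixd g⟩, σ (g.1.1.1 0 0), σ (g.1.1.1 1 0))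
  have inj : Function.Injective φ := by
    intro g g' e
    simp only [φ, Prod.mk.injEq, Subtype.mk.injEq] at e
    have a := hσ _ _ e.1 e.2.1
    have b := hσ _ _ (by
      apply mul_left_cancel₀ hD
      linear_combination e.1 - Tt_det g.1.2 + Tt_det g'.1.2) e.2.2
    apply Subtype.ext; apply Subtype.ext
    apply sl2_ext <;> simp only [g.1.2.1, g.1.2.2, g'.1.2.1, g'.1.2.2, a, b]
  have le := Nat.card_le_card_of_injective φ inj
  rw [Nat.card_zpowers, orderOf_pow' _ hp.ne_zero, orderOf_eq_card_of_forall_mem_zpowers hτ,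
    Nat.card_prod, Nat.card_prod] at le
  simp only [Nat.card_eq_fintype_card (α := Bool), Fintype.card_bool] at le
  have hq := card_fix s
  rw [hs] at hq
  refine num_contra (q0 := Nat.card {a : F // s a = a}) hp hp2 ?_ (hq ▸ hF) ?_ le
  · have : Nontrivial {a : F // s a = a} := ⟨⟨0, map_zero s⟩, ⟨1, map_one s⟩, by simp⟩
    exact Finite.one_lt_card
  · rw [← hq]
    by_cases hsq : IsSquare D
    · exact Or.inl ((Tt_card h2 hD).1 hsq)
    · exact Or.inr ((Tt_card h2 hD).2 hsq)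

theorem l4' (hF : Odd (Fintype.card F)) (h : PS π K) (hz : Act π z (Jm D hD) 1) (hp : p.Prime)
    (hp2 : p ≠ 2) {Y : Subgroup G} (hY : IsPGroup p Y) (hYz : Y ≤ C1[z]) (hn : C1[z] ≤ N[Y]) :
    Y ≤ K := by
  have h2 := two_ne_zero_of_odd_card hF
  intro y hy
  obtain ⟨B, s, h1⟩ := h.exists_act hF y
  by_cases hs : s = 1
  · subst hs; exact h1.mem_of_odd h (odd_ord (odd_p hp hp2 hY) hy)
  exfalso
  obtain ⟨j, hj⟩ := hY ⟨y, hy⟩
  have hj' : y ^ p ^ j = 1 := congrArg Subtype.val hj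
  obtain ⟨B1, hB1⟩ := h1.pow (p ^ j)
  rw [hj'] at hB1
  have e := (Act.uniq h.toPH h2 hB1 (Act.one π)).1
  obtain ⟨i, hi, ho⟩ := (Nat.dvd_prime_pow hp).1 (orderOf_dvd_of_pow_eq_one e)
  have hd : p ∣ orderOf s := by
    rw [ho]; apply dvd_pow_self
    rintro rfl; exact hs (by simpa using ho)
  obtain ⟨B2, hB2⟩ := h1.pow (orderOf s / p)
  exact l4_aux hF h hz hp hp2 hY hYz hn (pow_mem hy _) hB2
    (orderOf_pow_orderOf_div (by rw [ho]; exact pow_ne_zero _ hp.ne_zero) hd)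

theorem exists_J' (hF : Odd (Fintype.card F)) (hG : DG G) (h : PS π K) (hz : orderOf z = 2) :
    ∃ (π' : SL(2, F) →* G) (D : F) (hD : D ≠ 0), PS π' K ∧ Act π' z (Jm D hD) 1 := by
  have h2 := two_ne_zero_of_odd_card hF
  obtain ⟨A, s, h1⟩ := h.exists_act hF z
  have hs : s = 1 := by
    by_contra hs
    obtain ⟨a, ha, b, hb, c, hc, a2, b2, c2, a1, b1, ba, cab, ca, cb⟩ :=
      h.cube hF (sq1 hz) h1 hs
    have c1 : c ≠ 1 := by rintro rfl; exact hc (one_mem _)
    rcases hG.cent_V (ord2 a2 a1) (ord2 b2 b1) ba cab (pg2 (ord2 c2 c1))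
      (mem_centralizer_singleton_iff.2 ca.symm) (mem_centralizer_singleton_iff.2 cb.symm) with
      e | e | e | e
    · exact c1 e
    · exact hc (e ▸ ha)
    · exact hc (e ▸ hb)
    · exact hc (e ▸ mul_mem ha hb)
  subst hs
  obtain ⟨B, D, hD, h3⟩ := exists_J h h2 (sq1 hz) (ne1 hz) h1
  exact ⟨_, D, hD, h.comp B 1, h3⟩

theorem PS.lt (hF : Odd (Fintype.card F)) (h3 : 3 < Fintype.card F) (hG : DG G) (h : PS π K) :
    ∃ n r, LT K n r := by
  have h2 := two_ne_zero_of_odd_card hF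
  obtain ⟨n, r, hn, har, hq, hnr⟩ : ∃ n r : ℕ, Even n ∧ (r = n + 1 ∨ n = r + 1) ∧
      n + r = Fintype.card F ∧ (IsSquare (-1 : F) ↔ r = n + 1) := by
    rw [FiniteField.isSquare_neg_one_iff]
    obtain ⟨m, hm⟩ := hF
    rcases Nat.even_or_odd m with e | e
    · exact ⟨m, m + 1, e, Or.inl rfl, by omega, by rcases e with ⟨k, hk⟩; omega⟩
    · exact ⟨m + 1, m, e.add_one, Or.inr rfl, by omega, by rcases e with ⟨k, hk⟩; omega⟩
  have cK : Nat.card K * 2 = Nat.card SL(2, F) := by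
    have e : K = (⊤ : Subgroup SL(2, F)).map π := by
      ext x; rw [h.rng]; simp
    rw [e, ← Subgroup.card_top (G := SL(2, F)), ← card_map_mul_card_inf_ker π ⊤]
    congr 1; symm
    rw [Nat.card_eq_two_iff]
    refine ⟨1, ⟨-1, (h.ker _).2 (Or.inr rfl), mem_top _⟩, ?_, ?_⟩
    · intro e; exact sl2_neg_one_ne_one h2 (congrArg Subtype.val e).symm
    · ext m
      simp only [Set.mem_insert_iff, Set.mem_singleton_iff, Set.mem_univ, iff_true, Subtype.ext_iff]
      exact (h.ker _).1 m.2.1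
  refine ⟨n, r, h.comm_le hF, hn, har, by rcases hn with ⟨k, hk⟩; omega,
    hq ▸ Fintype.isPrimePow_card_of_field, ?_, fun z hz => ?_, fun z hz p hp hp2 Y hY hYz hN => ?_⟩
  · rw [card_sl_two, ← hq] at cK
    rcases har with rfl | rfl
    · rw [show n + (n + 1) - 1 = 2 * n by omega] at cK; nlinarith
    · rw [show r + 1 + r - 1 = 2 * r by omega] at cK; nlinarith
  · obtain ⟨π', D, hD, h', hz'⟩ := exists_J' hF hG h hz
    have cT := card_T (D := D) h' h2
    obtain ⟨c1, c2⟩ := Tt_card h2 hD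
    refine ⟨_, dihT hF h' hz', fun hK => ⟨z_mem_T h' h2 hz' hK, ?_⟩, fun hK => ?_,
      fun y hy hy2 => torY h' h2 hz' hy hy2⟩
    · have hs := (hz'.of_mem h'.toPH h2 hK).2
      rw [detJ] at hs
      by_cases e : IsSquare (-1 : F)
      · have := c1 (by simpa using e.mul hs)
        have := hnr.1 e
        omega
      · have := c2 (fun hd => e (by
          have := hs.mul hd.inv
          rwa [neg_mul, mul_inv_cancel₀ hD] at this))
        have : ¬ r = n + 1 := fun a => e (hnr.2 a)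
        omega
    · have hs : ¬ IsSquare (-D) := fun hs => hK (hz'.mem h' (by rwa [detJ]))
      by_cases e : IsSquare (-1 : F)
      · have := c2 (fun hd => hs (by simpa using e.mul hd))
        have := hnr.1 e
        omega
      · have := c1 (by simpa using sq_mul_of_not e hs)
        have : ¬ r = n + 1 := fun a => e (hnr.2 a)
        omega
  · obtain ⟨π', D, hD, h', hz'⟩ := exists_J' hF hG h hz
    exact l4' hF h' hz' hp hp2 hY hYz hN

end

end Cfsg.Agent.GWP

namespace Cfsg.Agent.GW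

open Cfsg Subgroup Cfsg.Agent.GT Cfsg.Agent.Cls Cfsg.Agent.GWP
open scoped MatrixGroups

universe u
variable {G : Type u} [Group G] [Finite G]

theorem lt_of_psl (hG : DG G) (K : Subgroup G) [K.Normal] (hC : C[K] = ⊥) {F : Type} [Field F]
    [Fintype F] (ho : Odd (Fintype.card F)) (h3 : 3 < Fintype.card F)
    (e : K ≃* Matrix.ProjectiveSpecialLinearGroup (Fin 2) F) : ∃ n r, LT K n r := by
  let π : SL(2, F) →* G := K.subtype.comp (e.symm.toMonoidHom.comp (QuotientGroup.mk' _))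
  refine PS.lt (π := π) ho h3 hG ⟨⟨fun x => ⟨fun hx => ?_, ?_⟩, fun g => ?_⟩, inferInstance, hC⟩
  · obtain ⟨g, hg⟩ := QuotientGroup.mk'_surjective _ (e ⟨x, hx⟩)
    refine ⟨g, ?_⟩
    show (e.symm (QuotientGroup.mk' _ g) : G) = x
    rw [hg]; simp
  · rintro ⟨g, rfl⟩; exact (e.symm (QuotientGroup.mk' _ g)).2
  · rw [← Cl.sl2_mem_center_iff, ← QuotientGroup.eq_one_iff]
    show (e.symm (QuotientGroup.mk' _ g) : G) = 1 ↔ _
    rw [OneMemClass.coe_eq_one, MulEquiv.map_eq_one_iff]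
    rfl

end Cfsg.Agent.GW
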