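import Cfsg.Agent.GW.D3
import Cfsg.Agent.BS.Small3

/-! Gorenstein-Walter, Bender's Theorem 2.6: the strongly embedded case and the setting. -/

set_option autoImplicit false
set_option linter.unusedSectionVars false
set_option linter.unusedVariables false

namespace Cfsg.Agent.GW

open Cfsg Subgroup Cfsg.Agent.GT Cfsg.Agent.Cls
open scoped commutatorElement

universe u

variable {G : Type u} [Group G] [Finite G] {S A B D E H I K L M P Q R W X Y : Subgroup G}
  {t s u v w x y z g σ : G} {p q : ℕ}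

/-- the statement of the character theoretic inequality `St.pf1`. -/
def PFT : Prop := ∀ (G : Type u) [Group G] [Finite G] (S A : Subgroup G) (t v σ : G), St S A t →
  v ∈ S → v ∉ A → zpowers σ = A →
    C1[t].index ≤ 15 * (C1[v].relIndex C1[t] * C1[v * σ].relIndex C1[t]) ∧
    3 * (C1[v].relIndex C1[t] * C1[v * σ].relIndex C1[t]) ≤ C1[t].index

theorem index_core_dvd (H : Subgroup G) : H.normalCore.index ∣ (H.index).factorial := by
  rw [normalCore_eq_ker, index_ker, index_eq_card, ← Nat.card_perm]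
  exact card_subgroup_dvd_card (MulAction.toPermHom G (G ⧸ H)).range

theorem c1_sub (hx : x ∈ M) : C1[(⟨x, hx⟩ : M)] = C1[x].subgroupOf M := by
  ext y
  rw [mem_cent1, mem_subgroupOf, mem_cent1, Subtype.ext_iff]
  rfl

theorem St.sub (h : St S A t) (hS : S ≤ M) (one : ∀ u ∈ M, orderOf u = 2 → ∃ g ∈ M, g * t * g⁻¹ = u) :
    St (S.subgroupOf M) (A.subgroupOf M) ⟨t, hS h.memS⟩ := by
  have hA := h.dih.le.trans hS
  refine ⟨⟨(isCyclic_subgroupOf_iff hA).2 h.dih.cyc, comap_mono h.dih.le, ?_, fun s hs hs' => ?_⟩,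
    isPiHallOf_top_iff.2 ((isPiHallOf_iff_subgroupOf hS).1 (syl_of_le h.syl hS le_top)), ?_, ?_,
    h.mem, ?_, fun u hu => ?_⟩
  · rw [card_subgroupOf hS, card_subgroupOf hA, h.dih.card]
  · exact Subtype.ext (h.dih.sq s hs hs')
  · rw [card_subgroupOf hS]; exact h.four
  · rw [← h.ord, ← orderOf_coe]
  · rw [c1_sub]; exact comap_mono h.cen
  · obtain ⟨g, hg, e⟩ := one u u.2 (by rw [orderOf_coe, hu])
    exact ⟨⟨g, hg⟩, Subtype.ext e⟩

theorem Min.se' [IsSimpleGroup G] (h : Min S A t) (pf : PFT.{u}) (hM : M ≠ ⊤) (hH : C1[t] ≤ M)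
    (one : ∀ u ∈ M, orderOf u = 2 → ∃ g ∈ M, g * t * g⁻¹ = u) :
    Nat.card G = 60 ∧ Nat.card M = 12 := by
  have hS := h.cen.trans hH
  have hA := h.dih.le.trans hS
  obtain ⟨v, hv, hvA⟩ := h.dih.ex
  obtain ⟨σ, hσ⟩ := PG.isCyclic_iff_exists.1 h.dih.cyc
  have hσA : σ ∈ A := hσ ▸ mem_zpowers σ
  have h1 := (pf G S A t v σ h.toSt hv hvA hσ).1
  have h2 := (pf M _ _ _ ⟨v, hS hv⟩ ⟨σ, hA hσA⟩ (h.toSt.sub hS one) hv hvA (by
    apply map_injective M.subtype_injective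
    rw [MonoidHom.map_zpowers, subgroupOf_map_subtype, inf_eq_left.2 hA]
    exact hσ)).2
  rw [show (⟨v, hS hv⟩ * ⟨σ, hA hσA⟩ : M) = ⟨v * σ, mul_mem (hS hv) (hA hσA)⟩ from rfl] at h2
  simp only [c1_sub] at h2
  rw [relIndex_subgroupOf hH, relIndex_subgroupOf hH] at h2
  have h3 : C1[t].relIndex M * M.index = C1[t].index := relIndex_mul_index hH
  have h4 : 0 < C1[t].relIndex M := relIndex_pos _ _
  have h5 : M.index ≤ 5 := by
    have : C1[t].relIndex M * M.index ≤ C1[t].relIndex M * 5 := by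
      rw [h3]; change _ ≤ C1[t].relIndex M at h2; omega
    exact Nat.le_of_mul_le_mul_left this h4
  have h6 := index_core_dvd M
  rw [(M.normalCore_normal.eq_bot_or_eq_top).resolve_right fun e =>
    hM (top_le_iff.1 (e ▸ M.normalCore_le)), index_bot] at h6
  have h7 := Nat.le_of_dvd (by decide) (h6.trans (Nat.factorial_dvd_factorial h5))
  have h8 : Nat.card G = 60 := by
    have := BS.simple_card_le_1092 h.nc (h7.trans (by decide))
    have e : Nat.factorial 5 = 120 := by decide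
    omega
  have h9 : M.index = 5 := by
    by_contra h0
    have := Nat.le_of_dvd (by decide) (h6.trans (Nat.factorial_dvd_factorial (n := 4) (by omega)))
    have e : Nat.factorial 4 = 24 := by decide
    omega
  have := M.card_mul_index
  rw [h8, h9] at this
  exact ⟨h8, by omega⟩

theorem St.step0 (h : St S A t) (hH : C1[t] ≤ M) (h2 : piCoreOf {2} M ≠ ⊥) :
    t ∈ piCoreOf {2} M := by
  have hP := piCoreOf_isPGroup Nat.prime_two M
  have hle : piCoreOf {2} M ≤ S := piCoreOf_le_hall (syl_of_le h.syl (h.cen.trans hH) le_top)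
  by_contra ht
  have hA : ∀ x ∈ piCoreOf {2} M, x ∈ A → x = 1 := fun x hx hxA => by
    by_contra h1
    have : Fact (Nat.Prime 2) := ⟨Nat.prime_two⟩
    obtain ⟨y, hy, h3, h4⟩ := PG.exists_mem_orderOf_eq_p (hP.to_le (zpowers_le.2 hx))
      (ne_bot_of_mem (mem_zpowers x) h1)
    exact ht (h.uniq (zpowers_le.2 hxA hy) (by rwa [← pow_two]) h3 ▸ zpowers_le.2 hx hy)
  obtain ⟨u, hu, hu1⟩ := exists_ne_one_of_ne_bot h2
  have huA : u ∉ A := fun e => hu1 (hA u hu e)
  have ho := h.refl_ord (hle hu) huA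
  have hM : M ≤ C1[u] := fun g hg => by
    have h1 := conj_mem_of_le_norm (self_le_norm_piCoreOf {2} M) hg hu
    have h3 := hA _ (mul_mem h1 hu) (h.dih.mul_mem (hle h1) (hle hu)
      (fun e => hu1 (conj_eq_one_iff.1 (hA _ h1 e))) huA)
    rw [← sq1 ho, mul_left_inj, mul_inv_eq_iff_eq_mul] at h3
    exact mem_cent1.2 h3
  have e : C1[t] = M := le_antisymm hH (by
    rw [eq_of_le_of_card_ge (hH.trans hM) (h.card_eq ho).le]; exact hM)
  exact ht (zpowers_le.1 (le_piCoreOf_single Nat.prime_two (zpowers_le.2 (hH (self_mem_cent1 t)))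
    (le_norm_of_cent (by rw [cent_zpowers, e])) (pg2 h.ord)))

theorem Min.not_one [IsSimpleGroup G] (h : Min S A t) (pf : PFT.{u}) (hM : M ≠ ⊤) (hH : C1[t] ≤ M)
    (h2 : piCoreOf {2} M = ⊥) : ∃ v ∈ C1[t], orderOf v = 2 ∧ ∀ g ∈ M, g * t * g⁻¹ ≠ v := by
  have hS := h.cen.trans hH
  have hs := syl_of_le h.syl hS le_top
  by_contra hn
  push Not at hn
  have h12 := (h.se' pf hM hH fun u hu ho => by
    obtain ⟨k, hk, hle⟩ := syl_exists_conj_le Nat.prime_two hs (pg2 ho) (zpowers_le.2 hu)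
    rw [conj_zpowers, zpowers_le] at hle
    obtain ⟨g, hg, e⟩ := hn _ (h.cen hle) (ord2_conj ho k)
    exact ⟨k⁻¹ * g, mul_mem (inv_mem hk) hg, by
      rw [show k⁻¹ * g * t * (k⁻¹ * g)⁻¹ = k⁻¹ * (g * t * g⁻¹) * k by group, e]; group⟩).2
  have h3 := card_mul_relIndex hS
  have h4 := h.four
  have h5 : S.relIndex M ≤ 3 := by
    by_contra h0
    have := Nat.mul_le_mul h4 (show 4 ≤ S.relIndex M by omega)
    omega
  have h6 := (index_core_dvd (S.subgroupOf M)).trans (Nat.factorial_dvd_factorial h5)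
  have h7 : (S.subgroupOf M).normalCore.map M.subtype ≤ piCoreOf {2} M :=
    le_piCoreOf_single Nat.prime_two (map_subtype_le _) (le_norm_map_subtype_iff.2 inferInstance)
      (h.pg.to_le (map_le_iff_le_comap.2 (normalCore_le _)))
  rw [h2, le_bot_iff, map_eq_bot_inj M.subtype_injective] at h7
  rw [h7, index_bot, h12] at h6
  exact absurd h6 (by decide)

/-- A counterexample to Theorem 2.6: `m u` is the maximal subgroup attached to the involution `u`. -/
structure Cx (m : G → Subgroup G) : Prop where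
  pp : PP.{u}
  pf : PFT.{u}
  min : ∀ u : G, orderOf u = 2 → ∃ S A : Subgroup G, Min S A u
  co : ∀ u : G, orderOf u = 2 → IsCoatom (m u)
  le : ∀ u : G, orderOf u = 2 → C1[u] ≤ m u
  eqv : ∀ u g : G, orderOf u = 2 → m (g * u * g⁻¹) = cj[g] (m u)
  o2 : ∀ u : G, orderOf u = 2 → piCoreOf {2} (m u) = ⊥

theorem Min.of_ord (h : Min S A t) (hu : orderOf u = 2) : ∃ S A : Subgroup G, Min S A u := by
  obtain ⟨S', A', h', -⟩ := h.exists_ge hu (pg2 hu) (zpowers_le.2 (self_mem_cent1 u))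
  exact ⟨S', A', h', h.nc, h.dg, h.ih⟩

theorem Min.exists_cx (h : Min S A t) (pp : PP.{u}) (pf : PFT.{u}) (hM : IsCoatom M) (hH : C1[t] ≤ M)
    (h2 : piCoreOf {2} M = ⊥) : ∃ m : G → Subgroup G, Cx m ∧ m t = M := by
  classical
  choose k hk using h.one
  have key : ∀ a b : G, a * t * a⁻¹ = b * t * b⁻¹ → cj[a] M = cj[b] M := fun a b e => by
    have : b⁻¹ * a ∈ M := hH (mem_cent1.2 (by
      rw [show b⁻¹ * a * t = b⁻¹ * (a * t * a⁻¹) * a by group, e]; group))
    rw [show a = b * (b⁻¹ * a) by group, mul_conj, conj_eq_self_of_mem this]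
  refine ⟨fun u => if hu : orderOf u = 2 then cj[k u hu] M else ⊤, ⟨pp, pf, fun u hu => h.of_ord hu,
    fun u hu => ?_, fun u hu => ?_, fun u g hu => ?_, fun u hu => ?_⟩, ?_⟩
  · rw [dif_pos hu]; exact isCoatom_conj _ hM
  · have := conj_mono (k u hu) hH
    rw [conj_cent1, hk] at this
    rwa [dif_pos hu]
  · rw [dif_pos hu, dif_pos (ord2_conj hu g), ← mul_conj]
    exact key _ _ (by rw [hk, show g * k u hu * t * (g * k u hu)⁻¹ =
      g * (k u hu * t * (k u hu)⁻¹) * g⁻¹ by group, hk])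
  · rw [dif_pos hu, ← conj_piCoreOf, h2, conj_bot]
  · simp only [dif_pos h.ord]
    rw [key _ 1 (by rw [hk]; group), one_conj]

/-- a pair of commuting involutions with different attached subgroups. -/
structure Pr (m : G → Subgroup G) (t v : G) : Prop extends Cx m where
  ht : orderOf t = 2
  hv : orderOf v = 2
  c : v * t = t * v
  nm : m v ≠ m t

theorem Cx.fix {m : G → Subgroup G} (h : Cx m) (hu : orderOf u = 2) (hg : g ∈ m u) :
    m (g * u * g⁻¹) = m u := by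
  rw [h.eqv u g hu, conj_eq_self_of_mem hg]

theorem Cx.mem {m : G → Subgroup G} (h : Cx m) (hu : orderOf u = 2) : u ∈ m u :=
  h.le u hu (self_mem_cent1 u)

theorem Cx.norm [IsSimpleGroup G] {m : G → Subgroup G} (h : Cx m) (hu : orderOf u = 2) :
    N[m u] = m u :=
  norm_eq_of_coatom (h.co u hu) (ne_bot_of_mem (h.mem hu) (ne1 hu)) le_rfl le_normalizer

theorem Cx.exists_pr [IsSimpleGroup G] {m : G → Subgroup G} (h : Cx m) (ht : orderOf t = 2) :
    ∃ v, Pr m t v := by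
  obtain ⟨S, A, hm⟩ := h.min t ht
  obtain ⟨v, hv, ho, hn⟩ := hm.not_one h.pf (h.co t ht).1 (h.le t ht) (h.o2 t ht)
  refine ⟨v, h, ht, ho, mem_cent1.1 hv, fun e => ?_⟩
  obtain ⟨g, rfl⟩ := hm.one v ho
  rw [h.eqv t g ht, conj_eq_self_iff, h.norm ht] at e
  exact hn g e rfl

namespace Pr
variable {m : G → Subgroup G} (h : Pr m t v)
include h

theorem ne : v ≠ t := fun e => h.nm (by rw [e])
theorem hw : orderOf (t * v) = 2 := ord2_mul h.ht h.hv h.ne h.c
theorem dg : DG G := by obtain ⟨S, A, hm⟩ := h.min t h.ht; exact hm.dg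
theorem ih : IH.{u} (Nat.card G) := by obtain ⟨S, A, hm⟩ := h.min t h.ht; exact hm.ih
theorem nc : ¬ IsMulCommutative G := by obtain ⟨S, A, hm⟩ := h.min t h.ht; exact hm.nc
theorem swap : Pr m v t := ⟨h.toCx, h.hv, h.ht, h.c.symm, h.nm.symm⟩
theorem vt : v ∈ C1[t] := mem_cent1.2 h.c
theorem tv : t ∈ C1[v] := mem_cent1.2 h.c.symm
theorem memt : t ∈ m t := h.mem h.ht
theorem memv : v ∈ m t := h.le t h.ht h.vt

theorem cyc : ∃ g : G, g * t * g⁻¹ = v ∧ g * v * g⁻¹ = t * v ∧ g * (t * v) * g⁻¹ = t := by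
  obtain ⟨S, A, hm⟩ := h.min t h.ht
  obtain ⟨g, h1, h2⟩ := hm.cyc3 h.hv h.ne h.c
  refine ⟨g, h1, h2, ?_⟩
  rw [show g * (t * v) * g⁻¹ = g * t * g⁻¹ * (g * v * g⁻¹) by group, h1, h2, ← h.c, tt (sq1 h.hv)]

theorem third : Pr m t (t * v) := by
  refine ⟨h.toCx, h.ht, h.hw, by rw [mul_assoc, h.c], fun e => h.nm ?_⟩
  obtain ⟨g, h1, h2, h3⟩ := h.cyc
  rw [← h1, h.eqv t g h.ht, ← e, ← h.eqv _ g h.hw, h3, e]

theorem next : Pr m v (t * v) := by have := h.swap.third; rwa [h.c] at this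

theorem cV (hx : orderOf x = 2) (c1 : x ∈ C1[t]) (c2 : x ∈ C1[v]) : x = t ∨ x = v ∨ x = t * v :=
  (h.dg.cent_V h.ht h.hv h.ne h.c (pg2 hx) c1 c2).resolve_left (ne1 hx)

theorem exV (h1 : t ∈ N[D]) (h2 : v ∈ N[D]) (hD : ¬ Odd (Nat.card D)) :
    t ∈ D ∨ v ∈ D ∨ t * v ∈ D := by
  have : Fact (Nat.Prime 2) := ⟨Nat.prime_two⟩
  have e := PG.card_modEq_card_inf_cent (V_pg h.ht h.hv h.c) (V_le h1 h2)
  rw [Nat.not_odd_iff_even, even_iff_two_dvd] at hD
  obtain ⟨x, hx, ho⟩ := exists_mem_orderOf_eq Nat.prime_two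
    ((Nat.ModEq.dvd_iff e dvd_rfl).1 hD)
  rw [cent_V] at hx
  rcases h.cV ho hx.2.1 hx.2.2 with rfl | rfl | rfl
  exacts [Or.inl hx.1, Or.inr (Or.inl hx.1), Or.inr (Or.inr hx.1)]

end Pr

end Cfsg.Agent.GW
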