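import Cfsg.Agent.GW.T1

/-! Gorenstein-Walter, Bender's Theorem 2.6: the counterexample is constrained. -/

set_option autoImplicit false
set_option linter.unusedSectionVars false
set_option linter.unusedVariables false

namespace Cfsg.Agent.GW

open Cfsg Subgroup Cfsg.Agent.GT Cfsg.Agent.Cls
open scoped commutatorElement

universe u

variable {G : Type u} [Group G] [Finite G] {S A B D E H I L M P Q R W Y : Subgroup G}
  {t s u v w x y z g a b : G} {p q : ℕ} {X : Type u} [Group X] [Finite X] {f : L →* X}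
  {K : Subgroup X}

theorem ord_f_dvd (f : L →* X) (hx : x ∈ L) : orderOf (f ⟨x, hx⟩) ∣ orderOf x :=
  (orderOf_map_dvd f _).trans (orderOf_coe (a := (⟨x, hx⟩ : L))).symm.dvd

namespace Sec
variable (h : Sec L f K)
include h

theorem tEq1 (hx : x ∈ L) : f ⟨x, hx⟩ = 1 ↔ x ∈ O[L] := by rw [← h.ker, mem_kr' hx]

theorem tOrd (hu : u ∈ L) (ho : orderOf u = 2) : orderOf (f ⟨u, hu⟩) = 2 :=
  ord2 (by rw [← map_mul, show (⟨u, hu⟩ * ⟨u, hu⟩ : L) = 1 from Subtype.ext (sq1 ho), map_one])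
    fun e => by
      have := odd_ord (O_odd L) ((h.tEq1 hu).1 e)
      rw [ho] at this
      exact absurd this (by decide)

theorem tCent (hH : H ≤ L) (hu : u ∈ L) (ho : orderOf u = 2) (hn : u ∈ N[H]) :
    im f (H ⊓ C1[u]) = im f H ⊓ C1[f ⟨u, hu⟩] :=
  im_inf_cent1_of_coprime hH hu hn (by
    rw [ho, h.ker]; exact Nat.coprime_two_right.2 (odd_card_of_le (O_odd L) inf_le_right))

theorem tSt {a : X} (ha : a ∈ K) (ho : orderOf a = 2) :
    ∃ S A : Subgroup K, St S A (⟨a, ha⟩ : K) := by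
  have := h.simple
  obtain ⟨S, A, z, hz⟩ := exists_st h.nc (h.dg.sub K)
  have ho' : orderOf (⟨a, ha⟩ : K) = 2 := by rw [← ho, ← orderOf_coe]
  obtain ⟨S', A', h', -⟩ := hz.exists_ge ho' (pg2 ho') (zpowers_le.2 (self_mem_cent1 _))
  exact ⟨S', A', h'⟩

theorem tFour {a : X} (ha : a ∈ K) (ho : orderOf a = 2) :
    ∃ b ∈ K, orderOf b = 2 ∧ b ≠ a ∧ b * a = a * b := by
  obtain ⟨S, A, hs⟩ := h.tSt ha ho
  obtain ⟨b, hb, hbA⟩ := hs.dih.ex
  exact ⟨b, b.2, by rw [orderOf_coe, hs.refl_ord hb hbA], fun e => hs.refl_ne hbA (Subtype.ext e),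
    congrArg Subtype.val (hs.comm hb)⟩

theorem tConj (ha : a ∈ L) (hb : b ∈ L) (oa : orderOf a = 2) (ob : orderOf b = 2)
    (ka : f ⟨a, ha⟩ ∈ K) (kb : f ⟨b, hb⟩ ∈ K) : ∃ k ∈ L, k * a * k⁻¹ = b := by
  obtain ⟨S, A, hs⟩ := h.tSt ka (h.tOrd ha oa)
  obtain ⟨k, hk⟩ := hs.one ⟨_, kb⟩ (by rw [← h.tOrd hb ob, ← orderOf_coe])
  obtain ⟨k0, e⟩ := h.surj k
  have h1 : b * (k0 * a * (k0 : G)⁻¹) ∈ O[L] := by
    rw [← h.tEq1 (mul_mem hb (mul_mem (mul_mem k0.2 ha) (inv_mem k0.2))),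
      show (⟨b * (k0 * a * (k0 : G)⁻¹), mul_mem hb (mul_mem (mul_mem k0.2 ha) (inv_mem k0.2))⟩ : L) =
        ⟨b, hb⟩ * (k0 * ⟨a, ha⟩ * k0⁻¹) from rfl]
    have hk' : (k : X) * f ⟨a, ha⟩ * (k : X)⁻¹ = f ⟨b, hb⟩ := congrArg Subtype.val hk
    rw [map_mul, map_mul, map_mul, map_inv, e, hk', sq1 (h.tOrd hb ob)]
  obtain ⟨n, hn⟩ := BS.conj_of_odd (sq1 ob) (sq1 (ord2_conj oa k0)) (odd_ord (O_odd L) h1)
  refine ⟨((b * (k0 * a * (k0 : G)⁻¹)) ^ n)⁻¹ * k0, mul_mem (inv_mem (pow_mem (O_le L h1) n)) k0.2, ?_⟩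
  nth_rewrite 3 [hn]
  group

theorem tNsolv (hK : K ≤ im f H) : ¬ Group.IsSolvable H := fun hs => by
  have := h.simple
  exact h.nc ⟨⟨IsSimpleGroup.comm_iff_isSolvable.2 (solv_of_le (solvable_im hs) hK)⟩⟩

theorem tMemK (hs : St S A t) (hS : S ≤ L) : f ⟨t, hS hs.memS⟩ ∈ K := by
  have := h.simple
  have := h.nrm
  obtain ⟨S', A', z, hz⟩ := exists_st h.nc (h.dg.sub K)
  have oz : orderOf (z : X) = 2 := by rw [orderOf_coe, hz.ord]
  obtain ⟨b, hb, ob, hne, c⟩ := h.tFour z.2 oz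
  have h1 := (syl_of_le hs.syl hS le_top).im (f := f) le_rfl
  rw [im_dom_of_surj h.surj] at h1
  obtain ⟨k, -, hk⟩ := syl_exists_conj_le Nat.prime_two h1 (V_pg oz ob c) le_top
  have h2 : im f S ≤ C1[f ⟨t, hS hs.memS⟩] := by
    rintro _ hy
    obtain ⟨y, hy1, hy2, rfl⟩ := mem_im.1 hy
    rw [mem_cent1, ← map_mul, ← map_mul]
    exact congrArg f (Subtype.ext (hs.comm hy2))
  have m1 := h2 (hk (conj_mem_conj.2 (mem_sup_left (mem_zpowers _))))
  have m2 := h2 (hk (conj_mem_conj.2 (mem_sup_right (mem_zpowers _))))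
  have k1 : k * z * k⁻¹ ∈ K := this.conj_mem _ z.2 k
  have k2 : k * b * k⁻¹ ∈ K := this.conj_mem _ hb k
  rcases h.dg.cent_V (ord2_conj oz k) (ord2_conj ob k) (by simpa using hne)
    (by rw [conj_mul, conj_mul, c]) (pg2 (h.tOrd _ hs.ord)) (mem_cent1_comm.1 m1)
    (mem_cent1_comm.1 m2) with e | e | e | e
  · rw [e]; exact one_mem K
  · rw [e]; exact k1
  · rw [e]; exact k2
  · rw [e]; exact mul_mem k1 k2

theorem tPer (hE : E ≤ L) (per : ⁅E, E⁆ = E) : im f E ≤ K := by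
  rcases h.ty with ⟨n, r, hl⟩ | ⟨e, -⟩
  · rw [← per, im_commutator hE hE]
    exact (commutator_mono le_top le_top).trans hl.comm
  · rw [e]; exact le_top

end Sec

theorem ET.tMem (h : ET L E f K) (hu : u ∈ L) (ho : orderOf u = 2) (hk : f ⟨u, hu⟩ ∈ K) :
    u ∈ E := by
  rw [← h.imE, mem_im_iff_mem_sup hu h.le, h.ker] at hk
  obtain ⟨e, he, o, hO, rfl⟩ := (mem_sup_of_le_norm (le_norm_of_cent h.cO)).1 hk
  have c : Commute e o := (le_cent_iff.1 h.cO e he o hO).symm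
  obtain ⟨k, hk⟩ := odd_ord (O_odd L) hO
  have : e * o = e ^ orderOf o := by
    rw [← mul_one (e ^ _), ← pow_orderOf_eq_one o, ← c.mul_pow, hk, pow_succ, pow_mul, pow_two,
      sq1 ho, one_pow, one_mul]
  rw [this]
  exact pow_mem he _

/-- lifting an involution commuting with the image of `t`. -/
theorem ET.tLift (h : ET L E f K) (ht : t ∈ L) (ho : orderOf t = 2) {b : X} (hb : b ∈ K)
    (ob : orderOf b = 2) (c : b ∈ C1[f ⟨t, ht⟩]) :
    ∃ s, ∃ hs : s ∈ L, s ∈ E ∧ s ∈ C1[t] ∧ orderOf s = 2 ∧ f ⟨s, hs⟩ = b := by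
  have h1 : b ∈ im f (E ⊓ C1[t]) := by
    rw [h.tCent h.le ht ho (h.norm ht), h.imE]; exact ⟨hb, c⟩
  obtain ⟨e, he, ⟨h2, h3⟩, rfl⟩ := mem_im.1 h1
  have h4 : e * e ∈ O[L] := by
    rw [← h.tEq1 (mul_mem he he), ← sq1 ob, ← map_mul]; rfl
  obtain ⟨k, hk⟩ := odd_ord (O_odd L) h4
  have h5 : f ⟨e ^ (2 * k + 1), pow_mem he _⟩ = f ⟨e, he⟩ := by
    rw [show (⟨e ^ (2 * k + 1), pow_mem he _⟩ : L) = ⟨e, he⟩ ^ (2 * k + 1) from rfl, map_pow,
      pow_succ, pow_mul, pow_two, sq1 ob, one_pow, one_mul]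
  refine ⟨e ^ (2 * k + 1), pow_mem he _, pow_mem h2 _, pow_mem h3 _, ord2 ?_ fun e1 => ?_, h5⟩
  · rw [← (Commute.refl e).mul_pow, ← hk, pow_orderOf_eq_one]
  · rw [← h5] at ob
    exact ne1 ob (by rw [← map_one f]; exact congrArg f (Subtype.ext e1))

namespace Pr
variable [IsSimpleGroup G] {m : G → Subgroup G} (h : Pr m t v) {f : m t →* X}
  (e : ET (m t) E f K)
include h e

theorem ftK : f ⟨t, h.memt⟩ ∈ K := by
  obtain ⟨S, A, hm⟩ := h.min t h.ht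
  exact e.tMemK hm.toSt (hm.cen.trans (h.le t h.ht))

theorem tE : t ∈ E := e.tMem h.memt h.ht (h.ftK e)

theorem mK (hu : u ∈ m t) (ho : orderOf u = 2) (hk : f ⟨u, hu⟩ ∈ K) : m u = m t := by
  obtain ⟨k, hk', rfl⟩ := e.tConj h.memt hu h.ht ho (h.ftK e) hk
  exact h.fix h.ht hk'

theorem fvK : f ⟨v, h.memv⟩ ∉ K := fun hk => h.nm (h.mK e h.memv h.hv hk)

theorem lt : ∃ n r, LT K n r :=
  e.ty.resolve_right fun h1 => h.fvK e (h1.1 ▸ mem_top _)

/-- uniqueness. -/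
theorem uniqE (hL : L ≠ ⊤) (hE : E ≤ L) : L ≤ m t := by
  have tE := h.tE e
  have ot := e.tOrd h.memt h.ht
  obtain ⟨b, hb, ob, hne, c⟩ := e.tFour (h.ftK e) ot
  obtain ⟨s, hs, sE, cs, os, rfl⟩ := e.tLift h.memt h.ht hb ob (mem_cent1.2 c)
  have st : s ≠ t := fun e1 => hne (by simp only [e1])
  have c1 := mem_cent1.1 cs
  have hO : O[L] ≤ m t := by
    refine gen3 h.ht os st c1 (O_odd L) (O_norm L (hE tE)) (O_norm L (hE sE))
      (inf_le_right.trans (h.le t h.ht)) (inf_le_right.trans ?_) (inf_le_right.trans ?_)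
    · rw [← h.mK e hs os hb]; exact h.le s os
    · have o := ord2_mul h.ht os st c1
      rw [← h.mK e (mul_mem h.memt hs) o (by
        rw [show (⟨t * s, mul_mem h.memt hs⟩ : m t) = ⟨t, h.memt⟩ * ⟨s, hs⟩ from rfl, map_mul]
        exact mul_mem (h.ftK e) hb)]
      exact h.le _ o
  obtain ⟨X', _, _, f', K', e'⟩ := exists_sec' h.pp h.dg h.ih hL fun hs =>
    e.tNsolv e.imE.ge (solv_of_le hs hE)
  have hK := e'.tPer hE e.per
  have hM : K' ≤ im f' (m t ⊓ L) := by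
    by_contra hn
    have o' := e'.tOrd (hE tE) h.ht
    have h1 := e'.t26 _ (hK (mem_im_of_mem (hE tE) tE)) o' (im f' (m t ⊓ L) ⊓ K') inf_le_right
      (fun e1 => hn (e1 ▸ inf_le_left)) (le_inf (by
        have := e'.tCent le_rfl (hE tE) h.ht (le_normalizer (hE tE))
        rw [im_dom_of_surj e'.surj, top_inf_eq] at this
        rw [← this]
        exact inf_le_right.trans (im_mono (le_inf (inf_le_right.trans (h.le t h.ht)) inf_le_left)))
        inf_le_left)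
    have h2 : f' ⟨t, hE tE⟩ ∈ piCoreOf {2} (im f' E) :=
      piCoreOf_inf_le (le_inf (im_mono (le_inf e.le hE)) hK) ⟨h1, mem_im_of_mem _ tE⟩
    set N := E ⊓ pre f' (piCoreOf {2} (im f' E)) with hN
    have h3 : E ≤ N[N] := le_norm_inf le_normalizer (le_norm_pre hE (self_le_norm_piCoreOf _ _))
    have h4 : Group.IsSolvable N := solvable_of_im (f := f') (inf_le_left.trans hE)
      (by rw [e'.ker]; exact solv_of_le (O_solv L) inf_le_right)
      (solv_of_le (solvable_of_isPGroup Nat.prime_two (piCoreOf_isPGroup Nat.prime_two _))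
        (im_le_of_le_pre inf_le_right))
    have h5 : im f N ≤ K := e.imE ▸ im_mono inf_le_left
    have := e.simple
    rcases (normal_subgroupOf (e.imE ▸ im_norm h3 : K ≤ N[im f N])).eq_bot_or_eq_top with e1 | e1
    · have : (⟨_, h.ftK e⟩ : K) ∈ (im f N).subgroupOf K :=
        mem_im_of_mem h.memt ⟨tE, (mem_pre' _).2 h2⟩
      rw [e1, mem_bot, Subtype.ext_iff] at this
      exact ne1 ot this
    · exact e.tNsolv (subgroupOf_eq_top.1 e1) h4
  have hP : pre f' K' ≤ m t := (pre_mono hM).trans (by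
    rw [pre_im inf_le_right, e'.ker]; exact sup_le inf_le_left hO)
  have := e'.nrm
  have hn : L ≤ N[pre f' K'] := dom_le_norm_pre le_norm_of_normal
  rw [← norm_eq_of_coatom (h.co t h.ht) (ne_bot_of_mem tE (ne1 h.ht)) e.le e.norm]
  intro l hl
  refine mem_normalizer_of_conj_le (e.uniq _ ?_ (by rw [← conj_commutator, e.per]))
  rw [← conj_eq_self (hn hl)] at hP
  exact (conj_mono l ((im_le_iff hE).1 hK)).trans hP

theorem exX : ∃ x, ∃ hx : x ∈ E, x ∈ O[m v] ∧ C1[x] ≤ m v ∧ t * x * t⁻¹ = x⁻¹ ∧ x ∈ C1[v] ∧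
    f ⟨x, e.le hx⟩ ≠ 1 ∧ ∀ z, ∀ hz : z ∈ E, z ∈ C1[x] → f ⟨z, e.le hz⟩ ∈ C1[f ⟨v, h.memv⟩] := by
  obtain ⟨n, r, hl⟩ := h.lt e
  have ot := e.tOrd h.memt h.ht
  have ov := e.tOrd h.memv h.hv
  have tE := h.tE e
  have hr : Odd r := by
    obtain ⟨k, hk⟩ := hl.even
    rcases hl.ar with e1 | e1
    · exact ⟨k, by omega⟩
    · exact ⟨k - 1, by omega⟩
  have hrn : r.Coprime (2 * n) := by
    refine Nat.Coprime.mul_right (Nat.coprime_two_right.2 hr) ?_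
    rcases hl.ar with e1 | e1 <;> rw [e1] <;> simp
  obtain ⟨T, hT, -, hTr, hT2⟩ := hl.tor _ ov
  obtain ⟨T', hT', hTn, -, -⟩ := hl.tor _ ot
  replace hTr := hTr (h.fvK e)
  have oT : Odd (Nat.card T) := hTr ▸ hr
  obtain ⟨y, hy, hy1⟩ := exists_ne_one_of_ne_bot (H := T) (by
    rw [ne_bot_iff_one_lt_card, hTr]; have := hl.r3; omega)
  have h1 : y ∈ im f (E ⊓ C1[v]) := by
    rw [e.tCent e.le h.memv h.hv (e.norm h.memv), e.imE]; exact hT.le hy
  obtain ⟨x0, hx0, ⟨h2, h3⟩, rfl⟩ := mem_im.1 h1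
  have ctv : f ⟨t, h.memt⟩ ∈ C1[f ⟨v, h.memv⟩] := by
    rw [mem_cent1, ← map_mul, ← map_mul]; exact congrArg f (Subtype.ext h.c.symm)
  have h4 := hT.inv ⟨h.ftK e, ctv⟩ (fun e1 => by
    have := odd_ord oT e1
    rw [ot] at this
    exact absurd this (by decide)) (inv_mem hy)
  set x := x0 * (t * x0⁻¹ * t⁻¹) with hx
  have xE : x ∈ E := mul_mem h2 (mul_mem (mul_mem tE (inv_mem h2)) (inv_mem tE))
  have xv : x ∈ C1[v] := mul_mem h3 (mul_mem (mul_mem h.tv (inv_mem h3)) (inv_mem h.tv))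
  have xi : t * x * t⁻¹ = x⁻¹ := by
    simp only [hx, inv2 h.ht, mul_inv_rev, inv_inv, mul_assoc, sq1 h.ht, mul_one]
  have fx : f ⟨x, e.le xE⟩ = f ⟨x0, hx0⟩ * f ⟨x0, hx0⟩ := by
    rw [show (⟨x, e.le xE⟩ : m t) = ⟨x0, hx0⟩ * (⟨t, h.memt⟩ * ⟨x0, hx0⟩⁻¹ * ⟨t, h.memt⟩⁻¹) from rfl,
      map_mul, map_mul, map_mul, map_inv, map_inv, h4, inv_inv]
  have fxT : f ⟨x, e.le xE⟩ ∈ T := fx ▸ mul_mem hy hy
  have fx1 : f ⟨x, e.le xE⟩ ≠ 1 := fun e1 => hy1 (eq1_of_odd (odd_ord oT hy) (fx ▸ e1))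
  have xr : x ^ r = 1 := by
    have h5 : x ^ r ∈ O[m t] := by
      rw [← e.tEq1 (pow_mem (e.le xE) r), show (⟨x ^ r, pow_mem (e.le xE) r⟩ : m t) =
        ⟨x, e.le xE⟩ ^ r from rfl, map_pow, ← hTr]
      exact PG.pow_card_eq_one_of_mem fxT
    exact eq1_of_inv_fix (odd_ord (O_odd _) h5) (by rw [← conj_pow, xi, inv_pow])
      (mem_cent_iff.1 (e.cO tE) h5)
  have x1 : x ≠ 1 := fun e1 => fx1 (by rw [← map_one f]; exact congrArg f (Subtype.ext e1))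
  obtain ⟨g, g1, g2, g3⟩ := h.cyc
  obtain ⟨x', hx'⟩ : ∃ x', g * x' * g⁻¹ = x := ⟨g⁻¹ * x * g, by group⟩
  have x't : x' ∈ C1[t] := by rw [← conj_mem_conj (g := g), conj_cent1, g1, hx']; exact xv
  have x'M := h.le t h.ht x't
  have x'r : orderOf x' ∣ r := by
    rw [← orderOf_conj g, hx']; exact orderOf_dvd_of_pow_eq_one xr
  have x'O : x' ∈ O[m t] := by
    rw [← e.tEq1 x'M, ← orderOf_eq_one_iff]
    refine Nat.eq_one_of_dvd_coprimes hrn ((ord_f_dvd f x'M).trans x'r) ?_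
    rw [← (hTn (h.ftK e)).2, ← hT'.card]
    refine orderOf_dvd_card_of_mem ⟨hl.comm ?_, mem_cent1.2 ?_⟩
    · have h5 := mem_comm_of_inv (t := t * v) x'M (hr.of_dvd_nat x'r) (by
        rw [← mul_left_cancel_iff (a := g), ← mul_right_cancel_iff (a := g⁻¹),
          show g * (t * v * x' * (t * v)⁻¹) * g⁻¹ =
            g * (t * v) * g⁻¹ * (g * x' * g⁻¹) * (g * (t * v) * g⁻¹)⁻¹ by group, g3, hx', xi, ← hx']
        group)
      have h6 := mem_im_of_mem (f := f) x'M h5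
      rw [im_commutator le_rfl (zpowers_le.2 h.third.memv)] at h6
      exact commutator_mono le_top le_top h6
    · rw [← map_mul, ← map_mul]; exact congrArg f (Subtype.ext (mem_cent1.1 x't))
  have mv : m v = cj[g] (m t) := by rw [← h.eqv t g h.ht, g1]
  refine ⟨x, xE, ?_, ?_, xi, xv, fx1, fun z hz cz => ?_⟩
  · rw [mv, ← conj_piCoreOf, ← hx']; exact conj_mem_conj.2 x'O
  · rw [mv, ← hx', ← conj_cent1]
    refine conj_mono g (h.uniqE e ?_ (e.cO.trans (cent_le_cent1 x'O)))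
    rw [← cent_zpowers]
    refine fun e1 => norm_ne_top (Z := zpowers x') (ne_bot_of_mem (mem_zpowers _) fun e2 => x1 ?_)
      (solvable_of_comm (PG.isMulCommutative_zpowers _)) h.nc (top_le_iff.1 (e1 ▸ cent_le_norm _))
    rw [← hx', e2]; group
  · refine (hT.le ((hT2 _ fxT fun e1 => fx1 (eq1_of_odd (odd_ord oT fxT) e1)).1
      ⟨e.imE.le (mem_im_of_mem _ hz), mem_cent1.2 ?_⟩)).2
    rw [← map_mul, ← map_mul]; exact congrArg f (Subtype.ext (mem_cent1.1 cz))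

theorem OleE : O[m t] ≤ m v := by
  obtain ⟨x, hx, -, h1, -⟩ := h.exX e
  exact (mem_cent_iff.1 (e.cO hx)).trans h1

end Pr

theorem con_conj (h : Con L) (g : G) : Con (cj[g] L) := by
  unfold Con at *
  rw [← conj_fittingOf, ← conj_centralizer, ← conj_inf]
  exact conj_mono g h

theorem Pr.con [IsSimpleGroup G] {m : G → Subgroup G} (h : Pr m t v) : Con (m t) := by
  by_contra hc
  obtain ⟨g, g1, g2, g3⟩ := h.cyc
  have hw : ¬ Con (m (t * v)) := fun h1 => hc (by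
    rw [← g3, h.eqv _ g h.hw]; exact con_conj h1 g)
  have hv : ¬ Con (m v) := fun h1 => hw (by rw [← g2, h.eqv _ g h.hv]; exact con_conj h1 g)
  obtain ⟨X, _, _, f, K, E, e⟩ := exists_ET' h.pp h.dg h.ih (h.co t h.ht).1 hc
  obtain ⟨Xv, _, _, fv, Kv, Ev, ev⟩ := exists_ET' h.pp h.dg h.ih (h.co v h.hv).1 hv
  obtain ⟨Xw, _, _, fw, Kw, Ew, ew⟩ := exists_ET' h.pp h.dg h.ih (h.co _ h.hw).1 hw
  obtain ⟨x, xE, xO, -, xi, xv, -, hx⟩ := h.exX e
  obtain ⟨y, yE, yO, -, yi, yw, fy, -⟩ := h.third.exX e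
  have h1 := h.next.OleE ev
  have h2 := h.next.swap.OleE ew
  have c1 := ev.cO (h.next.tE ev)
  have c2 := ew.cO (h.next.swap.tE ew)
  set D := O[m v] ⊓ O[m (t * v)] with hD
  have ox := odd_ord (O_odd _) xO
  have oy := odd_ord (O_odd _) yO
  have xD : x ∈ N[D] := le_norm_inf (le_normalizer) (h1.trans (O_norm _)) xO
  have yD : y ∈ N[D] := le_norm_inf (h2.trans (O_norm _)) (le_normalizer) yO
  have xw : t * v * x * (t * v)⁻¹ = x⁻¹ := by
    rw [← xi, mul_assoc t v, ← mem_cent1.1 xv]; group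
  have yv : v * y * v⁻¹ = y⁻¹ := by
    have : t * v * y * (t * v)⁻¹ = y := by rw [← mem_cent1.1 yw]; group
    rw [show v * y * v⁻¹ = t⁻¹ * (t * v * y * (t * v)⁻¹) * t by group, this, inv2 h.ht, ← yi,
      inv2 h.ht]
  have key : ∀ {a b : G}, a ∈ N[D] → Odd (orderOf a) → b ∈ C[D] → b * a * b⁻¹ = a⁻¹ → a ∈ C[D] :=
    fun {a b} h1 h2 h3 h4 => commutator_le_cent_of_norm_of_cent (zp_norm h1) (zpowers_le.2 h3)
      (mem_comm_of_inv (mem_zpowers a) h2 h4)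
  have xC := key xD ox (cent_anti inf_le_right c2) xw
  have yC := key yD oy (cent_anti inf_le_left c1) yv
  have cD : ⁅x, y⁆ ∈ D :=
    ⟨commutator_le_of_le_norm_left (h2.trans (O_norm _)) (commutator_mem_commutator xO yO),
      commutator_le_of_le_norm_right (h1.trans (O_norm _)) (commutator_mem_commutator xO yO)⟩
  have c3 : ⁅x, y⁆ = 1 := by
    refine eq1_of_inv_fix (t := v) (odd_ord (O_odd _) cD.1) ?_ (mem_cent_iff.1 c1 cD.1)
    have a1 := mem_cent1.1 (mem_cent_iff.1 yC cD)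
    have a2 : v * x * v⁻¹ = x := by rw [← mem_cent1.1 xv]; group
    rw [show v * ⁅x, y⁆ * v⁻¹ = ⁅v * x * v⁻¹, v * y * v⁻¹⁆ by simp only [commutatorElement_def]; group,
      a2, yv, show ⁅x, y⁻¹⁆ = (y⁻¹ * (⁅x, y⁆ * y))⁻¹ by simp only [commutatorElement_def]; group, a1]
    group
  have c4 := hx y yE (mem_cent1.2 (commutatorElement_eq_one_iff_mul_comm.1 c3).symm)
  refine fy (eq1_of_inv_fix (oy.of_dvd_nat (ord_f_dvd f _)) ?_ c4)
  rw [← map_inv, ← map_mul, ← map_mul, ← map_inv]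
  exact congrArg f (Subtype.ext yv)

end Cfsg.Agent.GW
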