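import Cfsg.Agent.GW.T2

/-! Gorenstein-Walter, Bender's Theorem 2.6: the arrow relation and characteristic `p`. -/

set_option autoImplicit false
set_option linter.unusedSectionVars false
set_option linter.unusedVariables false

namespace Cfsg.Agent.GW

open Cfsg Subgroup Cfsg.Agent.GT Cfsg.Agent.Cls
open scoped commutatorElement

universe u

variable {G : Type u} [Group G] [Finite G] [IsSimpleGroup G]
  {S A B D E H I L M P Q R W X Y : Subgroup G} {t s u v w x y z g a b : G} {p q : ℕ}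
  {m : G → Subgroup G}

theorem Cx.con (h : Cx m) (hu : orderOf u = 2) : Con (m u) := by
  obtain ⟨v, hv⟩ := h.exists_pr hu
  exact hv.con

/-- Bender's arrow relation. -/
structure Ar (M Y L : Subgroup G) : Prop where
  le : Y ≤ fittingOf M
  leL : Y ≤ L
  cent : fittingOf M ⊓ C[Y] ≤ L

theorem Ar.of_norm (h : Y ≤ fittingOf M) (hL : N[Y] ≤ L) : Ar M Y L :=
  ⟨h, le_normalizer.trans hL, inf_le_right.trans ((cent_le_norm Y).trans hL)⟩

/-- `u` centralizes the odd part of `F(L)`. -/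
def CJ (u : G) (L : Subgroup G) : Prop := ∀ q : ℕ, q.Prime → q ≠ 2 → piCoreOf {q} L ≤ C1[u]

theorem fit_compl (hq : q.Prime) (h : piCoreOf {q} M = ⊥) : IsPiSubgroup {q}ᶜ (fittingOf M) := by
  have := syl_piCoreOf_fittingOf (H := M) hq
  rw [h] at this
  exact this.isPi_compl_of_eq_bot

theorem Cx.A1 (h : Cx m) (hu : orderOf u = 2) (a : Ar (m u) Y L) (hq : q.Prime)
    (h0 : piCoreOf {q} (m u) = ⊥) : piCoreOf {q} L ⊓ m u = ⊥ := by
  have hF := fit_compl hq h0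
  have hc : fittingOf (m u) ⊓ L ≤ C[piCoreOf {q} L ⊓ m u] := le_cent_of_norm_of_coprime
    (le_norm_inf (inf_le_right.trans (self_le_norm_piCoreOf _ _))
      (inf_le_left.trans ((fittingOf_le _).trans le_normalizer)))
    (le_norm_inf (inf_le_right.trans (self_le_norm_fittingOf _))
      (inf_le_left.trans ((piCoreOf_le _ _).trans le_normalizer)))
    (hF.inf_left.coprime' (piCoreOf_isPi _ _).inf_left)
  exact eq_bot_iff.2 fun x hx => mem_bot.2 (arrow (h.con hu) a.le a.leL a.cent hx.2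
    (hF.piNat.coprime' ((piCoreOf_isPi _ _).orderOf hx.1)) (hc.trans (cent_le_cent1 hx)))

theorem le_c1_of_comm (ht : orderOf t = 2) (hn : t ∈ N[W]) (ho : Odd (Nat.card W))
    (h : ⁅W, zpowers t⁆ ≤ C1[t]) : W ≤ C1[t] := by
  rw [← comm_eq_bot_iff, ← comm_comm2 ht hn ho, comm_eq_bot_iff]
  exact h

theorem Pr.KK (h : Pr m t v) (hp : p.Prime) (hp2 : p ≠ 2) (hL : L ≠ ⊤) (ht : t ∈ L)
    (hW : IsPGroup p W) (hn : C1[t] ≤ N[W]) : ⁅W ⊓ L, zpowers t⁆ ≤ piCoreOf {p} L :=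
  K1' h.pp h.dg h.ih hL h.ht ht hp hp2 (hW.to_le inf_le_left) inf_le_right
    (le_norm_inf (inf_le_right.trans hn) (inf_le_left.trans le_normalizer))

/-- if `t` centralizes `O_q(L)` it centralizes `O_q(m t) ⊓ L`. -/
theorem Pr.cj1 (h : Pr m t v) (hq : q.Prime) (hq2 : q ≠ 2) (hL : L ≠ ⊤) (ht : t ∈ L)
    (hc : piCoreOf {q} L ≤ C1[t]) : piCoreOf {q} (m t) ⊓ L ≤ C1[t] :=
  have hW := piCoreOf_isPGroup hq (m t)
  le_c1_of_comm h.ht (le_norm_inf (zp_norm (self_le_norm_piCoreOf _ _ h.memt))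
      (zp_norm (le_normalizer ht)) (mem_zpowers t))
    (odd_p hq hq2 (hW.to_le inf_le_left))
    ((h.KK hq hq2 hL ht hW ((h.le t h.ht).trans (self_le_norm_piCoreOf _ _))).trans hc)

theorem Pr.A2 (h : Pr m t v) (a : Ar (m t) Y L) (hL : L ≠ ⊤) (ht : t ∈ L) : ¬ CJ t L := fun hc => by
  refine ne1 h.ht (arrow h.con a.le a.leL a.cent h.memt ?_ ?_)
  · rw [h.ht]
    exact Nat.coprime_two_right.2 (odd_iff_pi.1 (fit_compl Nat.prime_two (h.o2 t h.ht)))
  refine nil_le_of_forall_piCoreOf_le (nilpotent_of_le_fittingOf inf_le_left) fun q hq _ => ?_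
  have h1 : piCoreOf {q} (fittingOf (m t) ⊓ L) ≤ piCoreOf {q} (m t) ⊓ L :=
    le_inf (le_piCoreOf_of_le_fittingOf ((piCoreOf_le _ _).trans inf_le_left) (piCoreOf_isPi _ _))
      ((piCoreOf_le _ _).trans inf_le_right)
  by_cases hq2 : q = 2
  · rw [hq2, h.o2 t h.ht, bot_inf_eq] at h1
    rw [hq2]; exact h1.trans bot_le
  · exact h1.trans (h.cj1 hq hq2 hL ht (hc q hq hq2))

theorem Pr.A3 (h : Pr m t v) (ht : t ∈ L) (hv : v ∈ L) (n1 : ¬ CJ t L) (n2 : ¬ CJ v L)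
    (n3 : ¬ CJ (t * v) L) : piCoreOf {2} L = ⊥ ∧ Con L := by
  have key : ∀ D : Subgroup G, L ≤ N[D] → (∀ u ∈ D, CJ u L) → Odd (Nat.card D) := fun D hn hD => by
    by_contra h0
    rcases h.exV (hn ht) (hn hv) h0 with e | e | e
    exacts [n1 (hD _ e), n2 (hD _ e), n3 (hD _ e)]
  constructor
  · exact (piCoreOf_isPi _ _).eq_bot (odd_iff_pi.2 (key _ (self_le_norm_piCoreOf _ _)
      fun u hu q hq hq2 => (Op_cent hq Nat.prime_two hq2).trans (cent_le_cent1 hu)))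
  · have hn : L ≤ N[L ⊓ C[fittingOf L]] :=
      le_norm_inf le_normalizer (le_norm_cent (self_le_norm_fittingOf L))
    have h1 := fittingOf_le_of_normal inf_le_left hn
    exact (le_fittingOf_of_le_cent (solv_odd (key _ hn fun u hu q hq hq2 =>
      (piCoreOf_single_le_fittingOf hq).trans (mem_cent_iff.1 hu.2))) le_rfl
      (inf_le_right.trans (cent_anti h1))).trans h1

/-- maximal subgroups of characteristic `p`. -/
structure CP (p : ℕ) (L : Subgroup G) : Prop where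
  co : IsCoatom L
  ne : piCoreOf {p} L ≠ ⊥
  cent : L ⊓ C[piCoreOf {p} L] ≤ piCoreOf {p} L

theorem fit_eq (hp : p.Prime) (h : ∀ q, q.Prime → q ≠ p → piCoreOf {q} L = ⊥) :
    fittingOf L = piCoreOf {p} L :=
  le_antisymm (fittingOf_le_of_forall_piCoreOf fun q hq => by
    by_cases e : q = p
    · rw [e]
    · rw [h q hq e]; exact bot_le) (piCoreOf_single_le_fittingOf hp)

theorem cp_mk (hp : p.Prime) (co : IsCoatom L) (con : Con L) (h1 : L ≠ ⊥)
    (h : ∀ q, q.Prime → q ≠ p → piCoreOf {q} L = ⊥) : CP p L := by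
  unfold Con at con
  rw [fit_eq hp h] at con
  refine ⟨co, fun e => h1 ?_, con⟩
  rwa [e, cent_bot, inf_top_eq, le_bot_iff] at con

theorem CP.eq (h : CP p L) (hG : DG G) (hp : p.Prime) (hp2 : p ≠ 2) (hR : IsPiHallOf {p} R L) :
    N[zPuigOf R] = L :=
  norm_eq_of_coatom h.co (zPuigOf_ne_bot hp (syl_isPGroup hp hR)
    (ne_bot_of_le h.ne (piCoreOf_le_hall hR))) ((zPuigOf_le R).trans hR.le)
    (puig hG hp hp2 h.cent hR)

theorem CP.syl (h : CP p L) (hG : DG G) (hp : p.Prime) (hp2 : p ≠ 2) (hR : IsPiHallOf {p} R L) :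
    IsPiHallOf {p} R ⊤ :=
  syl_top_of_norm_le hp hR ((norm_le_norm_zPuigOf R).trans (h.eq hG hp hp2 hR).le)

/-- all Fitting subgroups of the `m u` are `p`-groups. -/
def Chr (m : G → Subgroup G) (p : ℕ) : Prop :=
  ∀ u : G, orderOf u = 2 → ∀ q : ℕ, q.Prime → q ≠ p → piCoreOf {q} (m u) = ⊥

theorem Cx.cp (h : Cx m) (hp : p.Prime) (hc : Chr m p) (hu : orderOf u = 2) : CP p (m u) :=
  cp_mk hp (h.co u hu) (h.con hu) (ne_bot_of_mem (h.mem hu) (ne1 hu)) (hc u hu)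

namespace Pr
variable (h : Pr m t v) (hp : p.Prime) (hp2 : p ≠ 2) (hc : Chr m p)
include h hp hp2 hc

theorem cp_cases (hL : IsCoatom L) (ht : t ∈ L) (hv : v ∈ L) (n1 : ¬ CJ t L) (n2 : ¬ CJ v L)
    (n3 : ¬ CJ (t * v) L) (hq : ∀ q, q.Prime → q ≠ 2 → q ≠ p → piCoreOf {q} L = ⊥) :
    L = m t ∨ L = m v ∨ L = m (t * v) := by
  obtain ⟨h2, con⟩ := h.A3 ht hv n1 n2 n3
  have c1 : CP p L := cp_mk hp hL con (ne_bot_of_mem ht (ne1 h.ht)) fun q h1 h3 => by
    by_cases e : q = 2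
    · rw [e, h2]
    · exact hq q h1 e h3
  have c2 := h.cp hp hc h.ht
  obtain ⟨R, hR⟩ := exists_syl hp (m t)
  obtain ⟨R', hR'⟩ := exists_syl hp L
  obtain ⟨g, -, e⟩ := syl_exists_conj hp (c2.syl h.dg hp hp2 hR) (c1.syl h.dg hp hp2 hR')
  have oz := ord2_conj h.ht g
  have e1 : L = m (g * t * g⁻¹) := by
    rw [h.eqv t g h.ht, ← c2.eq h.dg hp hp2 hR, conj_normalizer, conj_zPuigOf, ← e,
      c1.eq h.dg hp hp2 hR']
  obtain ⟨S, A, hm⟩ := h.min _ oz
  obtain ⟨k, hk, hle⟩ := syl_exists_le_conj Nat.prime_two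
    (syl_of_le hm.syl (hm.cen.trans (h.le _ oz)) le_top) (V_pg h.ht h.hv h.c) (e1 ▸ V_le ht hv)
  replace hle := hle.trans (conj_mono k hm.cen)
  rw [conj_cent1] at hle
  rw [e1, ← h.fix oz hk]
  rcases h.cV (ord2_conj oz k) (mem_cent1_comm.1 (hle (mem_sup_left (mem_zpowers _))))
    (mem_cent1_comm.1 (hle (mem_sup_right (mem_zpowers _)))) with e | e | e <;> simp [e]

theorem T0 : piCoreOf {p} (m t) ⊓ piCoreOf {p} (m v) ⊓ piCoreOf {p} (m (t * v)) = ⊥ := by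
  by_contra h0
  set T := piCoreOf {p} (m t) ⊓ piCoreOf {p} (m v) ⊓ piCoreOf {p} (m (t * v)) with hT
  obtain ⟨L, hL, hN⟩ := exists_coatom_ge (norm_ne_top h0 (solvable_of_isPGroup hp
    ((piCoreOf_isPGroup hp _).to_le inf_le_right)) h.nc)
  have nT : ∀ x, x ∈ m t → x ∈ m v → x ∈ m (t * v) → x ∈ L := fun x h1 h2 h3 =>
    hN (le_norm_inf (A := zpowers x) (le_norm_inf (zp_norm (self_le_norm_piCoreOf _ _ h1))
      (zp_norm (self_le_norm_piCoreOf _ _ h2))) (zp_norm (self_le_norm_piCoreOf _ _ h3))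
      (mem_zpowers x))
  have ht := nT t h.memt h.swap.memv h.third.swap.memv
  have hv := nT v h.memv h.swap.memt h.next.swap.memv
  have hF : ∀ {M : Subgroup G}, p.Prime → piCoreOf {p} M ≤ fittingOf M :=
    piCoreOf_single_le_fittingOf
  have a1 : Ar (m t) T L := .of_norm (inf_le_left.trans (inf_le_left.trans (hF hp))) hN
  have a2 : Ar (m v) T L := .of_norm (inf_le_left.trans (inf_le_right.trans (hF hp))) hN
  have a3 : Ar (m (t * v)) T L := .of_norm (inf_le_right.trans (hF hp)) hN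
  obtain ⟨g, g1, g2, g3⟩ := h.cyc
  have hg : g ∈ L := hN (mem_normalizer_of_conj_le (by
    rw [hT, conj_inf, conj_inf, conj_piCoreOf, conj_piCoreOf, conj_piCoreOf, ← h.eqv _ g h.ht,
      ← h.eqv _ g h.hv, ← h.eqv _ g h.hw, g1, g2, g3]
    exact le_inf (le_inf inf_le_right (inf_le_left.trans inf_le_left))
      (inf_le_left.trans inf_le_right)))
  rcases h.cp_cases hp hp2 hc hL ht hv (h.A2 a1 hL.1 ht) (h.swap.A2 a2 hL.1 hv)
    (h.third.swap.A2 a3 hL.1 (mul_mem ht hv)) (fun q hq hq2 hqp => le_bot_iff.1 (by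
      refine gen3 h.ht h.hv h.ne h.c (odd_p hq hq2 (piCoreOf_isPGroup hq L))
        (self_le_norm_piCoreOf _ _ ht) (self_le_norm_piCoreOf _ _ hv) ?_ ?_ ?_
      · rw [← h.A1 h.ht a1 hq (hc _ h.ht q hq hqp)]; exact inf_le_inf_left _ (h.le _ h.ht)
      · rw [← h.A1 h.hv a2 hq (hc _ h.hv q hq hqp)]; exact inf_le_inf_left _ (h.le _ h.hv)
      · rw [← h.A1 h.hw a3 hq (hc _ h.hw q hq hqp)]; exact inf_le_inf_left _ (h.le _ h.hw)))
    with e | e | e
  · exact h.nm (by rw [← g1, h.fix h.ht (e ▸ hg)])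
  · exact h.next.nm (by rw [← g2, h.fix h.hv (e ▸ hg)])
  · exact h.third.nm (by rw [← h.fix h.hw (e ▸ hg), g3])

/-- a four-group invariant Sylow subgroup of `m t ⊓ m v`. -/
theorem exD : ∃ D : Subgroup G, IsPGroup p D ∧ t ∈ N[D] ∧ v ∈ N[D] ∧
    piCoreOf {p} (m t) ⊓ m v ≤ D ∧ piCoreOf {p} (m v) ⊓ m t ≤ D ∧ ¬ N[D] ≤ m t ∧ ¬ N[D] ≤ m v := by
  set V := zpowers t ⊔ zpowers v with hV
  have hVI : V ≤ m t ⊓ m v := V_le ⟨h.memt, h.swap.memv⟩ ⟨h.memv, h.swap.memt⟩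
  have pV : IsPGroup 2 V := V_pg h.ht h.hv h.c
  have key : ∀ {a b x : G}, Pr m a b → x ∈ m a → x * a * x⁻¹ ∈ zpowers a ⊔ zpowers b →
      x ∈ C1[a] := fun {a b x} k hx h1 => by
    have e := k.fix k.ht hx
    rcases (mem_V k.ht k.hv k.c).1 h1 with e1 | e1 | e1 | e1
    · exact absurd (conj_eq_one_iff.1 e1) (ne1 k.ht)
    · exact mem_cent1.2 (mul_inv_eq_iff_eq_mul.1 e1)
    · exact absurd (e1 ▸ e) k.nm
    · exact absurd (e1 ▸ e) k.third.nm
  have hB : m t ⊓ m v ⊓ N[V] ≤ C[V] := fun x hx => by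
    rw [hV, cent_V]
    exact ⟨key h hx.1.1 (conj_mem_of_mem_norm hx.2 (mem_sup_left (mem_zpowers t))),
      key h.swap hx.1.2 (sup_comm (zpowers t) _ ▸
        conj_mem_of_mem_norm hx.2 (mem_sup_right (mem_zpowers v)))⟩
  have hS : IsPiHallOf {2} V (m t ⊓ m v) := syl_of_syl_norm Nat.prime_two (syl_of_maximal
    Nat.prime_two pV (le_inf hVI le_normalizer) fun Q hQ h1 h2 => le_antisymm (fun x hx => by
      have := hB (h2 hx)
      rw [hV, cent_V] at this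
      exact (mem_V h.ht h.hv h.c).2 (h.dg.cent_V h.ht h.hv h.ne h.c (hQ.to_le (zpowers_le.2 hx))
        this.1 this.2)) h1)
  have hO := Burnside_hall Nat.prime_two hS hB
  obtain ⟨D, hD, hn⟩ := coprime_exists_syl hp (Or.inl (O_solv _)) (hVI.trans (O_norm _))
    (cop2' (O_odd _) pV)
  replace hD := hD.trans_single hO (by simpa using hp2)
  have hle := piCoreOf_le_hall hD
  have main : ∀ {a b : G}, Pr m a b → IsPiHallOf {p} D (m a ⊓ m b) → ¬ N[D] ≤ m a :=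
    fun {a b} k hD hN => by
      have h1 : IsPiHallOf {p} D (m b) := syl_of_norm_le hp hD (hD.le.trans inf_le_right)
        (le_inf (inf_le_right.trans hN) inf_le_left)
      have c1 := k.cp hp hc k.hv
      exact k.nm ((c1.eq k.dg hp hp2 h1).symm.trans ((k.cp hp hc k.ht).eq k.dg hp hp2
        (syl_of_le (c1.syl k.dg hp hp2 h1) (hD.le.trans inf_le_left) le_top)))
  refine ⟨D, syl_isPGroup hp hD, hn (mem_sup_left (mem_zpowers t)), hn (mem_sup_right (mem_zpowers v)),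
    le_trans ?_ ((piCoreOf_inf_le inf_le_left).trans hle),
    le_trans ?_ ((piCoreOf_inf_le inf_le_right).trans hle), main h hD,
    main h.swap (inf_comm (m t) _ ▸ hD)⟩
  · exact le_inf inf_le_left (inf_le_inf_right _ (piCoreOf_le _ _))
  · exact le_inf inf_le_left (le_inf inf_le_right (inf_le_left.trans (piCoreOf_le _ _)))

end Pr

end Cfsg.Agent.GW
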